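import Groth.Agent.Lib.GrpdQuot.ActionGrpd
import Groth.Agent.Lib.GrpdQuot.QuotCriteria
import Groth.Agent.Lib.SchEffective.AmpleFibres
import Groth.Agent.Lib.Chevalley.GroupQuot
import Groth.Agent.Lib.Rigidity.AbImage
import Groth.Agent.Lib.FlatFactor.OrbitImmersion
import Groth.Agent.Lib.Cube.AffineComplement
import Groth.Agent.Lib.GrpDeligne.Factor

/-!
# Quotients of abelian varieties by finite subgroup schemes
-/

set_option autoImplicit false
set_option linter.all false
set_option backward.isDefEq.respectTransparency false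
set_option maxHeartbeats 1000000

universe u

open CategoryTheory CategoryTheory.Limits MonoidalCategory CartesianMonoidalCategory MonObj GrpObj
open AlgebraicGeometry

noncomputable section

namespace GrothLib.TateThm

variable {k : Type u} [Field k]

/-- Finite type descends along finite surjections onto reduced schemes. -/
theorem locallyOfFiniteType_of_finite_surjective {X Y Z : Scheme.{u}} (p : X ⟶ Y) (q : Y ⟶ Z) [IsFinite p]
    [Surjective p] [IsReduced Y] [IsLocallyNoetherian Z] [LocallyOfFiniteType (p ≫ q)] :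
    LocallyOfFiniteType q := by
  haveI : IsSchemeTheoreticallyDominant p := IsSchemeTheoreticallyDominant.of_isDominant p
  rw [HasRingHomProperty.iff_appLE (P := @LocallyOfFiniteType)]
  intro V U e
  have hft : ((p ≫ q).appLE V.1 (p ⁻¹ᵁ U.1) (p.preimage_mono e)).hom.FiniteType :=
    HasRingHomProperty.appLE @LocallyOfFiniteType (p ≫ q) inferInstance V
      ⟨_, U.2.preimage p⟩ (p.preimage_mono e)
  have e2 : (p ≫ q).appLE V.1 (p ⁻¹ᵁ U.1) (p.preimage_mono e) = q.appLE V.1 U.1 e ≫ p.app U.1 := by
    rw [Scheme.Hom.app_eq_appLE, Scheme.Hom.appLE_comp_appLE]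
  rw [e2] at hft
  letI := (p.app U.1).hom.toAlgebra
  letI := (q.appLE V.1 U.1 e).hom.toAlgebra
  letI := (q.appLE V.1 U.1 e ≫ p.app U.1).hom.toAlgebra
  haveI : IsScalarTower Γ(Z, V.1) Γ(Y, U.1) Γ(X, p ⁻¹ᵁ U.1) := .of_algebraMap_eq' rfl
  haveI := IsLocallyNoetherian.component_noetherian V
  haveI : Module.Finite Γ(Y, U.1) Γ(X, p ⁻¹ᵁ U.1) := p.finite_app U.1 U.2
  haveI : Algebra.FiniteType Γ(Z, V.1) Γ(X, p ⁻¹ᵁ U.1) := hft
  exact ⟨fg_of_fg_of_fg Γ(Z, V.1) Γ(Y, U.1) Γ(X, p ⁻¹ᵁ U.1) Algebra.FiniteType.out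
    Module.Finite.fg_top (p.app_injective U.1)⟩

/-- A monomorphism with the points of a kernel is a kernel. -/
theorem isKernel_of_iff {N A Y : Over (Spec (CommRingCat.of k))} [GrpObj Y] (i : N ⟶ A) [Mono i] (q : A ⟶ Y)
    (h : ∀ {T : Over (Spec (CommRingCat.of k))} (x : T ⟶ A), x ≫ q = 1 ↔ ∃ n : T ⟶ N, n ≫ i = x) :
    AlgGrp.IsKernel i q := by
  have h1 : i ≫ q = toUnit N ≫ η[Y] := ((h i).2 ⟨𝟙 N, Category.id_comp i⟩).trans Hom.one_def
  refine ⟨⟨h1⟩, ⟨PullbackCone.IsLimit.mk h1 (fun s => ((h s.fst).1 (s.condition.trans ?_)).choose)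
    (fun s => ((h s.fst).1 (s.condition.trans ?_)).choose_spec) (fun s => toUnit_unique _ _)
    (fun s m hm _ => (cancel_mono i).1 (hm.trans ((h s.fst).1 (s.condition.trans ?_)).choose_spec.symm))⟩⟩
  all_goals rw [Hom.one_def, toUnit_unique s.snd (toUnit _)]

/-- **An abelian variety has a quotient by every finite subgroup scheme, and it is an abelian variety.** -/
theorem exists_quotient (A : Over (Spec (CommRingCat.of k))) [GrpObj A] [IsProper A.hom] [GeometricallyIntegral A.hom]
    {N : Over (Spec (CommRingCat.of k))} [GrpObj N] [IsFinite N.hom] (i : N ⟶ A) [IsMonHom i] [Mono i] :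
    ∃ (Y : Over (Spec (CommRingCat.of k))) (_ : GrpObj Y) (_ : IsCommMonObj Y) (q : A ⟶ Y),
      IsProper Y.hom ∧ GeometricallyIntegral Y.hom ∧ IsMonHom q ∧ IsFinite q.left ∧ Flat q.left ∧
        Surjective q.left ∧ AlgGrp.IsKernel i q := by
  haveI : IsCommMonObj A := GrothLib.Cube.isCommMonObj_abVar
  have hN1 : Flat N.hom := GrothLib.DiagGrp.flat_of_field _
  have hN2 : LocallyOfFinitePresentation N.hom := inferInstance
  let a : AlgGrp.Action N A :=
    { act := (fst N A ≫ i) * snd N A
      one_act := by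
        rw [MonObj.comp_mul, ← Category.assoc, whiskerRight_fst, Category.assoc, IsMonHom.one_hom, whiskerRight_snd,
          leftUnitor_hom]
        simp [← Hom.one_def, MonObj.one_eq_one]
      mul_act := by
        have e : μ[N] ≫ i = (fst N N ≫ i) * (snd N N ≫ i) := by
          rw [MonObj.mul_eq_mul, MonObj.mul_comp]
        simp only [MonObj.comp_mul, ← Category.assoc, whiskerRight_fst, whiskerRight_snd]
        simp only [Category.assoc, whiskerLeft_fst_assoc, whiskerLeft_snd, MonObj.comp_mul, e,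
          associator_hom_fst_assoc, associator_hom_snd_fst_assoc, associator_hom_snd_snd]
        rw [_root_.mul_assoc] }
  have hfree : GrothLib.GrpdQuot.ActionFree a := fun T g x h => by
    have h2 : (g ≫ i) * x = x := by
      have e : lift g x ≫ a.act = (g ≫ i) * x := by
        show lift g x ≫ ((fst N A ≫ i) * snd N A) = _
        rw [MonObj.comp_mul, lift_fst_assoc, lift_snd]
      exact e.symm.trans h
    rw [← cancel_mono i, MonObj.one_comp]
    exact mul_eq_right.1 h2
  let G := GrothLib.GrpdQuot.actionGrpd a hfree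
  haveI : IsFinite G.s := GrothLib.GrpdQuot.property_snd (G := N) (X := A) @IsFinite ‹IsFinite N.hom›
  haveI : Flat G.s := GrothLib.GrpdQuot.property_snd (G := N) (X := A) @Flat hN1
  haveI : LocallyOfFinitePresentation G.s :=
    GrothLib.GrpdQuot.property_snd (G := N) (X := A) @LocallyOfFinitePresentation hN2
  haveI : Mono G.j := GrothLib.GrpdQuot.mono_actionGrpd_j a hfree
  obtain ⟨L, hL⟩ := GrothLib.Cube.exists_isAmple A
  have h3 : ∀ Z : Set G.U, IsClosed Z → Z.Nonempty →
      ∃ u ∈ Z, ∃ W : G.U.Opens, IsAffineOpen W ∧ ∀ r : G.R, G.s r = u → G.t r ∈ W := by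
    rintro Z - ⟨u, hu⟩
    have hfin : (⇑G.t '' (⇑G.s ⁻¹' {u})).Finite := (IsFinite.finite_preimage_singleton G.s u).image _
    classical
    obtain ⟨W, hW, hmem⟩ := GrothLib.SchEffective.exists_affineOpen_finset (X := A.left) hL hfin.toFinset
    exact ⟨u, hu, W, hW, fun r hr => hmem _ (hfin.mem_toFinset.2 ⟨r, hr, rfl⟩)⟩
  have hcov := GrothLib.GrpdQuot.covered_of_closed G h3
  obtain ⟨M, m, hm, hsurj, hpb, hq⟩ := GrothLib.GrpdQuot.exists_fppf_quotient G hcov
  let q : A ⟶ M := Over.homMk m.left (Over.w m)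
  obtain ⟨hmf, hml, hmp⟩ := id hm
  haveI : IsFinite q.left := hmf
  haveI : Flat q.left := hml
  haveI : LocallyOfFinitePresentation q.left := hmp
  haveI : Surjective q.left := hsurj
  have hw : q.left ≫ M.hom = A.hom := Over.w q
  haveI : IsReduced A.left := by
    haveI : IsIntegral A.left := GeometricallyIntegral.isIntegral_of_subsingleton A.hom
    infer_instance
  haveI : IsReduced M.left := GrothLib.FlatFactor.isReduced_of_flat_surjective q.left
  haveI : IsSeparated (q.left ≫ M.hom) := by rw [hw]; infer_instance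
  haveI : IsSeparated M.hom := GrothLib.GrpdQuot.isSeparated_of_comp_surjective q.left M.hom
  haveI : LocallyOfFiniteType M.hom := by
    haveI : LocallyOfFiniteType (q.left ≫ M.hom) := by rw [hw]; infer_instance
    exact GrothLib.TateThm.locallyOfFiniteType_of_finite_surjective q.left M.hom
  haveI : UniversallyClosed M.hom := by
    haveI : UniversallyClosed (q.left ≫ M.hom) := by rw [Over.w]; infer_instance
    exact UniversallyClosed.of_comp_surjective q.left M.hom
  haveI : IsProper M.hom := {}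
  haveI : GeometricallyIntegral (q.left ≫ M.hom) := by rw [Over.w]; infer_instance
  haveI : GeometricallyIntegral M.hom := GrothLib.Rigidity.geometricallyIntegral_of_surjective q.left M.hom
  have hpb' : IsPullback a.act (snd N A) q q := IsPullback.of_map (Over.forget _) (Over.OverMorphism.ext hpb.w) hpb
  have hker : ∀ {T : Over (Spec (CommRingCat.of k))} (x y : T ⟶ A), x ≫ q = y ≫ q ↔
      ∃ h : T ⟶ N, y = x * (h ≫ i) := fun {T} x y => by
    constructor
    · intro h
      refine ⟨hpb'.lift y x h.symm ≫ fst N A, ?_⟩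
      conv_lhs => rw [← hpb'.lift_fst y x h.symm]
      show hpb'.lift y x h.symm ≫ ((fst N A ≫ i) * snd N A) = _
      rw [MonObj.comp_mul, ← Category.assoc, hpb'.lift_snd, mul_comm]
    · rintro ⟨h, rfl⟩
      have e := congrArg (lift h x ≫ ·) hpb'.w
      rw [← Category.assoc, ← Category.assoc, lift_snd] at e
      have e2 : lift h x ≫ a.act = x * (h ≫ i) := by
        show lift h x ≫ ((fst N A ≫ i) * snd N A) = _
        rw [MonObj.comp_mul, lift_fst_assoc, lift_snd, mul_comm]
      rw [e2] at e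
      exact e.symm
  have hnorm : AlgGrp.IsNormalHom i := fun T g n => ⟨n, by rw [mul_comm g, _root_.mul_assoc, mul_inv_cancel, _root_.mul_one]⟩
  obtain ⟨str, hqm⟩ := GrothLib.Chevalley.exists_grpObj_quotient i hnorm q
    ⟨inferInstance, inferInstance, inferInstance⟩ hker
  letI := str
  haveI := hqm
  refine ⟨M, str, GrothLib.Cube.isCommMonObj_abVar, q, inferInstance, inferInstance, hqm, inferInstance,
    inferInstance, inferInstance, ?_⟩
  refine GrothLib.TateThm.isKernel_of_iff i q fun {T} x => ?_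
  constructor
  · intro h
    obtain ⟨n, hn⟩ := (hker (1 : T ⟶ A) x).1 (by rw [h, MonObj.one_comp])
    exact ⟨n, by rw [hn, _root_.one_mul]⟩
  · rintro ⟨n, rfl⟩
    rw [← (hker (1 : T ⟶ A) (n ≫ i)).2 ⟨n, (_root_.one_mul _).symm⟩, MonObj.one_comp]

end GrothLib.TateThm
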