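import Groth.Agent.Lib.TateThm.Finiteness
import Groth.Agent.Lib.TateThm.QuotFin
import Groth.Agent.Lib.Poincare.LamEuler
import Groth.Agent.Lib.Poincare.DualIsog
import Groth.Agent.Lib.Poincare.PosTransfer
import Groth.Agent.Lib.Cube.AmpleDescent
import Groth.Prelude.Def_AgPol

/-!
# A polarisation of degree `d²` gives an ample class of Euler characteristic `±2^g d`
-/

set_option autoImplicit false
set_option linter.all false
set_option backward.isDefEq.respectTransparency false
set_option maxHeartbeats 1000000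

universe u

open CategoryTheory CategoryTheory.Limits AlgebraicGeometry MonoidalCategory CartesianMonoidalCategory
open GrothLib.Ample GrothLib.Cube
open GrothLib.Index (geomFib geomProj)
open scoped MonObj CategoryTheory.Obj

noncomputable section

namespace GrothLib.TateThm

variable {k : Type u} [Field k]

/-- A group scheme receiving a finite flat surjection from an abelian variety is an abelian variety. -/
theorem isAbVar_of_finite_flat_surjective {B C : Over (Spec (CommRingCat.of k))} [GrpObj C]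
    [IsProper B.hom] [GeometricallyIntegral B.hom] (q : B ⟶ C) [IsFinite q.left] [Flat q.left] [Surjective q.left] :
    IsProper C.hom ∧ GeometricallyIntegral C.hom := by
  haveI : IsReduced B.left := by
    haveI : IsIntegral B.left := GeometricallyIntegral.isIntegral_of_subsingleton B.hom
    infer_instance
  haveI : IsReduced C.left := GrothLib.FlatFactor.isReduced_of_flat_surjective q.left
  haveI : IsSeparated C.hom := GrpSchField.isSeparated C
  haveI : LocallyOfFiniteType C.hom := by
    haveI : LocallyOfFiniteType (q.left ≫ C.hom) := by rw [Over.w]; infer_instance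
    exact locallyOfFiniteType_of_finite_surjective q.left C.hom
  haveI : UniversallyClosed C.hom := by
    haveI : UniversallyClosed (q.left ≫ C.hom) := by rw [Over.w]; infer_instance
    exact UniversallyClosed.of_comp_surjective q.left C.hom
  haveI : IsProper C.hom := {}
  haveI : GeometricallyIntegral (q.left ≫ C.hom) := by rw [Over.w]; infer_instance
  exact ⟨inferInstance, Rigidity.geometricallyIntegral_of_surjective q.left C.hom⟩

section Sym

variable {A : Over (Spec (CommRingCat.of k))} [GrpObj A] [IsCommMonObj A] [IsProper A.hom] [GeometricallyIntegral A.hom]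

/-- The diagonal of the Mumford class. -/
theorem pull_diag_lam (x : Pic A.left) :
    pull (lift (𝟙 A) (𝟙 A)).left (MumfordPoincare.lam x) = x * pull ((𝟙 A : A ⟶ A)⁻¹).left x := by
  have h := cubeClass_eq_one (𝟙 A) (𝟙 A)⁻¹ (𝟙 A) x
  rw [cubeClass, mul_inv_cancel, inv_mul_cancel, _root_.one_mul, pull_one_hom, pull_over_id, _root_.one_mul,
    _root_.mul_one, mul_inv_eq_one] at h
  rw [MumfordPoincare.lam, KL.mc, pull_addClass, lift_fst, lift_snd_assoc, Category.id_comp, addClass, pull_over_id,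
    ← h]
  generalize pull ((𝟙 A : A ⟶ A)⁻¹).left x = i
  rw [mul_inv_eq_iff_eq_mul]
  ac_rfl

/-- The Mumford class is unchanged by pulling back along inversion. -/
theorem lam_pull_inv (x : Pic A.left) :
    MumfordPoincare.lam (pull ((𝟙 A : A ⟶ A)⁻¹).left x) = MumfordPoincare.lam x := by
  have hs : pull (lift (snd A A) (fst A A)).left (MumfordPoincare.lam x) = MumfordPoincare.lam x := by
    rw [MumfordPoincare.lam, KL.mc, pull_addClass, Category.comp_id, lift_fst, lift_snd, KL.addClass_comm]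
  have hj : pull (A ◁ (𝟙 A : A ⟶ A)⁻¹).left (MumfordPoincare.lam x) = (MumfordPoincare.lam x)⁻¹ := by
    rw [MumfordPoincare.lam, KL.pull_mc, Category.comp_id, KL.mc_inv]
  have e : lift (fst A A)⁻¹ (snd A A)⁻¹ =
      (((A ◁ (𝟙 A : A ⟶ A)⁻¹) ≫ lift (snd A A) (fst A A)) ≫ (A ◁ (𝟙 A : A ⟶ A)⁻¹)) ≫ lift (snd A A) (fst A A) := by
    apply CartesianMonoidalCategory.hom_ext <;>
      simp [GrpObj.comp_inv]
  have h2 : pull (lift (fst A A)⁻¹ (snd A A)⁻¹).left (MumfordPoincare.lam x) = MumfordPoincare.lam x := by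
    rw [e, ← pull_pull_over, hs, ← pull_pull_over, hj, map_inv, ← pull_pull_over, hs, hj, inv_inv]
  conv_rhs => rw [← h2]
  rw [MumfordPoincare.lam, MumfordPoincare.lam, KL.mc, KL.mc, pull_addClass, Category.comp_id, lift_fst, lift_snd,
    addClass, addClass, pull_pull_over, pull_pull_over, pull_pull_over, GrpObj.comp_inv, GrpObj.comp_inv,
    GrpObj.comp_inv, Category.comp_id, Category.comp_id, Category.comp_id, _root_.mul_inv]

theorem lam_mul (x y : Pic A.left) :
    MumfordPoincare.lam (x * y) = MumfordPoincare.lam x * MumfordPoincare.lam y := by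
  rw [MumfordPoincare.lam, MumfordPoincare.lam, MumfordPoincare.lam, KL.mc, KL.mc, KL.mc, KL.addClass_mul_class]

variable [IsAlgClosed k]

/-- The symmetrisation has the Euler characteristic of the square, up to sign. -/
theorem natAbs_E_sym {g : ℕ} (hg : topologicalKrullDim A.left = (g : WithBot ℕ∞)) (x : Pic A.left) :
    (MumfordEuler.E A (x * pull ((𝟙 A : A ⟶ A)⁻¹).left x)).natAbs = 2 ^ g * (MumfordEuler.E A x).natAbs := by
  have h1 := LamEuler.E_lam hg (x * pull ((𝟙 A : A ⟶ A)⁻¹).left x)
  have h2 := LamEuler.E_lam hg (x ^ 2)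
  rw [lam_mul, lam_pull_inv, ← lam_mul, ← sq, h2] at h1
  have h3 := congrArg Int.natAbs (mul_left_cancel₀ (pow_ne_zero g (by norm_num : (-1 : ℤ) ≠ 0)) h1)
  rw [Int.natAbs_pow, Int.natAbs_pow] at h3
  rw [← Nat.pow_left_injective (by norm_num : 2 ≠ 0) h3, TateThm.E_pow hg, Int.natAbs_mul, Int.natAbs_pow,
    Int.natAbs_natCast]

end Sym

section Bc

variable {S S' : Scheme.{u}} (b : S' ⟶ S) {A At : Over S} (φ : AgPol.DualMap A At)

theorem bcDual_eq : AgPol.bcDual b A At φ = DualBC.phi b φ := by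
  funext U c
  refine Over.OverMorphism.ext (pullback.hom_ext ?_ ?_)
  · refine (pullback.lift_fst _ _ _).trans ?_
    refine Eq.trans ?_ (congrArg CategoryTheory.Over.Hom.left
      (DualBC.down_up (φ (DualBC.res b U) (PicF.pullCl (DualBC.cmp A U) c)))).symm
    have e : (AgPol.bcXTIso b A U).inv = DualBC.cmp A U := by
      refine pullback.hom_ext (pullback.hom_ext ?_ ?_) ?_
      · rw [Category.assoc, AgPol.bcXTIso]
        refine (pullbackLeftPullbackSndIso_inv_fst A.hom b U.hom).trans ?_
        exact (((congrArg (· ≫ pullback.fst A.hom b) (pullback.lift_fst _ _ _))).trans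
          (pullback.lift_fst _ _ _)).symm
      · rw [Category.assoc, AgPol.bcXTIso]
        refine (pullbackLeftPullbackSndIso_inv_fst_snd A.hom b U.hom).trans ?_
        exact (((congrArg (· ≫ pullback.snd A.hom b) (pullback.lift_fst _ _ _))).trans
          (pullback.lift_snd _ _ _)).symm
      · rw [AgPol.bcXTIso]
        exact (pullbackLeftPullbackSndIso_inv_snd_snd A.hom b U.hom).trans (pullback.lift_snd _ _ _).symm
    rw [e]
  · exact (pullback.lift_snd _ _ _).trans (Over.w (DualBC.phi b φ U c)).symm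

end Bc

/-- **A polarisation of degree `d²` gives an ample class of Euler characteristic `±2^g d`.** -/
theorem exists_ampleCls_of_polarization (B Bt : Over (Spec (CommRingCat.of k))) [GrpObj B] [IsCommMonObj B]
    [IsProper B.hom] [GeometricallyIntegral B.hom] [GrpObj Bt] (φ : AgPol.DualMap B Bt)
    (hφ : AbDual.IsDualAV Scheme.fppfPrecoverage B Bt φ) (lam : B ⟶ Bt)
    (hpol : AgPol.IsPolarization B Bt φ lam) {d : ℕ} (hd : 1 ≤ d) (hdeg : AgPol.HasDegSq lam d) {g : ℕ}
    (hg : topologicalKrullDim B.left = (g : WithBot ℕ∞)) :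
    ∃ M : Pic B.left, AmpleCls M ∧ (MumfordEuler.E B M).natAbs = 2 ^ g * d := by
  obtain ⟨hfin, hflat, hlfp, hrk⟩ := hdeg
  haveI := hfin; haveI := hflat; haveI := hlfp
  haveI : Surjective lam.left := (Scheme.Hom.one_le_finrank_iff_surjective lam.left).1 fun y => by
    rw [hrk y]; exact Nat.one_le_pow _ _ hd
  obtain ⟨hBtP, hBtG⟩ := isAbVar_of_finite_flat_surjective lam
  haveI := hBtP; haveI := hBtG
  haveI : Smooth B.hom := Cube.smooth_abVar B
  haveI : Smooth Bt.hom := Cube.smooth_abVar Bt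
  obtain ⟨p, hξ⟩ := DualIsog.exists_poincare hφ
  have hbr := Dual.isBirigid_of_isPoincareCl hφ (Dual.hasCls_rep p) hξ
  obtain ⟨hz, hid, -⟩ := hξ
  have hzp : Dual.PZ B Bt p := (Dual.pz_iff (Dual.hasCls_rep p)).1 hz
  -- the geometric fibre
  let t : Spec (CommRingCat.of (AlgebraicClosure k)) ⟶ Spec (CommRingCat.of k) :=
    Spec.map (CommRingCat.ofHom (algebraMap k (AlgebraicClosure k)))
  let BΩ := geomFib B
  let BtΩ := geomFib Bt
  haveI : IsProper BΩ.hom := inferInstanceAs (IsProper (pullback.snd B.hom t))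
  haveI : GeometricallyIntegral BΩ.hom := inferInstanceAs (GeometricallyIntegral (pullback.snd B.hom t))
  haveI : Smooth BΩ.hom := inferInstanceAs (Smooth (pullback.snd B.hom t))
  haveI : IsProper BtΩ.hom := inferInstanceAs (IsProper (pullback.snd Bt.hom t))
  haveI : GeometricallyIntegral BtΩ.hom := inferInstanceAs (GeometricallyIntegral (pullback.snd Bt.hom t))
  haveI : Smooth BtΩ.hom := inferInstanceAs (Smooth (pullback.snd Bt.hom t))
  haveI : IsCommMonObj BΩ := isCommMonObj_abVar (A := BΩ)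
  let φΩ := DualBC.phi t φ
  have hφΩ : AbDual.IsDualAV Scheme.fppfPrecoverage BΩ BtΩ φΩ := DualBC.isDualAV t B Bt φ hφ
  let lamΩ : BΩ ⟶ BtΩ := (Over.pullback t).map lam
  obtain ⟨L, hLamp, hLam⟩ := hpol.2 (AlgebraicClosure k) t
  rw [bcDual_eq] at hLam
  have hLi : PicF.IsInvertible L := hLamp.1
  have hpsi : MumfordPoincare.psi φΩ (clsMod hLi) = lamΩ := PosTransfer.psi_of_isLambda hLi hLam
  set x := clsMod hLi with hx
  -- the degree on the fibre
  have hsq : IsPullback (pullback.fst B.hom t) lamΩ.left lam.left (pullback.fst Bt.hom t) := by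
    refine IsPullback.of_bot ?_ (DualBC.map_left_fst lam).symm (IsPullback.of_hasPullback Bt.hom t)
    rw [Over.w lam]
    convert IsPullback.of_hasPullback B.hom t using 1
    exact Over.w lamΩ
  haveI : IsFinite lamΩ.left := MorphismProperty.of_isPullback hsq ‹_›
  haveI : Flat lamΩ.left := MorphismProperty.of_isPullback hsq ‹_›
  have hrkΩ : ∀ y : BtΩ.left, lamΩ.left.finrank y = d ^ 2 := fun y =>
    (Scheme.Hom.finrank_of_isPullback _ _ _ _ hsq y).trans (hrk _)
  haveI : IsFinite (MumfordPoincare.psi φΩ x).left := hpsi ▸ ‹IsFinite lamΩ.left›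
  haveI : Flat (MumfordPoincare.psi φΩ x).left := hpsi ▸ ‹Flat lamΩ.left›
  have hEx : (MumfordEuler.E BΩ x).natAbs = d := by
    have h := congrArg Int.natAbs (MumfordEuler.E_sq hφΩ x (d ^ 2) (by rw [hpsi]; exact hrkΩ))
    rw [Int.natAbs_pow, Int.natAbs_natCast] at h
    exact Nat.pow_left_injective (by norm_num : 2 ≠ 0) h
  -- the Poincaré class on the fibre
  let pΩ : Pic (BΩ ⊗ BtΩ).left := pull (Bidual.bcProd t B Bt) p
  have hzΩ : Dual.PZ BΩ BtΩ pΩ := Bidual.pz_bc hφ t hzp
  have hidΩ : Dual.dphi φΩ BtΩ pΩ = 𝟙 BtΩ := by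
    refine (Bidual.phi_bc hφ t hzp).trans ?_
    have e : Dual.dphi φ Bt p = 𝟙 Bt := hid
    rw [e, Category.comp_id]
    exact DualBC.up_down (𝟙 BtΩ)
  have hpull : pull (BΩ ◁ lamΩ).left pΩ = MumfordPoincare.lam x := by
    refine Dual.eq_of_dphi hφΩ (hzΩ.pullT lamΩ) (MumfordPoincare.pz_lam x) ?_ ?_
    · have e : lift (1 : BΩ ⟶ BΩ) (𝟙 BΩ) ≫ BΩ ◁ lamΩ = lamΩ ≫ lift (1 : BtΩ ⟶ BΩ) (𝟙 BtΩ) := by
        apply CartesianMonoidalCategory.hom_ext <;> simp [MonObj.comp_one]
      rw [pull_pull_over, e, ← pull_pull_over, MumfordPoincare.lam, KL.pull_sec_mc]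
      refine (congrArg (pull lamΩ.left) ?_).trans (map_one _)
      exact Bidual.rigid_bc t hbr.1
    · rw [Dual.dphi_pull hφΩ hzΩ, hidΩ, Category.comp_id]
      exact hpsi.symm
  -- the class
  let M : Pic B.left := pull (lift (𝟙 B) lam).left p
  have hMx : pull (geomProj B) M = x * pull ((𝟙 BΩ : BΩ ⟶ BΩ)⁻¹).left x := by
    have e : pullback.fst B.hom t ≫ (lift (𝟙 B) lam).left = (lift (𝟙 BΩ) lamΩ).left ≫ Bidual.bcProd t B Bt := by
      refine pullback.hom_ext (f := B.hom) (g := Bt.hom) ?_ ?_
      · show (_ ≫ _) ≫ (fst B Bt).left = (_ ≫ _) ≫ (fst B Bt).left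
        rw [Category.assoc, ← Over.comp_left, lift_fst, Category.assoc, Bidual.bcProd_fst, ← Category.assoc,
          ← Over.comp_left, lift_fst, Over.id_left, Category.comp_id]
        exact (Category.id_comp _).symm
      · show (_ ≫ _) ≫ (snd B Bt).left = (_ ≫ _) ≫ (snd B Bt).left
        rw [Category.assoc, ← Over.comp_left, lift_snd, Category.assoc, Bidual.bcProd_snd, ← Category.assoc,
          ← Over.comp_left, lift_snd]
        exact (DualBC.map_left_fst lam).symm
    show pull (pullback.fst B.hom t) (pull (lift (𝟙 B) lam).left p) = _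
    rw [pull_comp, e, ← pull_comp]
    show pull (lift (𝟙 BΩ) lamΩ).left pΩ = _
    rw [show lift (𝟙 BΩ) lamΩ = lift (𝟙 BΩ) (𝟙 BΩ) ≫ (BΩ ◁ lamΩ) by
      apply CartesianMonoidalCategory.hom_ext <;> simp, ← pull_pull_over, hpull, pull_diag_lam]
  refine ⟨M, ⟨Dual.rep M, Dual.hasCls_rep M, ?_⟩, ?_⟩
  · refine Cube.isAmple_of_baseChange_field (Index.isPullback_geomProj B) (Dual.hasCls_rep M).choose ?_
    let j : BΩ ⟶ BΩ := (𝟙 BΩ)⁻¹
    haveI : IsIso j := ⟨j, by simp [j, GrpObj.comp_inv]; exact inv_inv _, by simp [j, GrpObj.comp_inv]; exact inv_inv _⟩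
    haveI : IsIso j.left := inferInstanceAs (IsIso ((Over.forget _).map j))
    have hxL := hasCls_clsMod hLi
    have h2 := hxL.tensor (hxL.pullback j.left)
    have h3 := (Dual.hasCls_rep M).pullback (geomProj B)
    rw [hMx] at h3
    obtain ⟨i⟩ := h3.iso h2 rfl
    exact (Ample.isAmple_iff_of_iso i).2
      (Ample.isAmple_tensorMod hLamp (Ample.isAmple_pullback_of_isAffineHom j.left hLamp))
  · have hE : MumfordEuler.E BΩ (pull (geomProj B) M) = MumfordEuler.E B M := by
      rw [← MumfordEuler.E_eq ((Dual.hasCls_rep M).pullback (geomProj B)), ← MumfordEuler.E_eq (Dual.hasCls_rep M)]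
      exact Index.euler_geom B (Dual.hasCls_rep M).choose
    rw [← hE, hMx, natAbs_E_sym (Index.dim_geom B hg), hEx]

end GrothLib.TateThm
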