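import Groth.Agent.Lib.Involution.Semisimple
import Groth.Agent.Lib.Comod.VNRegular
import Groth.Agent.Lib.Poincare.Frob
import Mathlib.FieldTheory.Perfect

/-!
# Semisimple algebras of endomorphisms: idempotents and the double centralizer
-/

set_option autoImplicit false
set_option linter.all false
set_option maxHeartbeats 1000000

open scoped TensorProduct

noncomputable section

namespace GrothLib.TateThm

universe v w z

/-- The centre of a semisimple algebra over a perfect field is separable. -/
theorem isSeparable_center {F : Type v} [Field F] [PerfectField F] (A : Type w) [Ring A] [Algebra F A]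
    [FiniteDimensional F A] [IsSemisimpleRing A] : Algebra.IsSeparable F (Subalgebra.center F A) := by
  classical
  refine ⟨fun z => ?_⟩
  have hint : IsIntegral F z := Algebra.IsIntegral.isIntegral z
  show (minpoly F z).Separable
  rw [PerfectField.separable_iff_squarefree, ← isRadical_iff_squarefree_of_ne_zero (minpoly.ne_zero hint)]
  intro n P hP
  refine minpoly.dvd F z ?_
  have h1 : IsNilpotent (Polynomial.aeval z P) := ⟨n, by
    rw [← map_pow]
    obtain ⟨c, hc⟩ := hP
    rw [hc, map_mul, minpoly.aeval, zero_mul]⟩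
  exact Subtype.ext (GrothLib.Poincare.eq_zero_of_isNilpotent_central
    (fun y => Subalgebra.mem_center_iff.1 (Polynomial.aeval z P).2 y) (h1.map (Subalgebra.center F A).val))

/-- The span of a ring homomorphism out of a semisimple `ℚ`-algebra is semisimple. -/
theorem isSemisimpleRing_adjoin_range {A : Type w} [Ring A] [Algebra ℚ A] [FiniteDimensional ℚ A]
    [IsSemisimpleRing A] {K : Type v} [Field K] [CharZero K] {R : Type z} [Ring R] [Algebra K R] (f : A →+* R) :
    IsSemisimpleRing (Algebra.adjoin K (Set.range f)) := by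
  letI : Algebra ℚ R := Algebra.compHom R (algebraMap ℚ K)
  haveI : IsScalarTower ℚ K R := IsScalarTower.of_algebraMap_eq fun q => rfl
  haveI := isSeparable_center (F := ℚ) A
  haveI := GrothLib.Involution.isSemisimpleRing_baseChange (k := ℚ) A K
  let g : A →ₐ[ℚ] R := f.toRatAlgHom
  let φ : K ⊗[ℚ] A →ₐ[K] R :=
    Algebra.TensorProduct.lift (Algebra.ofId K R) g fun c a => Algebra.commutes c (g a)
  have hφ : φ.range = Algebra.adjoin K (Set.range f) := by
    refine le_antisymm ?_ (Algebra.adjoin_le ?_)
    · rintro _ ⟨x, rfl⟩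
      induction x using TensorProduct.induction_on with
      | zero => rw [map_zero]; exact zero_mem _
      | tmul c a =>
        rw [AlgHom.toRingHom_eq_coe, RingHom.coe_coe, Algebra.TensorProduct.lift_tmul]
        exact mul_mem (Subalgebra.algebraMap_mem _ c) (Algebra.subset_adjoin ⟨a, rfl⟩)
      | add x y hx hy => rw [map_add]; exact add_mem hx hy
    · rintro _ ⟨a, rfl⟩
      exact ⟨(1 : K) ⊗ₜ[ℚ] a, by
        rw [AlgHom.toRingHom_eq_coe, RingHom.coe_coe, Algebra.TensorProduct.lift_tmul, map_one, one_mul]
        rfl⟩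
  rw [← hφ]
  exact RingHom.isSemisimpleRing_of_surjective φ.rangeRestrict.toRingHom φ.rangeRestrict_surjective

variable {K : Type v} [Field K] {V : Type w} [AddCommGroup V] [Module K V] [FiniteDimensional K V]
  (E : Subalgebra K (Module.End K V)) [IsSemisimpleRing E]

/-- The range of an element is the range of an idempotent. -/
theorem exists_idempotent_range (a : Module.End K V) (ha : a ∈ E) :
    ∃ e ∈ E, e * e = e ∧ LinearMap.range e = LinearMap.range a := by
  obtain ⟨y, hy⟩ := GrothLib.Comodule.exists_mul_mul_eq_of_isSemisimpleRing (⟨a, ha⟩ : E)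
  have h : a * y.1 * a = a := congrArg Subtype.val hy
  refine ⟨a * y.1, E.mul_mem ha y.2, by rw [← mul_assoc, h], le_antisymm ?_ ?_⟩
  · exact LinearMap.range_comp_le_range _ _
  · conv_lhs => rw [← h]
    exact LinearMap.range_comp_le_range _ _

/-- Sums of ranges are ranges. -/
theorem exists_range_eq_sup (a b : Module.End K V) (ha : a ∈ E) (hb : b ∈ E) :
    ∃ c ∈ E, LinearMap.range c = LinearMap.range a ⊔ LinearMap.range b := by
  obtain ⟨e, he, hee, hea⟩ := exists_idempotent_range E a ha
  obtain ⟨f, hf, hff, hfb⟩ := exists_idempotent_range E _ (E.mul_mem (E.sub_mem E.one_mem he) hb)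
  have hle : LinearMap.range f ≤ LinearMap.range (1 - e) := hfb.trans_le (LinearMap.range_comp_le_range _ _)
  have hef : e * f = 0 := LinearMap.ext fun x => by
    obtain ⟨w, hw⟩ := hle ⟨x, rfl⟩
    show e (f x) = 0
    rw [← hw]
    show (e * (1 - e)) w = 0
    rw [mul_sub, mul_one, hee, sub_self, LinearMap.zero_apply]
  refine ⟨e + f * (1 - e), E.add_mem he (E.mul_mem hf (E.sub_mem E.one_mem he)), le_antisymm ?_ (sup_le ?_ ?_)⟩
  · rintro _ ⟨x, rfl⟩
    obtain ⟨w, hw⟩ := hfb.le ⟨(1 - e) x, rfl⟩
    rw [LinearMap.add_apply, Module.End.mul_apply, ← hw, Module.End.mul_apply]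
    have hb' : (1 - e) (b w) = b w - e (b w) := by simp
    rw [hb', add_sub]
    exact Submodule.sub_mem _ (Submodule.add_mem_sup (hea.le ⟨x, rfl⟩) ⟨w, rfl⟩)
      (Submodule.mem_sup_left (hea.le ⟨_, rfl⟩))
  · rw [← hea]
    have : (e + f * (1 - e)) * e = e := by rw [add_mul, hee, mul_assoc, sub_mul, one_mul, hee, sub_self, mul_zero, add_zero]
    conv_lhs => rw [← this]
    exact LinearMap.range_comp_le_range _ _
  · rintro _ ⟨x, rfl⟩
    obtain ⟨w, hw⟩ := hfb.ge ⟨x, rfl⟩
    have h1 : (e + f * (1 - e)) * f = f := by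
      rw [add_mul, hef, zero_add, mul_assoc, sub_mul, one_mul, hef, sub_zero, hff]
    obtain ⟨w', hw'⟩ : e (b x) ∈ LinearMap.range (e + f * (1 - e)) := ⟨e (b x), by
      have : (e + f * (1 - e)) * e = e := by
        rw [add_mul, hee, mul_assoc, sub_mul, one_mul, hee, sub_self, mul_zero, add_zero]
      show ((e + f * (1 - e)) * e) (b x) = e (b x)
      rw [this]⟩
    refine ⟨f w + w', ?_⟩
    rw [map_add, hw', show (e + f * (1 - e)) (f w) = f w from LinearMap.congr_fun h1 w, hw]
    simp

/-- Complements of ranges commuting with everything commuting with the algebra. -/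
theorem exists_compl (a : Module.End K V) (ha : a ∈ E) :
    ∃ W' : Submodule K V, IsCompl (LinearMap.range a) W' ∧
      ∀ g : Module.End K V, (∀ e ∈ E, g * e = e * g) → W'.map g ≤ W' := by
  obtain ⟨e, he, hee, hea⟩ := exists_idempotent_range E a ha
  refine ⟨LinearMap.ker e, hea ▸ LinearMap.IsIdempotentElem.isCompl hee, fun g hg => ?_⟩
  rintro _ ⟨x, hx, rfl⟩
  rw [SetLike.mem_coe, LinearMap.mem_ker] at hx
  rw [LinearMap.mem_ker]
  show (e * g) x = 0
  rw [← hg e he, Module.End.mul_apply, hx, map_zero]

/-- **The double centralizer theorem.** -/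
theorem mem_of_commute_centralizer (φ : Module.End K V)
    (h : ∀ d : Module.End K V, (∀ e ∈ E, d * e = e * d) → φ * d = d * φ) : φ ∈ E := by
  haveI : Module.Finite (Module.End E V) V := Module.Finite.of_restrictScalars_finite K (Module.End E V) V
  let φ' : Module.End (Module.End E V) V :=
    { toFun := φ
      map_add' := map_add φ
      map_smul' := fun D x => by
        have hD := h (D.restrictScalars K) fun e he => LinearMap.ext fun v => (D.map_smul (⟨e, he⟩ : E) v)
        exact LinearMap.congr_fun hD x }
  obtain ⟨r, hr⟩ := Module.Finite.toModuleEnd_moduleEnd_surjective (R := E) (M := V) φ'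
  have : φ = r.1 := LinearMap.ext fun x => (LinearMap.congr_fun hr x).symm
  exact this ▸ r.2

end GrothLib.TateThm
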