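import Groth.Agent.Lib.TateThm.Rank
import Mathlib.RingTheory.Artinian.Ring

/-!
# The centre of the endomorphism algebra is generated by Frobenius
-/

set_option autoImplicit false
set_option linter.all false
set_option backward.isDefEq.respectTransparency false
set_option maxHeartbeats 1000000

universe u

open CategoryTheory MonoidalCategory CartesianMonoidalCategory MonObj GrpObj AlgebraicGeometry AbDual
open scoped TensorProduct

noncomputable section

namespace GrothLib.TateThm

/-- A semisimple endomorphism generates a semisimple algebra. -/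
theorem isSemisimpleRing_adjoin_singleton {K : Type*} [Field K] {V : Type*} [AddCommGroup V] [Module K V]
    [FiniteDimensional K V] {π : Module.End K V} (h : π.IsSemisimple) :
    IsSemisimpleRing (Algebra.adjoin K {π}) := by
  let E := Algebra.adjoin K ({π} : Set (Module.End K V))
  have hcomm : ∀ a ∈ ({π} : Set (Module.End K V)), ∀ b ∈ ({π} : Set (Module.End K V)), a * b = b * a := fun a ha b hb => by
    rw [Set.mem_singleton_iff.1 ha, Set.mem_singleton_iff.1 hb]
  letI : CommRing E := { E.toRing with mul_comm := fun a b => Subtype.ext (by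
    obtain ⟨p, hp⟩ := (Algebra.adjoin_singleton_eq_range_aeval K π).le a.2
    obtain ⟨q, hq⟩ := (Algebra.adjoin_singleton_eq_range_aeval K π).le b.2
    show a.1 * b.1 = b.1 * a.1
    rw [← hp, ← hq, AlgHom.toRingHom_eq_coe, RingHom.coe_coe, ← map_mul, ← map_mul, mul_comm]) }
  haveI : Module.Finite K E := inferInstanceAs (Module.Finite K E.toSubmodule)
  haveI : IsArtinianRing E := IsArtinianRing.of_finite K E
  haveI : IsReduced E := ⟨fun x hx => by
    obtain ⟨p, hp⟩ := (Algebra.adjoin_singleton_eq_range_aeval K π).le x.2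
    have hs : Module.End.IsSemisimple x.1 := hp ▸ h.aeval p
    exact Subtype.ext (Module.End.eq_zero_of_isNilpotent_isSemisimple (hx.map E.val) hs)⟩
  exact IsArtinianRing.isSemisimpleRing_of_isReduced E

/-- An element commuting with the centralizer of a semisimple endomorphism is a polynomial in it. -/
theorem exists_aeval_of_commute {K : Type*} [Field K] {V : Type*} [AddCommGroup V] [Module K V]
    [FiniteDimensional K V] (T : Module.End K V) (hT : T.IsSemisimple) (x : Module.End K V)
    (h : ∀ d : Module.End K V, d ∘ₗ T = T ∘ₗ d → x ∘ₗ d = d ∘ₗ x) : ∃ p : Polynomial K, Polynomial.aeval T p = x := by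
  haveI := isSemisimpleRing_adjoin_singleton hT
  have hmem := mem_of_commute_centralizer (Algebra.adjoin K {T}) x fun d hd =>
    h d (hd T (Algebra.self_mem_adjoin_singleton _ _))
  rw [Algebra.adjoin_singleton_eq_range_aeval] at hmem
  exact hmem

variable {k Ω : Type u} [Field k] [Finite k] [Field Ω] [Algebra k Ω] [IsAlgClosure k Ω] {l : ℕ} [hl : Fact l.Prime]
variable (hlk : (l : k) ≠ 0)
variable {A : Over (Spec (CommRingCat.of k))} [GrpObj A] [IsCommMonObj A] [IsProper A.hom]
  [GeometricallyIntegral A.hom]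
variable (πA : A ⟶ A) [IsMonHom πA] (hAle : ∀ U : A.left.Opens, U ≤ πA.left ⁻¹ᵁ U)
  (hAapp : ∀ (U : A.left.Opens) (s : Γ(A.left, U)), (πA.left.appLE U U (hAle U)).hom s = s ^ Nat.card k)

omit [Finite k] in
theorem tateQ_mul (φ ψ : EndAV.End A) :
    tateQ l Ω A A (φ * ψ : EndAV.End A) = ((tateQ l Ω A A φ) * (tateQ l Ω A A ψ) :
      Module.End ℚ_[l] (ℚ_[l] ⊗[ℤ_[l]] TateMod A l (SGA7.pt Ω))) := by
  rw [Module.End.mul_eq_comp, tateQ_apply, tateQ_apply, tateQ_apply, ← LinearMap.baseChange_comp, tateMapₗ_comp]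
  rfl

omit [Finite k] in
theorem tateQ_one : tateQ l Ω A A (1 : EndAV.End A) =
    (1 : Module.End ℚ_[l] (ℚ_[l] ⊗[ℤ_[l]] TateMod A l (SGA7.pt Ω))) := by
  rw [tateQ_apply, show tateMapₗ (l := l) (T := SGA7.pt Ω) (1 : EndAV.End A).toHom = LinearMap.id from
    LinearMap.ext fun z => TateMod.ext fun n => congrArg Additive.ofMul (Category.comp_id _),
    LinearMap.baseChange_id]
  rfl

include Ω hlk hAle hAapp in
/-- **A central endomorphism has a multiple in the span of the powers of Frobenius.** -/
theorem exists_nsmul_mem_span_powers (φ : EndAV.End A) (hφ : ∀ ψ : EndAV.End A, φ * ψ = ψ * φ) :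
    ∃ N : ℕ, 0 < N ∧ N • φ ∈ Submodule.span ℤ (Set.range fun i : ℕ => EndAV.End.of πA ^ i) := by
  classical
  haveI : IsAlgClosed Ω := IsAlgClosure.isAlgClosed k
  let σ := Spec.map (CommRingCat.ofHom (algebraMap k Ω))
  haveI := AbTors.module_finite A σ l hlk
  let V := ℚ_[l] ⊗[ℤ_[l]] TateMod A l (SGA7.pt Ω)
  let T : Module.End ℚ_[l] V := (tateMapₗ (l := l) (T := SGA7.pt Ω) πA).baseChange ℚ_[l]
  haveI : Module.Finite ℚ_[l] V := inferInstance
  have hpow : ∀ i : ℕ, tateQ l Ω A A (EndAV.End.of πA ^ i : EndAV.End A) = T ^ i := fun i => by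
    induction i with
    | zero => exact tateQ_one
    | succ i ih => rw [pow_succ, pow_succ, tateQ_mul, ih]; rfl
  -- the double centralizer
  obtain ⟨p, hp⟩ := exists_aeval_of_commute T (Poincare.isSemisimple_frob_tate σ l hlk A πA hAle hAapp)
    (tateQ l Ω A A φ) fun d hd => by
    have hd' : d ∈ homSpan l Ω A A := mem_homSpan_of_frob πA hAle hAapp πA hAle hAapp hlk d hd
    clear hd
    induction hd' using Submodule.span_induction with
    | mem x hx =>
      obtain ⟨f, hf, rfl⟩ := hx
      show (tateQ l Ω A A φ ∘ₗ tateQ l Ω A A (EndAV.Hom.of f)) = tateQ l Ω A A (EndAV.Hom.of f) ∘ₗ tateQ l Ω A A φ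
      exact (tateQ_mul φ (EndAV.End.of f)).symm.trans ((congrArg (tateQ l Ω A A) (hφ _)).trans (tateQ_mul _ φ))
    | zero => rw [LinearMap.comp_zero, LinearMap.zero_comp]
    | add x y _ _ hx hy => rw [LinearMap.comp_add, LinearMap.add_comp, hx, hy]
    | smul c x _ hx => rw [LinearMap.comp_smul, LinearMap.smul_comp, hx]
  -- descent to the integers
  let N := Submodule.span ℤ (Set.range fun i : ℕ => EndAV.End.of πA ^ i)
  haveI : Module.Finite ℤ (EndAV.End A) := HomFG.finite_hom (A := A) (B := A)
  haveI : Module.Free ℤ (EndAV.End A) := HomFG.free_hom (A := A) (B := A)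
  haveI : Module.Finite ℤ N := Module.Finite.iff_fg.2 (IsNoetherian.noetherian N)
  haveI : Module.Free ℤ N := Module.free_of_finite_type_torsion_free'
  let b := Module.finBasis ℤ N
  have hb : LinearIndependent ℤ fun i => (b i).1 :=
    b.linearIndependent.map' N.subtype (Submodule.ker_subtype N)
  let W := Submodule.span ℚ_[l] (Set.range fun i => tateQ l Ω A A (b i).1)
  have hW : ∀ i : ℕ, T ^ i ∈ W := fun i => by
    rw [← hpow i]
    have h1 : (EndAV.End.of πA ^ i : EndAV.End A) ∈ Submodule.span ℤ (Set.range fun j => (b j).1) := by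
      rw [show (fun j => (b j).1) = N.subtype ∘ b from rfl, Set.range_comp, ← Submodule.map_span, b.span_eq,
        Submodule.map_subtype_top]
      exact Submodule.subset_span ⟨i, rfl⟩
    have h2 : tateQ l Ω A A (EndAV.End.of πA ^ i : EndAV.End A) ∈
        (Submodule.span ℤ (Set.range fun j => (b j).1)).map (tateQ l Ω A A) := ⟨_, h1, rfl⟩
    rw [Submodule.map_span, ← Set.range_comp] at h2
    exact Submodule.span_le_restrictScalars ℤ ℚ_[l] _ h2
  have hφW : tateQ l Ω A A φ ∈ W := by
    rw [← hp]
    rw [Polynomial.aeval_eq_sum_range]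
    exact Submodule.sum_mem _ fun i _ => W.smul_mem _ (hW i)
  have hnli : ¬ LinearIndependent ℤ (Fin.cons φ fun i => (b i).1 : Fin (_ + 1) → EndAV.Hom A A) := fun hli => by
    have h := linearIndependent_tateQ (Ω := Ω) hlk hli
    have h' : LinearIndependent ℚ_[l] (Fin.cons (tateQ l Ω A A φ) fun i => tateQ l Ω A A (b i).1) := by
      convert h using 1
      exact funext (Fin.cases rfl fun i => rfl)
    exact (linearIndependent_fin_cons.1 h').2 hφW
  obtain ⟨a, ha, i₀, hi₀⟩ := Fintype.not_linearIndependent_iff.1 hnli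
  rw [Fin.sum_univ_succ, Fin.cons_zero] at ha
  simp only [Fin.cons_succ] at ha
  have ha0 : a 0 ≠ 0 := fun h0 => by
    rw [h0, zero_smul, zero_add] at ha
    refine hi₀ (Fin.cases h0 (fun j => ?_) i₀)
    exact Fintype.linearIndependent_iff.1 hb (fun j => a j.succ) ha j
  have hmemN : a 0 • φ ∈ N := by
    rw [eq_neg_of_add_eq_zero_left ha]
    exact N.neg_mem (Submodule.sum_mem _ fun j _ => N.smul_mem _ (b j).2)
  refine ⟨(a 0).natAbs, Int.natAbs_pos.2 ha0, ?_⟩
  rcases Int.natAbs_eq (a 0) with h | h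
  · rw [h] at hmemN
    rwa [natCast_zsmul] at hmemN
  · rw [h, neg_smul, natCast_zsmul] at hmemN
    exact (Submodule.neg_mem_iff _).1 hmemN

end GrothLib.TateThm
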