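import Groth.Agent.Lib.TateThm.Isogeny
import Groth.Agent.Lib.AbTors.Tate
import Groth.Agent.Lib.DegPoly.Valuation
import Groth.Agent.Lib.HomFG.Finite
import Groth.Prelude.Def_EndTate

/-!
# Tate's lemma: a stable subspace is the image of a combination of homomorphisms
-/

set_option autoImplicit false
set_option linter.all false
set_option backward.isDefEq.respectTransparency false
set_option maxHeartbeats 1000000

universe u

open CategoryTheory CategoryTheory.Limits MonoidalCategory CartesianMonoidalCategory MonObj GrpObj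
open AlgebraicGeometry
open scoped TensorProduct

noncomputable section

namespace GrothLib.TateThm

/-- Sequences in a finite power of `ℤ_l` have limit points. -/
theorem exists_limit {l : ℕ} [Fact l.Prime] {J : Type*} [Fintype J] (x : ℕ → J → ℤ_[l]) {S : Set ℕ}
    (hS : S.Infinite) :
    ∃ a : J → ℤ_[l], ∀ N : ℕ, ∃ n ∈ S, N ≤ n ∧ ∀ i, (l : ℤ_[l]) ^ N ∣ x n i - a i := by
  let e := Nat.nth (· ∈ S)
  have he : StrictMono e := Nat.nth_strictMono hS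
  obtain ⟨a, φ, hφ, hlim⟩ := CompactSpace.tendsto_subseq (fun m => x (e m))
  refine ⟨a, fun N => ?_⟩
  have hpos : (0 : ℝ) < (l : ℝ) ^ (-(N : ℤ)) := zpow_pos (by exact_mod_cast (Fact.out : l.Prime).pos) _
  obtain ⟨M, hM⟩ := (Metric.tendsto_atTop.1 hlim) _ hpos
  refine ⟨e (φ (max M N)), Nat.nth_mem_of_infinite hS _,
    (le_max_right M N).trans ((hφ.id_le _).trans (he.id_le _)), fun i => ?_⟩
  have h := (dist_le_pi_dist (x (e (φ (max M N)))) a i).trans (hM _ (le_max_left M N)).le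
  rw [dist_eq_norm, PadicInt.norm_le_pow_iff_mem_span_pow, Ideal.mem_span_singleton] at h
  exact h

/-- Elements congruent to members of a submodule with torsion free quotient modulo every power lie in it. -/
theorem mem_of_forall_congr {l : ℕ} [Fact l.Prime] {M : Type*} [AddCommGroup M] [Module ℤ_[l] M]
    [Module.Finite ℤ_[l] M] (T0 : Submodule ℤ_[l] M)
    (hsat : ∀ (c : ℤ_[l]) (z : M), c ≠ 0 → c • z ∈ T0 → z ∈ T0) {z : M}
    (h : ∀ N : ℕ, ∃ t ∈ T0, ∃ w : M, z = t + (l : ℤ_[l]) ^ N • w) : z ∈ T0 := by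
  haveI : Module.IsTorsionFree ℤ_[l] (M ⧸ T0) := by
    refine .mk fun a ha x y hxy => ?_
    obtain ⟨x, rfl⟩ := Submodule.Quotient.mk_surjective T0 x
    obtain ⟨y, rfl⟩ := Submodule.Quotient.mk_surjective T0 y
    rw [Submodule.Quotient.eq]
    refine hsat a _ ha.ne_zero ?_
    rw [smul_sub, ← Submodule.Quotient.eq, Submodule.Quotient.mk_smul, Submodule.Quotient.mk_smul]
    exact hxy
  haveI : Module.Free ℤ_[l] (M ⧸ T0) := Module.free_of_finite_type_torsion_free'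
  let b := Module.Free.chooseBasis ℤ_[l] (M ⧸ T0)
  rw [← Submodule.Quotient.mk_eq_zero]
  refine b.repr.map_eq_zero_iff.1 (Finsupp.ext fun i => ?_)
  by_contra hne
  obtain ⟨t, ht, w, hw⟩ := h ((b.repr (Submodule.Quotient.mk z) i).valuation + 1)
  have hc : b.repr (Submodule.Quotient.mk z) i =
      (l : ℤ_[l]) ^ ((b.repr (Submodule.Quotient.mk z) i).valuation + 1) *
        b.repr (Submodule.Quotient.mk w) i := by
    conv_lhs => rw [hw, Submodule.Quotient.mk_add, (Submodule.Quotient.mk_eq_zero _).2 ht, zero_add,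
      Submodule.Quotient.mk_smul, map_smul, Finsupp.smul_apply, smul_eq_mul]
  have hc0 : b.repr (Submodule.Quotient.mk (p := T0) w) i ≠ 0 := fun h0 => hne (by rw [hc, h0, mul_zero]; rfl)
  have h2 := congrArg PadicInt.valuation hc
  rw [PadicInt.valuation_p_pow_mul _ _ hc0] at h2
  omega

open AbDual

variable {k Ω : Type u} [Field k] [Field Ω] [Algebra k Ω] [IsAlgClosure k Ω] (l : ℕ) [hl : Fact l.Prime]
variable {X P : Over (Spec (CommRingCat.of k))} [GrpObj X] [IsCommMonObj X] [IsProper X.hom]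
  [GeometricallyIntegral X.hom] [GrpObj P] [IsCommMonObj P] [IsProper P.hom] [GeometricallyIntegral P.hom]

/-- The lattice of a subspace. -/
def lattice (W : Submodule ℚ_[l] (ℚ_[l] ⊗[ℤ_[l]] TateMod X l (SGA7.pt Ω))) :
    Submodule ℤ_[l] (TateMod X l (SGA7.pt Ω)) :=
  (W.restrictScalars ℤ_[l]).comap (TensorProduct.mk ℤ_[l] ℚ_[l] (TateMod X l (SGA7.pt Ω)) 1)

variable {l}

theorem mem_lattice {W : Submodule ℚ_[l] (ℚ_[l] ⊗[ℤ_[l]] TateMod X l (SGA7.pt Ω))}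
    {z : TateMod X l (SGA7.pt Ω)} : z ∈ lattice l W ↔ (1 : ℚ_[l]) ⊗ₜ[ℤ_[l]] z ∈ W := Iff.rfl

theorem tmul_smul' (c : ℤ_[l]) (z : TateMod X l (SGA7.pt Ω)) :
    (1 : ℚ_[l]) ⊗ₜ[ℤ_[l]] (c • z) = (c : ℚ_[l]) • ((1 : ℚ_[l]) ⊗ₜ[ℤ_[l]] z) := by
  rw [TensorProduct.tmul_smul, ← IsScalarTower.algebraMap_smul (R := ℤ_[l]) ℚ_[l] c]
  rfl

theorem lattice_saturated (W : Submodule ℚ_[l] (ℚ_[l] ⊗[ℤ_[l]] TateMod X l (SGA7.pt Ω))) (c : ℤ_[l])
    (z : TateMod X l (SGA7.pt Ω)) (hc : c ≠ 0) (h : c • z ∈ lattice l W) : z ∈ lattice l W := by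
  rw [mem_lattice, tmul_smul'] at h
  have h0 : (c : ℚ_[l]) ≠ 0 := PadicInt.coe_ne_zero.2 hc
  exact (W.smul_mem_iff h0).1 h

/-- Every vector is a multiple of a lattice vector. -/
theorem exists_eq_smul_tmul (x : ℚ_[l] ⊗[ℤ_[l]] TateMod X l (SGA7.pt Ω)) :
    ∃ (c : ℚ_[l]) (z : TateMod X l (SGA7.pt Ω)), c ≠ 0 ∧ c • x = (1 : ℚ_[l]) ⊗ₜ[ℤ_[l]] z := by
  induction x using TensorProduct.induction_on with
  | zero => exact ⟨1, 0, one_ne_zero, by rw [smul_zero, TensorProduct.tmul_zero]⟩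
  | tmul a z =>
    obtain ⟨⟨n, ⟨d, hd⟩⟩, hnd⟩ := IsLocalization.surj (nonZeroDivisors ℤ_[l]) a
    refine ⟨(d : ℚ_[l]), n • z, PadicInt.coe_ne_zero.2 (nonZeroDivisors.ne_zero hd), ?_⟩
    rw [tmul_smul', TensorProduct.smul_tmul', TensorProduct.smul_tmul', smul_eq_mul, smul_eq_mul, _root_.mul_one, mul_comm]
    exact congrArg (· ⊗ₜ[ℤ_[l]] z) hnd
  | add x y hx hy =>
    obtain ⟨c, z, hc, hz⟩ := hx
    obtain ⟨d, w, hd, hw⟩ := hy
    obtain ⟨⟨n, ⟨e, he⟩⟩, hne⟩ := IsLocalization.surj (nonZeroDivisors ℤ_[l]) c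
    obtain ⟨⟨m, ⟨f, hf⟩⟩, hmf⟩ := IsLocalization.surj (nonZeroDivisors ℤ_[l]) d
    change c * (e : ℚ_[l]) = (n : ℚ_[l]) at hne
    change d * (f : ℚ_[l]) = (m : ℚ_[l]) at hmf
    refine ⟨(n : ℚ_[l]) * m, (m * e) • z + (n * f) • w, ?_, ?_⟩
    · rw [← hne, ← hmf]
      exact mul_ne_zero (mul_ne_zero hc (PadicInt.coe_ne_zero.2 (nonZeroDivisors.ne_zero he)))
        (mul_ne_zero hd (PadicInt.coe_ne_zero.2 (nonZeroDivisors.ne_zero hf)))
    · rw [TensorProduct.tmul_add, tmul_smul', tmul_smul', ← hz, ← hw, smul_add, smul_smul, smul_smul]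
      push_cast
      rw [← hne, ← hmf]
      congr 1 <;> congr 1 <;> ring

variable (l) in
/-- The points of the `n`-th layer of a subspace. -/
def layer (W : Submodule ℚ_[l] (ℚ_[l] ⊗[ℤ_[l]] TateMod X l (SGA7.pt Ω))) (n : ℕ) :
    Subgroup (SGA7.pt Ω ⟶ X) :=
  AddSubgroup.toSubgroup' (((lattice l W).toAddSubgroup).map (TateMod.component X l (SGA7.pt Ω) n))

theorem mem_layer {W : Submodule ℚ_[l] (ℚ_[l] ⊗[ℤ_[l]] TateMod X l (SGA7.pt Ω))} {n : ℕ}
    {a : SGA7.pt Ω ⟶ X} : a ∈ layer l W n ↔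
      ∃ z ∈ lattice l W, (TateMod.component X l (SGA7.pt Ω) n z).toMul = a := Iff.rfl

theorem pow_eq_one_of_mem_layer {W : Submodule ℚ_[l] (ℚ_[l] ⊗[ℤ_[l]] TateMod X l (SGA7.pt Ω))} {n : ℕ}
    {a : SGA7.pt Ω ⟶ X} (ha : a ∈ layer l W n) : a ^ (l ^ n) = 1 := by
  obtain ⟨z, -, rfl⟩ := mem_layer.1 ha
  exact TateMod.component_mem z n

theorem galAct_mem_layer {W : Submodule ℚ_[l] (ℚ_[l] ⊗[ℤ_[l]] TateMod X l (SGA7.pt Ω))}
    (ρ : (Ω ≃ₐ[k] Ω) → Module.End ℤ_[l] (TateMod X l (SGA7.pt Ω)))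
    (hρ : ∀ (τ : Ω ≃ₐ[k] Ω) (z : TateMod X l (SGA7.pt Ω)) (m : ℕ),
      (TateMod.component X l (SGA7.pt Ω) m (ρ τ z)).toMul =
        SGA7.galAct τ (TateMod.component X l (SGA7.pt Ω) m z).toMul)
    (hW : ∀ τ : Ω ≃ₐ[k] Ω, W.map ((ρ τ).baseChange ℚ_[l]) ≤ W) {n : ℕ} (τ : Ω ≃ₐ[k] Ω)
    {a : SGA7.pt Ω ⟶ X} (ha : a ∈ layer l W n) : SGA7.galAct τ a ∈ layer l W n := by
  obtain ⟨z, hz, rfl⟩ := mem_layer.1 ha
  exact mem_layer.2 ⟨ρ τ z, hW τ ⟨_, hz, LinearMap.baseChange_tmul _ _ _⟩, hρ τ z n⟩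

variable [IsAlgClosed Ω]

/-- The range of the Tate map of the isogeny back to `X`. -/
theorem range_tateMap_dual {n : ℕ} {Y : Over (Spec (CommRingCat.of k))} [GrpObj Y] [IsCommMonObj Y]
    [IsProper Y.hom] [GeometricallyIntegral Y.hom] (q : X ⟶ Y) [IsMonHom q] (v : Y ⟶ X) [IsMonHom v] (h1 : q ≫ v = (𝟙 X) ^ (l ^ n))
    (h2 : v ≫ q = (𝟙 Y) ^ (l ^ n)) {G : Subgroup (SGA7.pt Ω ⟶ X)}
    (hker : ∀ a : SGA7.pt Ω ⟶ X, a ≫ q = 1 ↔ a ∈ G) (z : TateMod X l (SGA7.pt Ω)) :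
    (∃ y, tateMapₗ (l := l) v y = z) ↔ (TateMod.component X l (SGA7.pt Ω) n z).toMul ∈ G := by
  let σ := Spec.map (CommRingCat.ofHom (algebraMap k Ω))
  haveI : IsMonHom ((𝟙 X : X ⟶ X) ^ (l ^ n)) := GrpDeligne.isMonHom_pow (𝟙 X) _
  haveI : IsMonHom ((𝟙 Y : Y ⟶ Y) ^ (l ^ n)) := GrpDeligne.isMonHom_pow (𝟙 Y) _
  have e1 := DegPoly.tateMap_comp σ l q v _ h1
  have e2 := DegPoly.tateMap_comp σ l v q _ h2
  rw [DegPoly.tateMap_pow σ l] at e1 e2
  rw [← hker]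
  constructor
  · rintro ⟨y, rfl⟩
    have h := DFunLike.congr_fun e2 y
    rw [LinearMap.comp_apply, LinearMap.smul_apply, LinearMap.id_apply, AbTors.natCast_smul_tate] at h
    have h' := congrArg (fun w => (TateMod.component Y l (SGA7.pt Ω) n w).toMul) h
    rw [map_nsmul] at h'
    exact h'.trans (TateMod.component_mem y n)
  · intro h
    obtain ⟨w, hw⟩ := AbTors.exists_eq_pow_smul Y σ l (n := n) (tateMapₗ (l := l) q z)
      (congrArg Additive.ofMul h)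
    refine ⟨w, smul_right_injective (TateMod X l (SGA7.pt Ω))
      (pow_ne_zero n (Nat.cast_ne_zero.2 hl.out.ne_zero) : ((l : ℤ_[l]) ^ n) ≠ 0) ?_⟩
    have h3 := DFunLike.congr_fun e1 z
    rw [LinearMap.comp_apply, LinearMap.smul_apply, LinearMap.id_apply, hw, map_nsmul,
      ← AbTors.natCast_smul_tate] at h3
    show (l : ℤ_[l]) ^ n • _ = (l : ℤ_[l]) ^ n • _
    rw [← Nat.cast_pow]
    exact h3

/-- The combinations of the Tate maps of homomorphisms, over `ℚ_l`. -/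
def homSpan (l : ℕ) [Fact l.Prime] (Ω : Type u) [Field Ω] [Algebra k Ω] (P X : Over (Spec (CommRingCat.of k))) [GrpObj P] [IsCommMonObj P] [GrpObj X] [IsCommMonObj X] :
    Submodule ℚ_[l] ((ℚ_[l] ⊗[ℤ_[l]] TateMod P l (SGA7.pt Ω)) →ₗ[ℚ_[l]]
      (ℚ_[l] ⊗[ℤ_[l]] TateMod X l (SGA7.pt Ω))) :=
  Submodule.span ℚ_[l] {ψ | ∃ (f : P ⟶ X) (_ : IsMonHom f),
    ψ = (tateMapₗ (l := l) (T := SGA7.pt Ω) f).baseChange ℚ_[l]}

/-- An isomorphism of schemes gives a surjection of Tate modules. -/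
theorem exists_hom_surjective {A B : Over (Spec (CommRingCat.of k))} [GrpObj A] [IsCommMonObj A] [IsProper A.hom]
    [GeometricallyIntegral A.hom] [GrpObj B] [IsCommMonObj B] [IsProper B.hom] [GeometricallyIntegral B.hom]
    (e : A ≅ B) :
    ∃ (ψ : A ⟶ B) (_ : IsMonHom ψ), Function.Surjective (tateMapₗ (l := l) (T := SGA7.pt Ω) ψ) := by
  haveI : GeometricallyConnected A.hom := Rigidity.geometricallyConnected_of_geometricallyIrreducible A.hom
  haveI : GeometricallyConnected B.hom := Rigidity.geometricallyConnected_of_geometricallyIrreducible B.hom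
  haveI : Flat A.hom := GrothLib.DiagGrp.flat_of_field _
  haveI : Flat B.hom := GrothLib.DiagGrp.flat_of_field _
  let a : 𝟙_ _ ⟶ B := η[A] ≫ e.hom
  let ψ : A ⟶ B := e.hom * (toUnit A ≫ a)⁻¹
  let ψ' : B ⟶ A := (𝟙 B * (toUnit B ≫ a)) ≫ e.inv
  have hu : ∀ {T T' : Over (Spec (CommRingCat.of k))} (f : T ⟶ T'), f ≫ toUnit T' ≫ a = toUnit T ≫ a := fun f => by
    rw [← Category.assoc, toUnit_unique (f ≫ toUnit _) (toUnit _)]
  have ha : ∀ {T : Over (Spec (CommRingCat.of k))} (x : 𝟙_ _ ⟶ T), x ≫ toUnit T ≫ a = a := fun x => by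
    rw [hu, toUnit_unique (toUnit (𝟙_ _)) (𝟙 _), Category.id_comp]
  haveI : IsMonHom ψ := Rigidity.isMonHom_of_one_comp' ψ (by
    rw [MonObj.comp_mul, GrpObj.comp_inv, ha, _root_.mul_inv_cancel, MonObj.one_eq_one])
  haveI : IsMonHom ψ' := Rigidity.isMonHom_of_one_comp' ψ' (by
    rw [← Category.assoc, MonObj.comp_mul, ha, Category.comp_id, MonObj.one_eq_one, _root_.one_mul]
    show (η[A] ≫ e.hom) ≫ e.inv = _
    rw [Category.assoc, e.hom_inv_id, Category.comp_id, MonObj.one_eq_one])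
  have h : ψ' ≫ ψ = (𝟙 B) ^ 1 := by
    rw [pow_one, MonObj.comp_mul, GrpObj.comp_inv, hu, Category.assoc, e.inv_hom_id, Category.comp_id,
      mul_inv_cancel_right]
  haveI : IsMonHom ((𝟙 B : B ⟶ B) ^ 1) := GrpDeligne.isMonHom_pow (𝟙 B) _
  have e1 := DegPoly.tateMap_comp (Spec.map (CommRingCat.ofHom (algebraMap k Ω))) l ψ' ψ _ h
  rw [DegPoly.tateMap_pow, Nat.cast_one, one_smul] at e1
  exact ⟨ψ, inferInstance, fun y => ⟨_, DFunLike.congr_fun e1 y⟩⟩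

/-- **Tate's lemma.** -/
theorem exists_mem_homSpan_range_eq (hlk : (l : k) ≠ 0)
    (W : Submodule ℚ_[l] (ℚ_[l] ⊗[ℤ_[l]] TateMod X l (SGA7.pt Ω)))
    (Z : ℕ → Over (Spec (CommRingCat.of k))) [∀ n, GrpObj (Z n)] [∀ n, IsCommMonObj (Z n)]
    [∀ n, IsProper (Z n).hom] [∀ n, GeometricallyIntegral (Z n).hom]
    (r : ∀ n, P ⟶ Z n) [∀ n, IsMonHom (r n)] (s : ∀ n, Z n ⟶ X) [∀ n, IsMonHom (s n)]
    (hr : ∀ n, ∃ e : ℕ, ∀ z, ∃ p, tateMapₗ (l := l) (T := SGA7.pt Ω) (r n) p = (l : ℤ_[l]) ^ e • z)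
    (hs : ∀ n (z : TateMod X l (SGA7.pt Ω)), (∃ y, tateMapₗ (l := l) (s n) y = z) ↔
      (TateMod.component X l (SGA7.pt Ω) n z).toMul ∈ layer l W n)
    (hfin : ∃ (n₀ : ℕ) (S : Set ℕ), S.Infinite ∧ ∀ n ∈ S, Nonempty (Z n₀ ≅ Z n)) :
    ∃ u ∈ homSpan l Ω P X, LinearMap.range u = W := by
  classical
  let σ := Spec.map (CommRingCat.ofHom (algebraMap k Ω))
  obtain ⟨n₀, S, hS, hiso⟩ := hfin
  obtain ⟨e, he⟩ := hr n₀
  haveI := AbTors.module_finite X σ l hlk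
  haveI := AbTors.module_finite P σ l hlk
  haveI : Module.Free ℤ_[l] (TateMod P l (SGA7.pt Ω)) := Module.free_of_finite_type_torsion_free'
  let T0 := lattice l W
  have hlayer : ∀ n, ∀ z ∈ T0, (TateMod.component X l (SGA7.pt Ω) n z).toMul ∈ layer l W n := fun n z hz =>
    mem_layer.2 ⟨z, hz, rfl⟩
  have hrange : ∀ n (z : TateMod X l (SGA7.pt Ω)), (TateMod.component X l (SGA7.pt Ω) n z).toMul ∈ layer l W n →
      ∃ t ∈ T0, ∃ w, z = t + (l : ℤ_[l]) ^ n • w := fun n z hz => by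
    obtain ⟨t, ht, hte⟩ := mem_layer.1 hz
    obtain ⟨w, hw⟩ := AbTors.exists_eq_pow_smul X σ l (n := n) (z - t) (by
      show TateMod.component X l (SGA7.pt Ω) n (z - t) = 0
      rw [map_sub, sub_eq_zero]
      exact Additive.toMul.injective hte.symm)
    refine ⟨t, ht, w, ?_⟩
    rw [← Nat.cast_pow, AbTors.natCast_smul_tate, ← hw, add_sub_cancel]
  haveI := HomFG.finite_hom (A := P) (B := X)
  obtain ⟨m, f, hf⟩ := Submodule.fg_iff_exists_fin_generating_family.1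
    (Module.Finite.fg_top (R := ℤ) (M := EndAV.Hom P X))
  let F : Fin m → (TateMod P l (SGA7.pt Ω) →ₗ[ℤ_[l]] TateMod X l (SGA7.pt Ω)) :=
    fun i => EndAV.Hom.tateMap l (SGA7.pt Ω) (f i)
  obtain ⟨d, w, hw⟩ := Submodule.fg_iff_exists_fin_generating_family.1 (IsNoetherian.noetherian T0)
  have hwT : ∀ j, w j ∈ T0 := fun j => hw ▸ Submodule.subset_span ⟨j, rfl⟩
  have hex : ∀ n ∈ S, ∃ (a : Fin m → ℤ) (p : Fin d → TateMod P l (SGA7.pt Ω)),
      (∀ x, (TateMod.component X l (SGA7.pt Ω) n (∑ i, (a i : ℤ_[l]) • F i x)).toMul ∈ layer l W n) ∧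
      ∀ j, ∑ i, (a i : ℤ_[l]) • F i (p j) = (l : ℤ_[l]) ^ e • w j := by
    intro n hn
    obtain ⟨eiso⟩ := hiso n hn
    obtain ⟨ψ, hψm, hψ⟩ := exists_hom_surjective (l := l) (Ω := Ω) eiso
    haveI := hψm
    obtain ⟨a, ha⟩ := (Submodule.mem_span_range_iff_exists_fun ℤ).1
      (show EndAV.Hom.of (r n₀ ≫ ψ ≫ s n) ∈ Submodule.span ℤ (Set.range f) by rw [hf]; exact Submodule.mem_top)
    have hu : ∀ x, ∑ i, (a i : ℤ_[l]) • F i x =
        tateMapₗ (l := l) (s n) (tateMapₗ (l := l) ψ (tateMapₗ (l := l) (r n₀) x)) := fun x => by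
      have h1 := congrArg (fun φ => EndAV.Hom.tateMap l (SGA7.pt Ω) φ x) ha
      simp only [map_sum, LinearMap.sum_apply, map_zsmul, LinearMap.smul_apply] at h1
      simp only [Int.cast_smul_eq_zsmul]
      refine h1.trans (TateMod.ext fun i => ?_)
      exact congrArg Additive.ofMul ((Category.assoc _ _ _).trans (Category.assoc _ _ _)).symm
    have hp : ∀ j, ∃ p, ∑ i, (a i : ℤ_[l]) • F i p = (l : ℤ_[l]) ^ e • w j := fun j => by
      obtain ⟨y, hy⟩ := (hs n (w j)).2 (hlayer n _ (hwT j))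
      obtain ⟨z, rfl⟩ := hψ y
      obtain ⟨p, hp⟩ := he z
      exact ⟨p, by rw [hu, hp, map_smul, map_smul, hy]⟩
    choose p hp using hp
    exact ⟨a, p, fun x => by rw [hu]; exact (hs n _).1 ⟨_, rfl⟩, hp⟩
  let b := Module.Free.chooseBasis ℤ_[l] (TateMod P l (SGA7.pt Ω))
  let xs : ℕ → (Fin m ⊕ Fin d × Module.Free.ChooseBasisIndex ℤ_[l] (TateMod P l (SGA7.pt Ω))) → ℤ_[l] := fun n =>
    if h : n ∈ S then Sum.elim (fun i => ((hex n h).choose i : ℤ_[l]))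
      (fun q => b.repr ((hex n h).choose_spec.choose q.1) q.2) else 0
  obtain ⟨A, hA⟩ := exists_limit xs hS
  let u₀ : TateMod P l (SGA7.pt Ω) →ₗ[ℤ_[l]] TateMod X l (SGA7.pt Ω) := ∑ i, A (.inl i) • F i
  let p₀ : Fin d → TateMod P l (SGA7.pt Ω) := fun j => ∑ c, A (.inr (j, c)) • b c
  have happ : ∀ N, ∃ n, N ≤ n ∧ ∃ (a : Fin m → ℤ) (p : Fin d → TateMod P l (SGA7.pt Ω)),
      (∀ x, (TateMod.component X l (SGA7.pt Ω) n (∑ i, (a i : ℤ_[l]) • F i x)).toMul ∈ layer l W n) ∧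
      (∀ j, ∑ i, (a i : ℤ_[l]) • F i (p j) = (l : ℤ_[l]) ^ e • w j) ∧
      (∀ x, ∃ w', ∑ i, (a i : ℤ_[l]) • F i x = u₀ x + (l : ℤ_[l]) ^ N • w') ∧
      ∀ j, ∃ w', p j = p₀ j + (l : ℤ_[l]) ^ N • w' := fun N => by
    obtain ⟨n, hn, hNn, hd⟩ := hA N
    obtain ⟨h1, h2⟩ := (hex n hn).choose_spec.choose_spec
    refine ⟨n, hNn, _, _, h1, h2, fun x => ?_, fun j => ?_⟩
    · choose c hc using fun i : Fin m => hd (.inl i)
      refine ⟨∑ i, c i • F i x, ?_⟩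
      simp only [u₀, LinearMap.sum_apply, LinearMap.smul_apply, Finset.smul_sum, smul_smul, ← hc,
        ← Finset.sum_add_distrib, ← add_smul, xs, dif_pos hn, Sum.elim_inl, add_sub_cancel]
    · choose c hc using fun i => hd (.inr (j, i))
      refine ⟨∑ i, c i • b i, ?_⟩
      simp only [p₀, Finset.smul_sum, smul_smul, ← hc, ← Finset.sum_add_distrib, ← add_smul, xs, dif_pos hn,
        Sum.elim_inr, add_sub_cancel]
      exact (b.sum_repr _).symm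
  have hmem : ∀ x, u₀ x ∈ T0 := fun x => mem_of_forall_congr T0 (lattice_saturated W) fun N => by
    obtain ⟨n, hNn, a, p, h1, -, h3, -⟩ := happ N
    obtain ⟨t, ht, w₁, hw₁⟩ := hrange n _ (h1 x)
    obtain ⟨w₂, hw₂⟩ := h3 x
    obtain ⟨k', rfl⟩ := Nat.exists_eq_add_of_le hNn
    refine ⟨t, ht, (l : ℤ_[l]) ^ k' • w₁ - w₂, ?_⟩
    rw [smul_sub, smul_smul, ← pow_add, add_sub, ← hw₁, hw₂, add_sub_cancel_right]
  have hsol : ∀ j, u₀ (p₀ j) = (l : ℤ_[l]) ^ e • w j := fun j => by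
    refine sub_eq_zero.1 ((Submodule.mem_bot ℤ_[l]).1
      (mem_of_forall_congr ⊥ (fun c z hc h => ?_) fun N => ?_))
    · rw [Submodule.mem_bot] at h ⊢
      exact (smul_eq_zero.1 h).resolve_left hc
    obtain ⟨n, -, a, p, -, h2, h3, h4⟩ := happ N
    obtain ⟨w₁, hw₁⟩ := h3 (p j)
    obtain ⟨w₂, hw₂⟩ := h4 j
    refine ⟨0, Submodule.zero_mem _, -(w₁ + u₀ w₂), ?_⟩
    rw [← h2 j, hw₁, hw₂, map_add, map_smul, smul_neg, smul_add, zero_add]
    abel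
  refine ⟨u₀.baseChange ℚ_[l], ?_, le_antisymm ?_ fun x hx => ?_⟩
  · rw [show u₀.baseChange ℚ_[l] = ∑ i, A (.inl i) • (F i).baseChange ℚ_[l] from
      (map_sum (LinearMap.baseChangeHom ℤ_[l] ℚ_[l] _ _) _ _).trans
        (Finset.sum_congr rfl fun i _ => LinearMap.map_smul (LinearMap.baseChangeHom ℤ_[l] ℚ_[l] _ _) _ _)]
    refine Submodule.sum_mem _ fun i _ => Submodule.smul_of_tower_mem _ _ (Submodule.subset_span ?_)
    exact ⟨(f i).toHom, inferInstance, rfl⟩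
  · rintro _ ⟨x, rfl⟩
    induction x using TensorProduct.induction_on with
    | zero => rw [map_zero]; exact Submodule.zero_mem _
    | tmul c z =>
      rw [LinearMap.baseChange_tmul, show c ⊗ₜ[ℤ_[l]] u₀ z = c • ((1 : ℚ_[l]) ⊗ₜ[ℤ_[l]] u₀ z) by
        rw [TensorProduct.smul_tmul', smul_eq_mul, _root_.mul_one]]
      exact Submodule.smul_mem _ _ (hmem z)
    | add x y hx hy => rw [map_add]; exact Submodule.add_mem _ hx hy
  · obtain ⟨c, z, hc, hz⟩ := exists_eq_smul_tmul x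
    have hzT : z ∈ T0 := by rw [mem_lattice, ← hz]; exact W.smul_mem c hx
    have hrw : (1 : ℚ_[l]) ⊗ₜ[ℤ_[l]] z ∈ LinearMap.range (u₀.baseChange ℚ_[l]) := by
      have hz' : z ∈ Submodule.span ℤ_[l] (Set.range w) := hw.symm ▸ hzT
      clear hz hzT
      induction hz' using Submodule.span_induction with
      | mem y hy =>
        obtain ⟨j, rfl⟩ := hy
        refine (Submodule.smul_mem_iff _ (show ((l : ℤ_[l]) ^ e : ℚ_[l]) ≠ 0 from ?_)).1
          ⟨(1 : ℚ_[l]) ⊗ₜ[ℤ_[l]] p₀ j, ?_⟩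
        · exact PadicInt.coe_ne_zero.2 (pow_ne_zero e (Nat.cast_ne_zero.2 hl.out.ne_zero))
        · rw [LinearMap.baseChange_tmul, hsol, tmul_smul']
          push_cast
          rfl
      | zero => rw [TensorProduct.tmul_zero]; exact Submodule.zero_mem _
      | add a b _ _ ha hb => rw [TensorProduct.tmul_add]; exact Submodule.add_mem _ ha hb
      | smul a b _ hb => rw [tmul_smul']; exact Submodule.smul_mem _ _ hb
    rw [← hz] at hrw
    exact (Submodule.smul_mem_iff _ hc).1 hrw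

end GrothLib.TateThm
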