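import Groth.Agent.Lib.TateThm.IsogIff
import Groth.Agent.Lib.Poincare.PointCount
import Groth.Agent.Lib.Poincare.RHypRoot
import Mathlib.LinearAlgebra.Vandermonde

/-!
# The point counts determine the Frobenius polynomial
-/

set_option autoImplicit false
set_option linter.all false
set_option backward.isDefEq.respectTransparency false
set_option maxHeartbeats 1000000

universe u

open CategoryTheory MonoidalCategory CartesianMonoidalCategory MonObj GrpObj AlgebraicGeometry AbDual
open scoped TensorProduct Classical

noncomputable section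

namespace GrothLib.TateThm

/-- The signed products over the subfamilies. -/
def signedProds (s : Multiset ℂ) : ℂ →₀ ℤ :=
  (s.powerset.map fun t => Finsupp.single t.prod ((-1 : ℤ) ^ t.card)).sum

theorem signedProds_cons (a : ℂ) (s : Multiset ℂ) : signedProds (a ::ₘ s) =
    signedProds s + (s.powerset.map fun t => Finsupp.single (a * t.prod) (-(-1 : ℤ) ^ t.card)).sum := by
  rw [signedProds, Multiset.powerset_cons, Multiset.map_add, Multiset.sum_add, Multiset.map_map, signedProds]
  congr 2
  refine Multiset.map_congr rfl fun t _ => ?_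
  rw [Function.comp_apply, Multiset.prod_cons, Multiset.card_cons, pow_succ, mul_neg_one]

theorem prod_one_sub_pow (m : ℕ) : ∀ s : Multiset ℂ,
    (s.map fun w => 1 - w ^ m).prod = (signedProds s).sum fun β n => (n : ℂ) * β ^ m := by
  intro s
  induction s using Multiset.induction_on with
  | empty => simp [signedProds]
  | cons a s ih =>
    rw [Multiset.map_cons, Multiset.prod_cons, ih, signedProds_cons,
      Finsupp.sum_add_index' (fun _ => by simp) (fun _ _ _ => by push_cast; ring)]
    have h : ∀ T : Multiset (Multiset ℂ),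
        ((T.map fun t => Finsupp.single (a * t.prod) (-(-1 : ℤ) ^ t.card)).sum).sum (fun β n => (n : ℂ) * β ^ m) =
          -(a ^ m) * ((T.map fun t => Finsupp.single t.prod ((-1 : ℤ) ^ t.card)).sum).sum (fun β n => (n : ℂ) * β ^ m) := by
      intro T
      induction T using Multiset.induction_on with
      | empty => simp
      | cons t T ih =>
        rw [Multiset.map_cons, Multiset.sum_cons, Multiset.map_cons, Multiset.sum_cons,
          Finsupp.sum_add_index' (fun _ => by simp) (fun _ _ _ => by push_cast; ring),
          Finsupp.sum_add_index' (fun _ => by simp) (fun _ _ _ => by push_cast; ring),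
          Finsupp.sum_single_index (by simp), Finsupp.sum_single_index (by simp), ih]
        push_cast
        ring
    rw [h, ← signedProds]
    ring

theorem norm_prod_of_forall {r : ℝ} : ∀ {t : Multiset ℂ}, (∀ w ∈ t, ‖w‖ = r) → ‖t.prod‖ = r ^ t.card := by
  intro t
  induction t using Multiset.induction_on with
  | empty => intro; simp
  | cons a t ih =>
    intro h
    rw [Multiset.prod_cons, norm_mul, ih (fun w hw => h w (Multiset.mem_cons_of_mem hw)),
      h a (Multiset.mem_cons_self a t), Multiset.card_cons, pow_succ']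

theorem signedProds_apply {r : ℝ} (hr : 1 < r) {β : ℂ} (hβ : ‖β‖ = r) : ∀ {s : Multiset ℂ}, (∀ w ∈ s, ‖w‖ = r) →
    signedProds s β = -(s.count β : ℤ) := by
  intro s
  induction s using Multiset.induction_on with
  | empty =>
    intro
    have hne : β ≠ 1 := fun h => by rw [h, norm_one] at hβ; linarith
    simp [signedProds, Finsupp.single_apply, Ne.symm hne]
  | cons a s ih =>
    intro h
    have hs : ∀ w ∈ s, ‖w‖ = r := fun w hw => h w (Multiset.mem_cons_of_mem hw)
    have ha : ‖a‖ = r := h a (Multiset.mem_cons_self a s)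
    rw [signedProds_cons, Finsupp.add_apply, ih hs]
    have key : ∀ T : Multiset (Multiset ℂ), (∀ t ∈ T, ∀ w ∈ t, ‖w‖ = r) →
        ((T.map fun t => Finsupp.single (a * t.prod) (-(-1 : ℤ) ^ t.card)).sum) β =
          if a = β then -(T.count 0 : ℤ) else 0 := by
      intro T
      induction T using Multiset.induction_on with
      | empty => intro; simp
      | cons t T ih =>
        intro hT
        rw [Multiset.map_cons, Multiset.sum_cons, Finsupp.add_apply,
          ih (fun t' ht' => hT t' (Multiset.mem_cons_of_mem ht')), Finsupp.single_apply]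
        rcases eq_or_ne t 0 with rfl | htne
        · by_cases hab : a = β
          · simp [hab]
          · simp [hab]
        · have : a * t.prod ≠ β := fun he => by
            have hn := congrArg (‖·‖) he
            simp only [norm_mul, norm_prod_of_forall (hT t (Multiset.mem_cons_self t T)), ha, hβ] at hn
            have h1 : r ^ t.card = 1 := mul_left_cancel₀ (by linarith : r ≠ 0) (hn.trans (_root_.mul_one r).symm)
            exact (one_lt_pow₀ hr (fun hc => htne (Multiset.card_eq_zero.1 hc))).ne' h1
          rw [if_neg this, zero_add, Multiset.count_cons_of_ne htne.symm]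
    rw [key _ (fun t ht w hw => hs w (Multiset.mem_of_le (Multiset.mem_powerset.1 ht) hw))]
    have h0 : s.powerset.count 0 = 1 := by
      clear key ih hs h
      induction s using Multiset.induction_on with
      | empty => simp
      | cons b s ih =>
        rw [Multiset.powerset_cons, Multiset.count_add, ih, Multiset.count_eq_zero.2]
        simp
    rw [h0, Multiset.count_cons]
    by_cases hab : a = β
    · simp [hab]; ring
    · simp [hab, Ne.symm hab]

/-- Families of complex numbers of absolute value `r > 1` are determined by the products `∏ (1 - w ^ m)`. -/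
theorem multiset_eq_of_prod_one_sub_pow {r : ℝ} (hr : 1 < r) {s t : Multiset ℂ} (hs : ∀ w ∈ s, ‖w‖ = r)
    (ht : ∀ w ∈ t, ‖w‖ = r)
    (h : ∀ m : ℕ, 1 ≤ m → (s.map fun w => 1 - w ^ m).prod = (t.map fun w => 1 - w ^ m).prod) : s = t := by
  have hnz : ∀ u : Multiset ℂ, (∀ w ∈ u, ‖w‖ = r) → (signedProds u) 0 = 0 := by
    intro u
    induction u using Multiset.induction_on with
    | empty => intro; simp [signedProds]
    | cons a u ih =>
      intro hu
      rw [signedProds_cons, Finsupp.add_apply, ih (fun w hw => hu w (Multiset.mem_cons_of_mem hw)), zero_add]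
      have : ∀ T : Multiset (Multiset ℂ), (∀ t ∈ T, a * t.prod ≠ 0) →
          ((T.map fun t => Finsupp.single (a * t.prod) (-(-1 : ℤ) ^ t.card)).sum) 0 = 0 := by
        intro T
        induction T using Multiset.induction_on with
        | empty => intro; simp
        | cons t T ih =>
          intro hT
          rw [Multiset.map_cons, Multiset.sum_cons, Finsupp.add_apply, Finsupp.single_eq_of_ne
            (hT t (Multiset.mem_cons_self t T)).symm, ih (fun t' ht' => hT t' (Multiset.mem_cons_of_mem ht')), zero_add]
      refine this _ fun t' ht' hz => ?_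
      have hn := congrArg (‖·‖) hz
      simp only [norm_mul, norm_zero, norm_prod_of_forall (t := t') (fun w hw => hu w (Multiset.mem_cons_of_mem
        (Multiset.mem_of_le (Multiset.mem_powerset.1 ht') hw))), hu a (Multiset.mem_cons_self a u)] at hn
      exact absurd hn (by positivity)
  let D := signedProds s - signedProds t
  have hD : ∀ m : ℕ, 1 ≤ m → (D.sum fun β n => (n : ℂ) * β ^ m) = 0 := fun m hm => by
    rw [Finsupp.sum_sub_index (fun _ _ _ => by push_cast; ring), ← prod_one_sub_pow, ← prod_one_sub_pow, h m hm, sub_self]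
  have hD0 : D = 0 := by
    by_contra hne
    let n := D.support.card
    let f : Fin n → ℂ := fun i => (D.support.equivFin.symm i).1
    have hf : Function.Injective f := Subtype.val_injective.comp D.support.equivFin.symm.injective
    have hv := Matrix.eq_zero_of_forall_pow_sum_mul_pow_eq_zero (v := fun i => (D (f i) : ℂ) * f i) hf fun j => by
      have := hD (j + 1) (Nat.le_add_left 1 j)
      rw [Finsupp.sum, ← Finset.sum_coe_sort, ← D.support.equivFin.symm.sum_comp] at this
      refine Eq.trans ?_ this
      refine Finset.sum_congr rfl fun i _ => ?_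
      show (D (f i) : ℂ) * f i * f i ^ (j : ℕ) = (D (f i) : ℂ) * f i ^ ((j : ℕ) + 1)
      ring
    obtain ⟨β, hβ⟩ := Finsupp.support_nonempty_iff.2 hne
    have h1 := congrFun hv (D.support.equivFin ⟨β, hβ⟩)
    simp only [f, Equiv.symm_apply_apply, Pi.zero_apply, mul_eq_zero, Int.cast_eq_zero] at h1
    rcases h1 with h1 | h1
    · exact Finsupp.mem_support_iff.1 hβ h1
    · rw [h1] at hβ
      exact Finsupp.mem_support_iff.1 hβ (by simp [D, hnz s hs, hnz t ht])
  refine Multiset.ext.2 fun β => ?_
  by_cases hβ : ‖β‖ = r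
  · have := congrArg (fun F : ℂ →₀ ℤ => F β) (sub_eq_zero.1 hD0)
    simp only [signedProds_apply hr hβ hs, signedProds_apply hr hβ ht] at this
    omega
  · rw [Multiset.count_eq_zero.2 fun hm => hβ (hs β hm), Multiset.count_eq_zero.2 fun hm => hβ (ht β hm)]

variable {k : Type u} [Field k] [Finite k]
variable {A B : Over (Spec (CommRingCat.of k))} [GrpObj A] [IsCommMonObj A] [IsProper A.hom]
  [GeometricallyIntegral A.hom] [GrpObj B] [IsCommMonObj B] [IsProper B.hom] [GeometricallyIntegral B.hom]

/-- **Isogenous iff the point counts agree.** -/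
theorem isogenous_iff_nPts :
    (∃ (u : A ⟶ B) (_ : IsMonHom u) (v : B ⟶ A) (_ : IsMonHom v) (n : ℕ), 0 < n ∧
        u ≫ v = (𝟙 A) ^ n ∧ v ≫ u = (𝟙 B) ^ n) ↔
      ∀ m : ℕ, 1 ≤ m → _root_.Zeta.nPts A.hom m = _root_.Zeta.nPts B.hom m := by
  obtain ⟨l, hlp, hlk⟩ := HomFG.exists_prime_ne_zero k
  haveI := Fact.mk hlp
  let Ω := AlgebraicClosure k
  let σ := Spec.map (CommRingCat.ofHom (algebraMap k Ω))
  haveI : Module.Finite ℤ_[l] (TateMod A l (SGA7.pt Ω)) := AbTors.module_finite A σ l hlk
  haveI : Module.Finite ℤ_[l] (TateMod B l (SGA7.pt Ω)) := AbTors.module_finite B σ l hlk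
  haveI : Module.IsTorsionFree ℤ_[l] (TateMod A l (SGA7.pt Ω)) := AbTors.instIsTorsionFree (A := A) (σ := σ) (l := l)
  haveI : Module.IsTorsionFree ℤ_[l] (TateMod B l (SGA7.pt Ω)) := AbTors.instIsTorsionFree (A := B) (σ := σ) (l := l)
  haveI : Module.Free ℤ_[l] (TateMod A l (SGA7.pt Ω)) := Module.free_of_finite_type_torsion_free'
  haveI : Module.Free ℤ_[l] (TateMod B l (SGA7.pt Ω)) := Module.free_of_finite_type_torsion_free'
  obtain ⟨gA, hgA⟩ := AbTors.exists_dim A
  obtain ⟨gB, hgB⟩ := AbTors.exists_dim B
  obtain ⟨πA, iπA, hAb, hAle, hAapp⟩ := RHyp.exists_frob A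
  obtain ⟨πB, iπB, hBb, hBle, hBapp⟩ := RHyp.exists_frob B
  obtain ⟨PA, hPAm, -, -, hPA'⟩ := DegPoly.exists_int_charpoly_hom σ hgA πA
  obtain ⟨PB, hPBm, -, -, hPB'⟩ := DegPoly.exists_int_charpoly_hom σ hgB πB
  have hPA := hPA' l hlk
  have hPB := hPB' l hlk
  have hcA := fun {m : ℕ} (hm : 1 ≤ m) => Poincare.nPts_eq_prod (Ω := Ω) (C := ℂ) l hlk πA hAle hAapp PA hPA hm
  have hcB := fun {m : ℕ} (hm : 1 ≤ m) => Poincare.nPts_eq_prod (Ω := Ω) (C := ℂ) l hlk πB hBle hBapp PB hPB hm
  rw [isogenous_iff_charpoly (Ω := Ω) πA hAle hAapp πB hBle hBapp hlk]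
  constructor
  · intro h m hm
    have hPP : PA = PB := Polynomial.map_injective (Int.castRingHom ℤ_[l]) (RingHom.injective_int _)
      (hPA.symm.trans (h.trans hPB))
    have h2 := hcA hm
    rw [hPP, ← hcB hm] at h2
    exact_mod_cast h2
  · intro h
    have hroots : (PA.map (Int.castRingHom ℂ)).roots = (PB.map (Int.castRingHom ℂ)).roots := by
      have hq : (1 : ℝ) < Real.sqrt (Nat.card k) := by
        rw [Real.lt_sqrt zero_le_one, one_pow]
        exact_mod_cast Finite.one_lt_card
      refine multiset_eq_of_prod_one_sub_pow hq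
        (fun w hw => RHyp.norm_root_charpoly πA hAb hAle hAapp l hlk PA hPA (Polynomial.isRoot_of_mem_roots hw))
        (fun w hw => RHyp.norm_root_charpoly πB hBb hBle hBapp l hlk PB hPB (Polynomial.isRoot_of_mem_roots hw))
        fun m hm => ?_
      rw [← hcA hm, ← hcB hm, h m hm]
    have hmap : PA.map (Int.castRingHom ℂ) = PB.map (Int.castRingHom ℂ) := by
      rw [(IsAlgClosed.splits _).eq_prod_roots_of_monic (hPAm.map _),
        (IsAlgClosed.splits _).eq_prod_roots_of_monic (hPBm.map _), hroots]
    rw [hPA, hPB, Polynomial.map_injective _ (RingHom.injective_int _) hmap]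

end GrothLib.TateThm
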