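import Groth.Agent.Lib.TateThm.Sections

/-!
# The point of projective space attached to a generating power
-/

set_option autoImplicit false
set_option linter.all false
set_option backward.isDefEq.respectTransparency false
set_option maxHeartbeats 1000000

universe u

open CategoryTheory CategoryTheory.Limits AlgebraicGeometry TopologicalSpace Opposite
open GrothLib.Ample (Cocycle res)
open MvPolynomial (X C homogeneousSubmodule)
open HomogeneousLocalization (Away)

noncomputable section

namespace GrothLib.TateThm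

variable {Y : Scheme.{u}} (c : Cocycle Y)

/-- A section generating at a point is seen by any spanning family. -/
theorem exists_mem_locus_of_span (k : Type u) [Field k] [Y.Over (Spec (CommRingCat.of k))] {n : ℕ} {ι : Type}
    [Fintype ι] (bas : Module.Basis ι k (Coh.HH Y (c.twist n) 0)) (B : c.sect n ⊤) {p : Y} (hp : p ∈ c.locus B) :
    ∃ l, p ∈ c.locus (ProjCoh.H0top (c.twist n) (bas l) : c.sect n ⊤) := by
  by_contra h
  push Not at h
  obtain ⟨i, hi⟩ := c.exists_mem p
  have hp1 : p ∈ (⊤ ⊓ c.D i : Y.Opens) := ⟨trivial, hi⟩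
  obtain ⟨z, hzB⟩ := (ProjCoh.H0top (c.twist n)).surjective B
  suffices p ∉ c.locus (ProjCoh.H0top (c.twist n) z : c.sect n ⊤) from this (by rw [hzB]; exact hp)
  have hz : z ∈ Submodule.span k (Set.range bas) := bas.span_eq ▸ trivial
  clear hzB
  induction hz using Submodule.span_induction with
  | mem z hz => obtain ⟨l, rfl⟩ := hz; exact h l
  | zero =>
    rw [map_zero (ProjCoh.H0top (c.twist n)), c.mem_locus_iff _ hi, Scheme.mem_basicOpen Y _ p hp1]
    show ¬ IsUnit (Y.presheaf.germ _ p _ (0 : Γ(Y, _)))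
    rw [map_zero]
    exact not_isUnit_zero
  | add z z' _ _ hz hz' =>
    rw [c.mem_locus_iff _ hi, Scheme.mem_basicOpen Y _ p hp1] at hz hz' ⊢
    rw [map_add (ProjCoh.H0top (c.twist n))]
    show ¬ IsUnit (Y.presheaf.germ _ p _ ((show c.sect n ⊤ from ProjCoh.H0top (c.twist n) z).1 i +
      (show c.sect n ⊤ from ProjCoh.H0top (c.twist n) z').1 i))
    rw [map_add]
    exact fun hu => (IsLocalRing.isUnit_or_isUnit_of_isUnit_add hu).elim hz hz'
  | smul r z _ hz =>
    rw [c.mem_locus_iff _ hi, Scheme.mem_basicOpen Y _ p hp1] at hz ⊢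
    rw [ProjCoh.H0top_smul]
    show ¬ IsUnit (Y.presheaf.germ _ p _ (_ * _))
    rw [map_mul]
    exact fun hu => hz (isUnit_of_mul_isUnit_right hu)

theorem eq_zero_of_locus_eq_bot [IsReduced Y] {n : ℕ} (a : c.sect n ⊤) (h : c.locus a = ⊥) : a = 0 :=
  c.sect_ext fun i => by
    have h1 : c.locus a ⊓ c.D i = ⊥ := by rw [h, bot_inf_eq]
    rw [c.locus_inf_D, basicOpen_eq_bot_iff] at h1
    exact h1

/-- The invariant of an embedded variety: a point of projective space with prescribed codimensions. -/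
theorem exists_embedding (k : Type u) [Field k] [Y.Over (Spec (CommRingCat.of k))] [IsProper (Y ↘ Spec (CommRingCat.of k))]
    [IsIntegral Y] (hc : c.IsAmp) (hvan : ∀ a, 1 ≤ a → ∀ j, 1 ≤ j → Subsingleton (Coh.HH Y (c.twist a) j))
    (hgen : ∀ p : Y, ∃ a : c.sect 1 ⊤, p ∈ c.locus a) (h : ℕ → ℕ)
    (hh : ∀ a, 1 ≤ a → Module.finrank k (Coh.HH Y (c.twist a) 0) = h a) :
    ∃ (m : ℕ) (x : CohB1.ProjSpace m k) (i : Y ⟶ CohB1.ProjSpace m k), m + 1 = h (h 1) ∧ IsClosedImmersion i ∧
      i ≫ CohB1.ProjSpace.toSpec m k = Y ↘ Spec (CommRingCat.of k) ∧ Set.range i = closure {x} ∧ ∀ a, 1 ≤ a →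
        Module.finrank k ↥(homogeneousSubmodule (Fin (m + 1)) k a ⊓
            Submodule.restrictScalars k x.asHomogeneousIdeal.toIdeal :
          Submodule k (MvPolynomial (Fin (m + 1)) k)) + h (h 1 * a) =
          Module.finrank k ↥(homogeneousSubmodule (Fin (m + 1)) k a) := by
  classical
  haveI := Euler.isNoetherian_of_proper (X := Y) k
  have hfd : ∀ a, FiniteDimensional k (Coh.HH Y (c.twist a) 0) := fun a =>
    Euler.finiteDimensional_HH k (Euler.isCoh_of_isInvertible (c.isInvertible_twist a)) 0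
  haveI := hfd 1
  let bas₁ := Module.finBasis k (Coh.HH Y (c.twist 1) 0)
  let a₁ : ℕ → c.sect 1 ⊤ := fun l => if hl : l < Module.finrank k (Coh.HH Y (c.twist 1) 0) then
    ProjCoh.H0top (c.twist 1) (bas₁ ⟨l, hl⟩) else 0
  have hcov₁ : CMReg.Covers c a₁ (Module.finrank k (Coh.HH Y (c.twist 1) 0)) := fun p => by
    obtain ⟨B, hB⟩ := hgen p
    obtain ⟨l, hl⟩ := exists_mem_locus_of_span c k bas₁ B hB
    exact ⟨l, l.2, by simp only [a₁, dif_pos l.2]; exact hl⟩
  obtain ⟨N, hN⟩ : ∃ N, Module.finrank k (Coh.HH Y (c.twist 1) 0) = N + 1 := by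
    obtain ⟨p⟩ : Nonempty Y := inferInstance
    obtain ⟨l, hl, -⟩ := hcov₁ p
    exact ⟨_, (Nat.succ_pred_eq_of_pos (Nat.lt_of_le_of_lt (Nat.zero_le _) hl)).symm⟩
  rw [hN] at hcov₁
  have hr : h 1 = N + 1 := (hh 1 le_rfl).symm.trans hN
  rw [hr]
  generalize hrN : N + 1 = r at hcov₁
  have hr0 : 0 < r := hrN ▸ Nat.succ_pos N
  -- the degree `r` sections
  haveI := hfd r
  let d := c.pow r
  let bas := Module.finBasis k (Coh.HH Y (c.twist r) 0)
  obtain ⟨m, hm⟩ : ∃ m, Module.finrank k (Coh.HH Y (c.twist r) 0) = m + 1 := by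
    obtain ⟨p⟩ : Nonempty Y := inferInstance
    obtain ⟨B, hB⟩ := hgen p
    obtain ⟨l, -⟩ := exists_mem_locus_of_span c k bas (c.sectCast (one_mul r) (c.sectPow B r))
      (by rw [c.locus_sectCast, c.locus_sectPow B hr0]; exact hB)
    exact ⟨_, (Nat.succ_pred_eq_of_pos (Fin.pos l)).symm⟩
  let b : Fin (m + 1) → c.sect r ⊤ := fun l => ProjCoh.H0top (c.twist r) (bas (Fin.cast hm.symm l))
  let bb : Fin (m + 1) → d.sect 1 ⊤ := fun l => c.toPow r (c.sectCast (mul_one r).symm (b l))
  have hlocb : ∀ l, d.locus (bb l) = c.locus (b l) := fun l => by rw [c.locus_toPow, c.locus_sectCast]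
  have hcov : ∀ p : Y, ∃ l, p ∈ d.locus (bb l) := fun p => by
    obtain ⟨B, hB⟩ := hgen p
    obtain ⟨l, hl⟩ := exists_mem_locus_of_span c k bas (c.sectCast (one_mul r) (c.sectPow B r))
      (by rw [c.locus_sectCast, c.locus_sectPow B hr0]; exact hB)
    exact ⟨Fin.cast hm l, by rw [hlocb]; exact hl⟩
  let q := Y ↘ Spec (CommRingCat.of k)
  let s : Fin (m + 1) → ProjUP.Γm (d.twist 1) := fun l => bb l
  have hs : ⨆ l, d.locus (Ample.ProjMap.sec d (Iso.refl _) s l) = ⊤ := eq_top_iff.mpr fun p _ => by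
    obtain ⟨l, hl⟩ := hcov p
    exact Opens.mem_iSup.mpr ⟨l, hl⟩
  let D := Ample.ProjMap.dataOfSections d (Iso.refl _) s hs q
  -- the components on a chart
  have chart : ∀ j : Fin (m + 1),
      (∀ a, 1 ≤ a → ∀ B : c.sect (r * a) ⊤, ∃ p ∈ homogeneousSubmodule (Fin (m + 1)) k a, ∀ i,
        res (inf_le_inf_right (c.D i) (le_top : D.U j ≤ ⊤)) (B.1 i) =
          res (inf_le_left : D.U j ⊓ c.D i ≤ D.U j) (D.evalU j p) *
            res (inf_le_inf_right (c.D i) (le_top : D.U j ≤ ⊤)) ((b j).1 i) ^ a) ∧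
      ∀ a, ∀ p ∈ homogeneousSubmodule (Fin (m + 1)) k a, ∃ B : c.sect (r * a) ⊤, ∀ i,
        res (inf_le_inf_right (c.D i) (le_top : D.U j ≤ ⊤)) (B.1 i) =
          res (inf_le_left : D.U j ⊓ c.D i ≤ D.U j) (D.evalU j p) *
            res (inf_le_inf_right (c.D i) (le_top : D.U j ≤ ⊤)) ((b j).1 i) ^ a := by
    intro j
    let P : ∀ n : ℕ, c.sect n ⊤ → ℕ → MvPolynomial (Fin (m + 1)) k → Prop := fun n B a p => ∀ i,
      res (inf_le_inf_right (c.D i) (le_top : D.U j ≤ ⊤)) (B.1 i) = res (inf_le_left : D.U j ⊓ c.D i ≤ D.U j) (D.evalU j p) * res (inf_le_inf_right (c.D i) (le_top : D.U j ≤ ⊤)) ((b j).1 i) ^ a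
    have hb : ∀ l, P r (b l) 1 (X l) := fun l i => by
      have h1 := congrArg (fun t : d.sect 1 (D.U j) => t.1 i) (d.exists_ratio (bb j) (bb l)).choose_spec.1
      simp only [Cocycle.sectRes_apply, Cocycle.smul_apply] at h1
      rw [pow_one, Ample.ProjMap.Data.evalU, MvPolynomial.coe_eval₂Hom, MvPolynomial.eval₂_X]
      exact h1
    have hzero : ∀ n a, P n 0 a 0 := fun n a i => by
      show res (inf_le_inf_right (c.D i) (le_top : D.U j ≤ ⊤)) (0 : Γ(Y, _)) = _
      rw [map_zero, map_zero, map_zero, zero_mul]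
    have hadd : ∀ n a (B B' : c.sect n ⊤) p p', P n B a p → P n B' a p' → P n (B + B') a (p + p') :=
      fun n a B B' p p' h1 h2 i => by
        show res (inf_le_inf_right (c.D i) (le_top : D.U j ≤ ⊤)) (B.1 i + B'.1 i) = _
        rw [map_add (res (inf_le_inf_right (c.D i) (le_top : D.U j ≤ ⊤))), map_add, map_add, add_mul, ← h1 i, ← h2 i]
    have hmul : ∀ n n' a a' (B : c.sect n ⊤) (B' : c.sect n' ⊤) p p', P n B a p → P n' B' a' p' →
        P (n + n') (mulSect c B B') (a + a') (p * p') := fun n n' a a' B B' p p' h1 h2 i => by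
      show res (inf_le_inf_right (c.D i) (le_top : D.U j ≤ ⊤)) (B.1 i * B'.1 i) = _
      rw [map_mul (res (inf_le_inf_right (c.D i) (le_top : D.U j ≤ ⊤))), map_mul, map_mul, pow_add]
      rw [h1 i, h2 i]; ring
    have hone : ∀ B : c.sect r ⊤, ∃ p ∈ homogeneousSubmodule (Fin (m + 1)) k 1, P r B 1 p := fun B => by
      obtain ⟨z, rfl⟩ := (ProjCoh.H0top (c.twist r)).surjective B
      have hz : z ∈ Submodule.span k (Set.range bas) := bas.span_eq ▸ trivial
      induction hz using Submodule.span_induction with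
      | mem z hz =>
        obtain ⟨l, rfl⟩ := hz
        exact ⟨X (Fin.cast hm l), MvPolynomial.isHomogeneous_X k _, hb (Fin.cast hm l)⟩
      | zero => exact ⟨0, zero_mem _, by rw [map_zero (ProjCoh.H0top (c.twist r))]; exact hzero r 1⟩
      | add z z' _ _ hz hz' =>
        obtain ⟨p, hp, hp'⟩ := hz
        obtain ⟨p', hq, hq'⟩ := hz'
        exact ⟨p + p', add_mem hp hq, by rw [map_add (ProjCoh.H0top (c.twist r))]; exact hadd _ _ _ _ _ _ hp' hq'⟩
      | smul t z _ hz =>
        obtain ⟨p, hp, hp'⟩ := hz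
        refine ⟨C t * p, by rw [← MvPolynomial.smul_eq_C_mul]; exact Submodule.smul_mem _ t hp, fun i => ?_⟩
        rw [ProjCoh.H0top_smul]
        show res _ (res _ _ * _) = _
        rw [map_mul, map_mul, map_mul, hp' i, ← mul_assoc]
        congr 2
        rw [Ample.ProjMap.Data.evalU, MvPolynomial.coe_eval₂Hom, MvPolynomial.eval₂_C, RingHom.comp_apply,
          Ample.res_res, Ample.res_res]
        rfl
    refine ⟨fun a ha B => ?_, fun a p hp => ?_⟩
    · induction a, ha using Nat.le_induction with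
      | base =>
        obtain ⟨p, hp, hp'⟩ := hone (c.sectCast (mul_one r) B)
        exact ⟨p, hp, hp'⟩
      | succ a ha ih =>
        have hmem := mem_closure_mulSect c k hvan a₁ (N := N) (hrN ▸ hcov₁) (n := r * a)
          (by rw [hrN]; exact Nat.le_mul_of_pos_right r ha) r (c.sectCast (Nat.mul_succ r a) B)
        suffices ∀ B' ∈ AddSubmonoid.closure {B | ∃ (u : c.sect (r * a) ⊤) (v : c.sect r ⊤), B = mulSect c u v},
            ∃ p ∈ homogeneousSubmodule (Fin (m + 1)) k (a + 1), P (r * a + r) B' (a + 1) p by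
          obtain ⟨p, hp, hp'⟩ := this _ hmem
          exact ⟨p, hp, hp'⟩
        intro B' hB'
        induction hB' using AddSubmonoid.closure_induction with
        | mem t ht =>
          obtain ⟨u, v, rfl⟩ := ht
          obtain ⟨p, hp, hp'⟩ := ih u
          obtain ⟨p', hq, hq'⟩ := hone v
          exact ⟨p * p', MvPolynomial.IsHomogeneous.mul hp hq, hmul _ _ _ _ _ _ _ _ hp' hq'⟩
        | zero => exact ⟨0, zero_mem _, hzero _ _⟩
        | add t t' _ _ h1 h2 =>
          obtain ⟨p, hp, hp'⟩ := h1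
          obtain ⟨p', hq, hq'⟩ := h2
          exact ⟨p + p', add_mem hp hq, hadd _ _ _ _ _ _ hp' hq'⟩
    · have hlin : ∀ p ∈ homogeneousSubmodule (Fin (m + 1)) k 1, ∃ B : c.sect r ⊤, P r B 1 p := by
        rw [MvPolynomial.homogeneousSubmodule_one_eq_span_X]
        intro p hp
        induction hp using Submodule.span_induction with
        | mem p hp => obtain ⟨l, rfl⟩ := hp; exact ⟨b l, hb l⟩
        | zero => exact ⟨0, hzero r 1⟩
        | add p p' _ _ h1 h2 =>
          obtain ⟨B, hB⟩ := h1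
          obtain ⟨B', hB'⟩ := h2
          exact ⟨B + B', hadd _ _ _ _ _ _ hB hB'⟩
        | smul t p _ h1 =>
          obtain ⟨B, hB⟩ := h1
          refine ⟨(show Γ(Y, ⊤) from Coh.toGlobal q t) • B, fun i => ?_⟩
          show res _ (res _ _ * _) = _
          rw [map_mul, MvPolynomial.smul_eq_C_mul, map_mul, map_mul, hB i, ← mul_assoc]
          congr 2
          rw [Ample.ProjMap.Data.evalU, MvPolynomial.coe_eval₂Hom, MvPolynomial.eval₂_C, RingHom.comp_apply,
            Ample.res_res, Ample.res_res]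
          rfl
      suffices ∃ B : c.sect (r * a) ⊤, P (r * a) B a p from this
      induction a generalizing p with
      | zero =>
        rw [MvPolynomial.homogeneousSubmodule_zero, Submodule.mem_one] at hp
        obtain ⟨t, rfl⟩ := hp
        refine ⟨(show Γ(Y, ⊤) from Coh.toGlobal q t) • c.sectCast (mul_zero r).symm ⟨fun _ => 1, fun i j W hi hj => by simp⟩,
          fun i => ?_⟩
        show res _ (res _ _ * 1) = _
        rw [mul_one, pow_zero, mul_one, MvPolynomial.algebraMap_eq, Ample.ProjMap.Data.evalU,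
          MvPolynomial.coe_eval₂Hom, MvPolynomial.eval₂_C, RingHom.comp_apply, Ample.res_res, Ample.res_res]
        rfl
      | succ a ih =>
        rw [← MvPolynomial.homogeneousSubmodule_one_pow, pow_succ, MvPolynomial.homogeneousSubmodule_one_pow] at hp
        refine Submodule.mul_induction_on hp (fun p hp p' hp' => ?_) (fun p p' h1 h2 => ?_)
        · obtain ⟨B, hB⟩ := ih p hp
          obtain ⟨B', hB'⟩ := hlin p' hp'
          exact ⟨c.sectCast (Nat.mul_succ r a).symm (mulSect c B B'), hmul _ _ _ _ _ _ _ _ hB hB'⟩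
        · obtain ⟨B, hB⟩ := h1
          obtain ⟨B', hB'⟩ := h2
          exact ⟨B + B', hadd _ _ _ _ _ _ hB hB'⟩
  -- the closed immersion
  have hd : d.IsAmp := (c.isAmp_pow_iff hr0).2 hc
  have hclosed : IsClosedImmersion D.map := by
    haveI := Chow.isProper_toSpec m k
    haveI : IsProper (D.map ≫ CohB1.ProjSpace.toSpec m k) := by rw [D.map_toSpec]; infer_instance
    haveI : IsProper D.map := IsProper.of_comp D.map (CohB1.ProjSpace.toSpec m k)
    let P := CohB1.polyGrading m k
    haveI : IsImmersion D.map := by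
      refine Ample.isImmersion_of_affine_pieces D.map (fun l => Proj.basicOpen P (X l))
        (fun l => Proj.isAffineOpen_basicOpen P _ (Ample.ProjMap.X_mem l) one_pos)
        (fun p => by
          obtain ⟨l, hl⟩ := hcov p
          exact ⟨l, show p ∈ D.map ⁻¹ᵁ Proj.basicOpen P (X l) by rw [D.map_preimage]; exact hl⟩)
        (fun l => by rw [D.map_preimage]; exact CurveMult.isAffineOpen_locus_of_isAmp k d hd bb hcov l) fun j => ?_
      have hle : D.U j ≤ D.map ⁻¹ᵁ Proj.basicOpen P (X j) := (D.map_preimage j).ge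
      suffices hsur : Function.Surjective (D.map.appLE (Proj.basicOpen P (X j)) (D.U j) hle).hom by
        have key : ∀ (V : Y.Opens) (hV : V ≤ D.map ⁻¹ᵁ Proj.basicOpen P (X j)), V = D.U j →
            Function.Surjective (D.map.appLE (Proj.basicOpen P (X j)) V hV).hom := by
          rintro _ hV rfl
          exact hsur
        exact key _ _ (D.map_preimage j)
      intro t
      have hrange : ∀ p, D.evalU j p ∈ (D.map.appLE (Proj.basicOpen P (X j)) (D.U j) hle).hom.range := by
        intro p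
        induction p using MvPolynomial.induction_on with
        | C t =>
          refine ⟨((CohB1.ProjSpace.toSpec m k).appLE ⊤ (Proj.basicOpen P (X j)) le_top).hom
            ((Scheme.ΓSpecIso (CommRingCat.of k)).inv t), ?_⟩
          rw [← CommRingCat.comp_apply, Scheme.Hom.appLE_comp_appLE]
          rw [Ample.ProjMap.Data.evalU, MvPolynomial.coe_eval₂Hom, MvPolynomial.eval₂_C]
          have key : ∀ (φ : Y ⟶ Spec (CommRingCat.of k)) (h : D.U j ≤ φ ⁻¹ᵁ ⊤), φ = q →
              (φ.appLE ⊤ (D.U j) h).hom ((Scheme.ΓSpecIso (CommRingCat.of k)).inv t) =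
                res (le_top : D.U j ≤ ⊤) (Coh.toGlobal q t) := by
            rintro _ h rfl
            rfl
          exact key _ _ D.map_toSpec
        | add p p' hp hp' => rw [map_add]; exact add_mem hp hp'
        | mul_X p l hp =>
          rw [map_mul]
          refine mul_mem hp ⟨Proj.awayToSection P (X j) (Ample.ProjMap.ratio j l), ?_⟩
          rw [D.map_appLE_ratio j l le_rfl hle, Ample.ProjMap.Data.evalU, MvPolynomial.coe_eval₂Hom,
            MvPolynomial.eval₂_X]
          exact Ample.res_self _ _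
      obtain ⟨a, B, hB⟩ := d.exists_extend (bb j) t
      obtain ⟨p, -, hp⟩ := (chart j).1 (a + 1) (Nat.succ_pos a)
        (c.sectCast (Nat.mul_succ r a).symm (mulSect c (c.sectCast (by rw [one_mul]) (c.ofPow r B)) (b j)))
      suffices h5 : D.evalU j p = t from h5 ▸ hrange p
      refine d.smul_injective_of_le_locus (d.sectPow (bb j) (a + 1)) (d.le_locus_sectPow (bb j) (a + 1))
        (d.sect_ext fun i => ?_)
      have h2 := congrArg (fun t : d.sect (1 * a) (D.U j) => t.1 i) hB
      have h3 := hp i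
      simp only [Cocycle.sectRes_apply, Cocycle.smul_apply, Cocycle.sectPow_apply, map_pow] at h2 ⊢
      refine h3.symm.trans ?_
      refine (map_mul (res (inf_le_inf_right (c.D i) (le_top : D.U j ≤ ⊤))) _ _).trans ?_
      show res _ _ * res _ _ = res (inf_le_left : D.U j ⊓ c.D i ≤ D.U j) t *
        res (inf_le_inf_right (c.D i) (le_top : D.U j ≤ ⊤)) ((b j).1 i) ^ (a + 1)
      rw [pow_succ]
      refine Eq.trans ?_ (_root_.mul_assoc _ _ _)
      exact congrArg (· * _) h2
    exact IsClosedImmersion.of_isPreimmersion D.map D.map.isClosedMap.isClosed_range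
  let η := genericPoint Y
  refine ⟨m, D.map η, D.map, (hh r hr0).symm.trans hm |>.symm, hclosed, D.map_toSpec, ?_, fun a ha => ?_⟩
  · refine subset_antisymm ?_ (closure_minimal (Set.singleton_subset_iff.2 ⟨η, rfl⟩) D.map.isClosedEmbedding.isClosed_range)
    rintro _ ⟨p, rfl⟩
    exact specializes_iff_mem_closure.1 (((genericPoint_spec Y).specializes trivial).map D.map.continuous)
  obtain ⟨j, hj⟩ := Opens.mem_iSup.mp (D.cover ▸ Opens.mem_top η : η ∈ ⨆ i, D.U i)
  letI : Algebra k Γ(Y, D.U j) := ((res (le_top : D.U j ≤ ⊤)).comp (Coh.toGlobal q)).toAlgebra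
  haveI : Nonempty (D.U j) := ⟨⟨η, hj⟩⟩
  let S := homogeneousSubmodule (Fin (m + 1)) k a
  let F : MvPolynomial (Fin (m + 1)) k →ₗ[k] Γ(Y, D.U j) := (MvPolynomial.aeval (D.φ j)).toLinearMap
  have hF : ∀ p, F p = D.evalU j p := fun p => rfl
  -- membership in the point
  have hmem : ∀ p ∈ S, (p ∈ (D.map η).asHomogeneousIdeal.toIdeal ↔ F p = 0) := fun p hp => by
    rw [hF]
    have e1 : D.map η ∈ Proj.basicOpen (CohB1.polyGrading m k) p ↔ η ∈ Y.basicOpen (D.evalU j p) := by
      have e : D.map η = D.piece j ⟨η, hj⟩ := by rw [← D.ι_map]; rfl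
      rw [e]
      show (⟨η, hj⟩ : D.U j) ∈ D.piece j ⁻¹ᵁ Proj.basicOpen (CohB1.polyGrading m k) p ↔ _
      rw [Ample.ProjMap.Data.piece, ProjPt.pt_preimage_basicOpen (CohB1.polyGrading m k) (Ample.ProjMap.X_mem j)
        one_pos _ hp ha, RingHom.comp_apply]
      have e2 : D.g j (Away.isLocalizationElem (Ample.ProjMap.X_mem j) hp) = D.evalU j p := by
        have h0 := ProjPt.evalAway_mk_spec (CohB1.polyGrading m k) (D.evalU j) (Ample.ProjMap.X_mem j)
          (D.isUnit_evalU j) a (p ^ 1) (by rw [pow_one, smul_eq_mul, mul_one]; exact hp)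
        have hXj : D.evalU j (X j) = 1 := by
          rw [Ample.ProjMap.Data.evalU, MvPolynomial.coe_eval₂Hom, MvPolynomial.eval₂_X, D.self]
        rw [hXj, one_pow, mul_one, map_pow] at h0
        refine Eq.trans ?_ (h0.trans (pow_one _))
        rfl
      rw [e2, show (D.U j).topIso.inv.hom (D.evalU j p) =
        ((D.U j).ι.appLE (D.U j) ⊤ (D.U j).ι_preimage_self.ge).hom (D.evalU j p) by rw [Scheme.Opens.ι_appLE]; rfl,
        Scheme.basicOpen_appLE]
      exact ⟨fun h => h.2, fun h => ⟨trivial, h⟩⟩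
    rw [Proj.mem_basicOpen] at e1
    constructor
    · intro hpm
      by_contra hne
      have hb : (Y.basicOpen (D.evalU j p) : Set Y).Nonempty := by
        by_contra h0
        exact hne (AlgebraicGeometry.basicOpen_eq_bot_iff _ |>.1 ((Opens.not_nonempty_iff_eq_bot _).1 h0))
      exact e1.2 ((genericPoint_spec Y).mem_open_set_iff (Y.basicOpen _).isOpen |>.2 (by simpa using hb)) hpm
    · intro h0
      by_contra hne
      have := e1.1 hne
      rw [h0, Scheme.basicOpen_zero] at this
      exact this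
  -- the sections
  haveI := hfd (r * a)
  have hchoice : ∀ z : Coh.HH Y (c.twist (r * a)) 0, ∃ t : Γ(Y, D.U j), ∀ i,
      res (inf_le_inf_right (c.D i) (le_top : D.U j ≤ ⊤))
          ((show c.sect (r * a) ⊤ from ProjCoh.H0top (c.twist (r * a)) z).1 i) =
        res (inf_le_left : D.U j ⊓ c.D i ≤ D.U j) t *
          res (inf_le_inf_right (c.D i) (le_top : D.U j ≤ ⊤)) ((b j).1 i) ^ a := fun z => by
    obtain ⟨p, -, hp⟩ := (chart j).1 a ha (ProjCoh.H0top (c.twist (r * a)) z)
    exact ⟨_, hp⟩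
  choose Ψ hΨ using hchoice
  have huniq : ∀ t t' : Γ(Y, D.U j), (∀ i, res (inf_le_left : D.U j ⊓ c.D i ≤ D.U j) t *
      res (inf_le_inf_right (c.D i) (le_top : D.U j ≤ ⊤)) ((b j).1 i) ^ a =
      res (inf_le_left : D.U j ⊓ c.D i ≤ D.U j) t' *
      res (inf_le_inf_right (c.D i) (le_top : D.U j ≤ ⊤)) ((b j).1 i) ^ a) → t = t' := fun t t' he => by
    refine d.smul_injective_of_le_locus (d.sectPow (bb j) a) (d.le_locus_sectPow (bb j) a) (d.sect_ext fun i => ?_)
    simp only [Cocycle.sectRes_apply, Cocycle.smul_apply, Cocycle.sectPow_apply, map_pow]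
    exact he i
  let L : Coh.HH Y (c.twist (r * a)) 0 →ₗ[k] Γ(Y, D.U j) :=
    { toFun := Ψ
      map_add' := fun z z' => huniq _ _ fun i => by
        rw [map_add, add_mul, ← hΨ, ← hΨ, ← hΨ, map_add (ProjCoh.H0top (c.twist (r * a)))]
        exact map_add _ _ _
      map_smul' := fun t z => huniq _ _ fun i => by
        rw [RingHom.id_apply, Algebra.smul_def, RingHom.algebraMap_toAlgebra, map_mul, mul_assoc, ← hΨ, ← hΨ,
          ProjCoh.H0top_smul]
        show res _ (res _ _ * _) = _
        rw [map_mul, RingHom.comp_apply, Ample.res_res, Ample.res_res]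
        rfl }
  have hLinj : Function.Injective L := (injective_iff_map_eq_zero L).2 fun z hz => by
    have h0 : (show c.sect (r * a) ⊤ from ProjCoh.H0top (c.twist (r * a)) z) = 0 := by
      refine eq_zero_of_locus_eq_bot c _ ?_
      by_contra hne
      obtain ⟨p, hp, hpj⟩ := nonempty_preirreducible_inter (c.locus _).isOpen (D.U j).isOpen
        ((Opens.ne_bot_iff_nonempty _).1 hne) ⟨η, hj⟩
      obtain ⟨i, hi⟩ := c.exists_mem p
      have h1 := hΨ z i
      rw [show Ψ z = 0 from hz, map_zero, zero_mul] at h1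
      have h2 := (c.mem_locus_iff _ hi).1 hp
      have h3 : p ∈ Y.basicOpen (res (inf_le_inf_right (c.D i) (le_top : D.U j ≤ ⊤))
          ((show c.sect (r * a) ⊤ from ProjCoh.H0top (c.twist (r * a)) z).1 i)) := by
        rw [res, Scheme.basicOpen_res]
        exact ⟨⟨hpj, hi⟩, h2⟩
      rw [h1, Scheme.basicOpen_zero] at h3
      exact h3
    exact (ProjCoh.H0top (c.twist (r * a))).injective (h0.trans (map_zero (ProjCoh.H0top (c.twist (r * a)))).symm)
  have hrg : LinearMap.range (F.domRestrict S) = LinearMap.range L := by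
    refine le_antisymm ?_ ?_
    · rintro _ ⟨⟨p, hp⟩, rfl⟩
      obtain ⟨B, hB⟩ := (chart j).2 a p hp
      obtain ⟨z, rfl⟩ := (ProjCoh.H0top (c.twist (r * a))).surjective B
      exact ⟨z, huniq _ _ fun i => by rw [LinearMap.domRestrict_apply, hF, ← hB i]; exact (hΨ z i).symm⟩
    · rintro _ ⟨z, rfl⟩
      obtain ⟨p, hp, hp'⟩ := (chart j).1 a ha (ProjCoh.H0top (c.twist (r * a)) z)
      exact ⟨⟨p, hp⟩, huniq _ _ fun i => by rw [LinearMap.domRestrict_apply, hF, ← hp' i]; exact hΨ z i⟩
  haveI : Module.Finite k ↥S := Module.Finite.iff_fg.2 (by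
    rw [show S = homogeneousSubmodule (Fin (m + 1)) k 1 ^ a from (MvPolynomial.homogeneousSubmodule_one_pow (σ := Fin (m + 1)) (R := k) a).symm,
      MvPolynomial.homogeneousSubmodule_one_eq_span_X]
    exact Submodule.FG.pow (Submodule.fg_span (Set.finite_range _)) a)
  have hsum := (F.domRestrict S).finrank_range_add_finrank_ker
  rw [hrg, LinearMap.finrank_range_of_inj hLinj, hh (r * a) (Nat.mul_pos hr0 ha)] at hsum
  rw [← hsum, add_comm]
  congr 1
  have hker : LinearMap.ker (F.domRestrict S) =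
      (S ⊓ Submodule.restrictScalars k (D.map η).asHomogeneousIdeal.toIdeal).comap S.subtype := by
    ext ⟨p, hp⟩
    exact ⟨fun h0 => ⟨hp, (hmem p hp).2 h0⟩, fun h0 => (hmem p hp).1 h0.2⟩
  rw [hker]
  exact (LinearEquiv.finrank_eq (Submodule.comapSubtypeEquivOfLe inf_le_left)).symm

end GrothLib.TateThm
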