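import Groth.Agent.Lib.TateThm.Core
import Groth.Agent.Lib.TateThm.Algebra
import Groth.Agent.Lib.Poincare.Regular
import Groth.Agent.Lib.Cube.SeesawPic
import Groth.Prelude.Def_EndRing

/-!
# Semisimplicity and the graph argument
-/

set_option autoImplicit false
set_option linter.all false
set_option backward.isDefEq.respectTransparency false
set_option maxHeartbeats 1000000

universe u

open CategoryTheory CategoryTheory.Limits MonoidalCategory CartesianMonoidalCategory MonObj GrpObj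
open AlgebraicGeometry
open scoped TensorProduct

noncomputable section

namespace GrothLib.TateThm

open AbDual

variable {k Ω : Type u} [Field k] [Field Ω] [Algebra k Ω] {l : ℕ} [hl : Fact l.Prime]
variable {A B C : Over (Spec (CommRingCat.of k))} [GrpObj A] [IsCommMonObj A] [GrpObj B] [IsCommMonObj B]
  [GrpObj C] [IsCommMonObj C]

/-- The Galois action on the Tate module. -/
def galT (A : Over (Spec (CommRingCat.of k))) [GrpObj A] [IsCommMonObj A] (l : ℕ) [Fact l.Prime]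
    (τ : Ω ≃ₐ[k] Ω) : Module.End ℤ_[l] (TateMod A l (SGA7.pt Ω)) where
  toFun z := ⟨fun n => Additive.ofMul (SGA7.galAct τ ((z : ℕ → Additive (SGA7.pt Ω ⟶ A)) n).toMul),
    ⟨fun n => by
      refine Additive.toMul.injective ?_
      show (SGA7.specAut τ ≫ ((z : ℕ → Additive (SGA7.pt Ω ⟶ A)) n).toMul) ^ (l ^ n) = 1
      rw [← MonObj.comp_pow]
      exact (congrArg (SGA7.specAut τ ≫ ·) (TateMod.component_mem z n)).trans (MonObj.comp_one _),
     fun n => by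
      refine Additive.toMul.injective ?_
      show (SGA7.specAut τ ≫ ((z : ℕ → Additive (SGA7.pt Ω ⟶ A)) (n + 1)).toMul) ^ l = _
      rw [← MonObj.comp_pow]
      exact congrArg (SGA7.specAut τ ≫ ·) (congrArg Additive.toMul (z.compat n))⟩⟩
  map_add' x y := TateMod.ext fun n => congrArg Additive.ofMul (MonObj.comp_mul (SGA7.specAut τ) _ _)
  map_smul' a x := TateMod.ext fun n => (by
    refine Additive.toMul.injective ?_
    show SGA7.specAut τ ≫ (((x : ℕ → Additive (SGA7.pt Ω ⟶ A)) n).toMul ^ a.appr n) = (SGA7.specAut τ ≫ _) ^ a.appr n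
    exact MonObj.comp_pow _ _ _)

theorem eq_galT (ρ : (Ω ≃ₐ[k] Ω) → Module.End ℤ_[l] (TateMod A l (SGA7.pt Ω)))
    (hρ : ∀ (τ : Ω ≃ₐ[k] Ω) (z : TateMod A l (SGA7.pt Ω)) (m : ℕ),
      (TateMod.component A l (SGA7.pt Ω) m (ρ τ z)).toMul =
        SGA7.galAct τ (TateMod.component A l (SGA7.pt Ω) m z).toMul) (τ : Ω ≃ₐ[k] Ω) : ρ τ = galT A l τ :=
  LinearMap.ext fun z => TateMod.ext fun n => Additive.toMul.injective (hρ τ z n)

theorem component_galT (τ : Ω ≃ₐ[k] Ω) (z : TateMod A l (SGA7.pt Ω)) (m : ℕ) :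
    (TateMod.component A l (SGA7.pt Ω) m (galT A l τ z)).toMul =
      SGA7.galAct τ (TateMod.component A l (SGA7.pt Ω) m z).toMul := rfl

/-- The rational Galois action. -/
abbrev galV (A : Over (Spec (CommRingCat.of k))) [GrpObj A] [IsCommMonObj A] (l : ℕ) [Fact l.Prime]
    (τ : Ω ≃ₐ[k] Ω) : Module.End ℚ_[l] (ℚ_[l] ⊗[ℤ_[l]] TateMod A l (SGA7.pt Ω)) :=
  (galT A l τ).baseChange ℚ_[l]

theorem galT_comm (f : A ⟶ B) [IsMonHom f] (τ : Ω ≃ₐ[k] Ω) :
    (tateMapₗ (l := l) (T := SGA7.pt Ω) f).comp (galT A l τ) =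
      (galT B l τ).comp (tateMapₗ (l := l) (T := SGA7.pt Ω) f) :=
  LinearMap.ext fun z => TateMod.ext fun n => congrArg Additive.ofMul (Category.assoc _ _ _)

theorem homSpan_comm {ψ : (ℚ_[l] ⊗[ℤ_[l]] TateMod A l (SGA7.pt Ω)) →ₗ[ℚ_[l]] (ℚ_[l] ⊗[ℤ_[l]] TateMod B l (SGA7.pt Ω))}
    (hψ : ψ ∈ homSpan l Ω A B) (τ : Ω ≃ₐ[k] Ω) : ψ ∘ₗ galV A l τ = galV B l τ ∘ₗ ψ := by
  induction hψ using Submodule.span_induction with
  | mem x hx =>
    obtain ⟨f, hf, rfl⟩ := hx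
    rw [galV, galV, ← LinearMap.baseChange_comp, ← LinearMap.baseChange_comp, galT_comm]
  | zero => rw [LinearMap.zero_comp, LinearMap.comp_zero]
  | add x y _ _ hx hy => rw [LinearMap.add_comp, LinearMap.comp_add, hx, hy]
  | smul c x _ hx => rw [LinearMap.smul_comp, LinearMap.comp_smul, hx]

theorem tateMapₗ_comp (f : A ⟶ B) [IsMonHom f] (g : B ⟶ C) [IsMonHom g] :
    (tateMapₗ (l := l) (T := SGA7.pt Ω) g).comp (tateMapₗ (l := l) (T := SGA7.pt Ω) f) =
      tateMapₗ (l := l) (T := SGA7.pt Ω) (f ≫ g) :=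
  LinearMap.ext fun z => TateMod.ext fun n => congrArg Additive.ofMul (Category.assoc _ f g)

theorem comp_mem_homSpan
    {ψ : (ℚ_[l] ⊗[ℤ_[l]] TateMod A l (SGA7.pt Ω)) →ₗ[ℚ_[l]] (ℚ_[l] ⊗[ℤ_[l]] TateMod B l (SGA7.pt Ω))}
    {χ : (ℚ_[l] ⊗[ℤ_[l]] TateMod B l (SGA7.pt Ω)) →ₗ[ℚ_[l]] (ℚ_[l] ⊗[ℤ_[l]] TateMod C l (SGA7.pt Ω))}
    (hψ : ψ ∈ homSpan l Ω A B) (hχ : χ ∈ homSpan l Ω B C) : χ ∘ₗ ψ ∈ homSpan l Ω A C := by
  induction hχ using Submodule.span_induction with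
  | mem y hy =>
    obtain ⟨g, hg, rfl⟩ := hy
    induction hψ using Submodule.span_induction with
    | mem x hx =>
      obtain ⟨f, hf, rfl⟩ := hx
      exact Submodule.subset_span ⟨f ≫ g, inferInstance, by rw [← LinearMap.baseChange_comp, tateMapₗ_comp]⟩
    | zero => rw [LinearMap.comp_zero]; exact zero_mem _
    | add x x' _ _ h h' => rw [LinearMap.comp_add]; exact add_mem h h'
    | smul c x _ h => rw [LinearMap.comp_smul]; exact Submodule.smul_mem _ _ h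
  | zero => rw [LinearMap.zero_comp]; exact zero_mem _
  | add x x' _ _ h h' => rw [LinearMap.add_comp]; exact add_mem h h'
  | smul c x _ h => rw [LinearMap.smul_comp]; exact Submodule.smul_mem _ _ h

theorem mem_homSpan (f : A ⟶ B) [IsMonHom f] :
    (tateMapₗ (l := l) (T := SGA7.pt Ω) f).baseChange ℚ_[l] ∈ homSpan l Ω A B :=
  Submodule.subset_span ⟨f, inferInstance, rfl⟩

/-- The combinations of endomorphisms form an algebra. -/
def endAlg (l : ℕ) [Fact l.Prime] (Ω : Type u) [Field Ω] [Algebra k Ω] (A : Over (Spec (CommRingCat.of k)))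
    [GrpObj A] [IsCommMonObj A] :
    Subalgebra ℚ_[l] (Module.End ℚ_[l] (ℚ_[l] ⊗[ℤ_[l]] TateMod A l (SGA7.pt Ω))) :=
  (homSpan l Ω A A).toSubalgebra
    (Submodule.subset_span ⟨𝟙 A, inferInstance, by
      rw [show tateMapₗ (l := l) (T := SGA7.pt Ω) (𝟙 A) = LinearMap.id from
        LinearMap.ext fun z => TateMod.ext fun n => congrArg Additive.ofMul (Category.comp_id _),
        LinearMap.baseChange_id]
      rfl⟩)
    fun a b ha hb => comp_mem_homSpan hb ha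

theorem mem_endAlg {x : Module.End ℚ_[l] (ℚ_[l] ⊗[ℤ_[l]] TateMod A l (SGA7.pt Ω))} :
    x ∈ endAlg l Ω A ↔ x ∈ homSpan l Ω A A := Iff.rfl

variable [IsProper A.hom] [GeometricallyIntegral A.hom]

theorem isSemisimpleRing_endAlg : IsSemisimpleRing (endAlg l Ω A) := by
  haveI := Poincare.isSemisimpleRing_end0 (A := A)
  haveI : Module.Finite ℤ (EndAV.End A) := HomFG.finite_hom (A := A) (B := A)
  let R := Module.End ℚ_[l] (ℚ_[l] ⊗[ℤ_[l]] TateMod A l (SGA7.pt Ω))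
  letI : Algebra ℚ R := Algebra.compHom R (algebraMap ℚ ℚ_[l])
  let g : EndAV.End A →+* R :=
    (Module.End.baseChangeHom ℤ_[l] ℚ_[l] (TateMod A l (SGA7.pt Ω))).toRingHom.comp
      (EndAV.End.tateRep l (SGA7.pt Ω))
  let F : EndAV.End0 A →ₐ[ℤ] R :=
    Algebra.TensorProduct.lift ((algebraMap ℚ R).toIntAlgHom)
      ({ g with commutes' := fun n => by simp } : EndAV.End A →ₐ[ℤ] R) fun q a => Algebra.commutes q _
  have hE : endAlg l Ω A = Algebra.adjoin ℚ_[l] (Set.range F.toRingHom) := by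
    refine le_antisymm ?_ (Algebra.adjoin_le ?_)
    · intro x hx
      rw [mem_endAlg] at hx
      induction hx using Submodule.span_induction with
      | mem y hy =>
        obtain ⟨f, hf, rfl⟩ := hy
        refine Algebra.subset_adjoin ⟨(1 : ℚ) ⊗ₜ[ℤ] EndAV.End.of f, ?_⟩
        show F ((1 : ℚ) ⊗ₜ[ℤ] EndAV.End.of f) = _
        rw [Algebra.TensorProduct.lift_tmul, map_one, _root_.one_mul]
        rfl
      | zero => exact zero_mem _
      | add a b _ _ ha hb => exact add_mem ha hb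
      | smul c a _ ha => exact Subalgebra.smul_mem _ ha c
    · rintro _ ⟨x, rfl⟩
      induction x using TensorProduct.induction_on with
      | zero => rw [map_zero]; exact zero_mem _
      | tmul q a =>
        show F (q ⊗ₜ[ℤ] a) ∈ endAlg l Ω A
        rw [Algebra.TensorProduct.lift_tmul]
        exact mul_mem (Subalgebra.algebraMap_mem _ _) (Submodule.subset_span ⟨a.toHom, inferInstance, rfl⟩)
      | add a b ha hb => rw [map_add]; exact add_mem ha hb
  rw [hE]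
  exact isSemisimpleRing_adjoin_range F.toRingHom

/-- Every stable subspace is the image of a combination of endomorphisms. -/
def TateProp (l : ℕ) [Fact l.Prime] (Ω : Type u) [Field Ω] [Algebra k Ω] (A : Over (Spec (CommRingCat.of k)))
    [GrpObj A] [IsCommMonObj A] : Prop :=
  ∀ W : Submodule ℚ_[l] (ℚ_[l] ⊗[ℤ_[l]] TateMod A l (SGA7.pt Ω)),
    (∀ τ : Ω ≃ₐ[k] Ω, W.map (galV A l τ) ≤ W) → ∃ u ∈ homSpan l Ω A A, LinearMap.range u = W

variable [IsAlgClosure k Ω] (hlk : (l : k) ≠ 0)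
include hlk

/-- **Semisimplicity of the Galois action.** -/
theorem exists_galois_compl (hA : TateProp l Ω A) (W : Submodule ℚ_[l] (ℚ_[l] ⊗[ℤ_[l]] TateMod A l (SGA7.pt Ω)))
    (hW : ∀ τ : Ω ≃ₐ[k] Ω, W.map (galV A l τ) ≤ W) :
    ∃ W' : Submodule ℚ_[l] (ℚ_[l] ⊗[ℤ_[l]] TateMod A l (SGA7.pt Ω)),
      IsCompl W W' ∧ ∀ τ : Ω ≃ₐ[k] Ω, W'.map (galV A l τ) ≤ W' := by
  haveI : IsAlgClosed Ω := IsAlgClosure.isAlgClosed k
  haveI := AbTors.module_finite A (Spec.map (CommRingCat.ofHom (algebraMap k Ω))) l hlk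
  haveI := isSemisimpleRing_endAlg (A := A) (l := l) (Ω := Ω)
  obtain ⟨u, hu, rfl⟩ := hA W hW
  obtain ⟨W', h1, h2⟩ := exists_compl (endAlg l Ω A) u hu
  exact ⟨W', h1, fun τ => h2 _ fun e he => (homSpan_comm he τ).symm⟩

omit [IsProper A.hom] [GeometricallyIntegral A.hom] hlk [IsAlgClosure k Ω] in
/-- The rational Tate map of a product of homomorphisms is the sum. -/
theorem baseChange_tateMap_mul (f g : A ⟶ B) [IsMonHom f] [IsMonHom g] [IsMonHom (f * g)] :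
    (tateMapₗ (l := l) (T := SGA7.pt Ω) (f * g)).baseChange ℚ_[l] =
      (tateMapₗ (l := l) f).baseChange ℚ_[l] + (tateMapₗ (l := l) g).baseChange ℚ_[l] := by
  rw [← LinearMap.baseChange_add]
  congr 1
  exact LinearMap.ext fun z => TateMod.ext fun n => congrArg Additive.ofMul (MonObj.comp_mul _ _ _)

/-- **The graph argument.** -/
theorem mem_homSpan_of_equivariant (hAA : TateProp l Ω (A ⊗ A))
    (hA : TateProp l Ω A) (φ : Module.End ℚ_[l] (ℚ_[l] ⊗[ℤ_[l]] TateMod A l (SGA7.pt Ω)))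
    (hφ : ∀ τ : Ω ≃ₐ[k] Ω, φ ∘ₗ galV A l τ = galV A l τ ∘ₗ φ) : φ ∈ homSpan l Ω A A := by
  haveI : IsAlgClosed Ω := IsAlgClosure.isAlgClosed k
  haveI := AbTors.module_finite A (Spec.map (CommRingCat.ofHom (algebraMap k Ω))) l hlk
  haveI := isSemisimpleRing_endAlg (A := A) (l := l) (Ω := Ω)
  haveI : IsMonHom (1 : A ⟶ A) := inferInstanceAs (IsMonHom (0 : EndAV.Hom A A).toHom)
  haveI : IsMonHom (lift (𝟙 A) (1 : A ⟶ A)) := inferInstance
  haveI : IsMonHom (lift (1 : A ⟶ A) (𝟙 A)) := inferInstance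
  let I1 := (tateMapₗ (l := l) (T := SGA7.pt Ω) (lift (𝟙 A) (1 : A ⟶ A))).baseChange ℚ_[l]
  let I2 := (tateMapₗ (l := l) (T := SGA7.pt Ω) (lift (1 : A ⟶ A) (𝟙 A))).baseChange ℚ_[l]
  let P1 := (tateMapₗ (l := l) (T := SGA7.pt Ω) (fst A A)).baseChange ℚ_[l]
  let P2 := (tateMapₗ (l := l) (T := SGA7.pt Ω) (snd A A)).baseChange ℚ_[l]
  have hI : ∀ τ, I1 ∘ₗ galV A l τ = galV (A ⊗ A) l τ ∘ₗ I1 := fun τ => homSpan_comm (mem_homSpan _) τ
  have hI2 : ∀ τ, I2 ∘ₗ galV A l τ = galV (A ⊗ A) l τ ∘ₗ I2 := fun τ => homSpan_comm (mem_homSpan _) τ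
  obtain ⟨u, hu, hur⟩ := hAA (LinearMap.range (I1 + I2 ∘ₗ φ)) fun τ => by
    rintro _ ⟨_, ⟨x, rfl⟩, rfl⟩
    refine ⟨galV A l τ x, ?_⟩
    show (I1 ∘ₗ galV A l τ) x + I2 ((φ ∘ₗ galV A l τ) x) = galV (A ⊗ A) l τ (I1 x + I2 (φ x))
    rw [hI, hφ, map_add]
    show galV (A ⊗ A) l τ (I1 x) + (I2 ∘ₗ galV A l τ) (φ x) = _
    rw [hI2]
    rfl
  have htot : ∀ y, I1 (P1 y) + I2 (P2 y) = y := fun y => by
    have e : (fst A A ≫ lift (𝟙 A) (1 : A ⟶ A)) * (snd A A ≫ lift (1 : A ⟶ A) (𝟙 A)) = 𝟙 (A ⊗ A) := by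
      ext <;> simp [MonObj.mul_comp, MonObj.comp_one]
    have h1 : I1 ∘ₗ P1 + I2 ∘ₗ P2 = LinearMap.id := by
      rw [← LinearMap.baseChange_comp, ← LinearMap.baseChange_comp, tateMapₗ_comp, tateMapₗ_comp]
      haveI : IsMonHom ((fst A A ≫ lift (𝟙 A) (1 : A ⟶ A)) * (snd A A ≫ lift (1 : A ⟶ A) (𝟙 A))) := by
        rw [e]; infer_instance
      rw [← baseChange_tateMap_mul, ← LinearMap.baseChange_id]
      congr 1
      exact LinearMap.ext fun z => TateMod.ext fun n =>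
        congrArg Additive.ofMul (by rw [e]; exact Category.comp_id _)
    exact LinearMap.congr_fun h1 y
  have hP : ∀ w, P1 (I1 w + I2 (φ w)) = w ∧ P2 (I1 w + I2 (φ w)) = φ w := fun w => by
    have h0 : ∀ (f : A ⟶ A ⊗ A) [IsMonHom f] (p : A ⊗ A ⟶ A) [IsMonHom p] (g : A ⟶ A) [IsMonHom g] (x),
        f ≫ p = g → (tateMapₗ (l := l) (T := SGA7.pt Ω) p).baseChange ℚ_[l]
          ((tateMapₗ (l := l) f).baseChange ℚ_[l] x) = (tateMapₗ (l := l) g).baseChange ℚ_[l] x := by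
      intro f _ p _ g _ x e
      subst e
      rw [← LinearMap.comp_apply, ← LinearMap.baseChange_comp, tateMapₗ_comp]
    have hid : ∀ x, (tateMapₗ (l := l) (T := SGA7.pt Ω) (𝟙 A)).baseChange ℚ_[l] x = x := fun x => by
      rw [show tateMapₗ (l := l) (T := SGA7.pt Ω) (𝟙 A) = LinearMap.id from
        LinearMap.ext fun z => TateMod.ext fun n => congrArg Additive.ofMul (Category.comp_id _),
        LinearMap.baseChange_id]
      rfl
    have hone : ∀ x, (tateMapₗ (l := l) (T := SGA7.pt Ω) (1 : A ⟶ A)).baseChange ℚ_[l] x = 0 := fun x => by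
      rw [show tateMapₗ (l := l) (T := SGA7.pt Ω) (1 : A ⟶ A) = 0 from
        LinearMap.ext fun z => TateMod.ext fun n => congrArg Additive.ofMul (MonObj.comp_one _),
        LinearMap.baseChange_zero]
      rfl
    refine ⟨?_, ?_⟩
    · rw [map_add, h0 _ _ _ _ (lift_fst _ _), h0 _ _ _ _ (lift_fst _ _), hid, hone, add_zero]
    · rw [map_add, h0 _ _ _ _ (lift_snd _ _), h0 _ _ _ _ (lift_snd _ _), hid, hone, zero_add]
  have hgraph : ∀ y, P2 (u y) = φ (P1 (u y)) := fun y => by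
    obtain ⟨w, hw⟩ := hur.le ⟨y, rfl⟩
    rw [← hw]
    show P2 (I1 w + I2 (φ w)) = φ (P1 (I1 w + I2 (φ w)))
    rw [(hP w).1, (hP w).2]
  refine mem_of_commute_centralizer (endAlg l Ω A) φ fun d hd => LinearMap.ext fun x => ?_
  obtain ⟨y, hy⟩ := hur.ge ⟨x, rfl⟩
  have hx : P1 (u y) = x := by rw [hy]; exact (hP x).1
  have key : ∀ (I : _ →ₗ[ℚ_[l]] _), I ∈ homSpan l Ω A (A ⊗ A) → ∀ v,
      d (φ (P1 (u (I v)))) = φ (d (P1 (u (I v)))) := fun I hI v => by
    have h1 := hd _ (comp_mem_homSpan hI (comp_mem_homSpan hu (mem_homSpan (fst A A))))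
    have h2 := hd _ (comp_mem_homSpan hI (comp_mem_homSpan hu (mem_homSpan (snd A A))))
    rw [← hgraph]
    exact ((LinearMap.congr_fun h2 v).trans (hgraph _)).trans (congrArg φ (LinearMap.congr_fun h1 v)).symm
  show φ (d x) = d (φ x)
  rw [← hx, ← htot y, map_add, map_add, map_add, map_add, map_add, map_add,
    key I1 (mem_homSpan _), key I2 (mem_homSpan _)]

end GrothLib.TateThm
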