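import Groth.Agent.Lib.TateThm.Zarhin
import Groth.Agent.Lib.TateThm.Semisimple
import Groth.Agent.Lib.Cube.AffineComplement

/-!
# Tate's theorem from finiteness
-/

set_option autoImplicit false
set_option linter.all false
set_option backward.isDefEq.respectTransparency false
set_option maxHeartbeats 1000000

universe u

open CategoryTheory CategoryTheory.Limits AlgebraicGeometry
open MonoidalCategory CartesianMonoidalCategory MonObj GrpObj
open GrothLib.Cube AbDual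
open scoped TensorProduct

noncomputable section

namespace GrothLib.TateThm

/-- Finiteness of abelian varieties of given dimension with an ample class of bounded Euler characteristic. -/
def FinitenessProp (k : Type u) [Field k] : Prop :=
  ∀ (d N : ℕ) (Z : ℕ → Over (Spec (CommRingCat.of k))),
    (∀ n, ∃ (_ : GrpObj (Z n)), IsProper (Z n).hom ∧ GeometricallyIntegral (Z n).hom ∧
      topologicalKrullDim (Z n).left = (d : WithBot ℕ∞) ∧
      ∃ M : Pic (Z n).left, AmpleCls M ∧ (MumfordEuler.E (Z n) M).natAbs ≤ N) →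
    ∃ (n₀ : ℕ) (S : Set ℕ), S.Infinite ∧ ∀ n ∈ S, Nonempty (Z n₀ ≅ Z n)

variable {k Ω : Type u} [Field k] [Field Ω] [Algebra k Ω] {l : ℕ} [hl : Fact l.Prime]
variable {A B X : Over (Spec (CommRingCat.of k))} [GrpObj A] [IsCommMonObj A] [GrpObj B] [IsCommMonObj B]
  [GrpObj X] [IsCommMonObj X]

/-- The image of a combination of homomorphisms out of `P` is that of an endomorphism. -/
def RangeEnd (l : ℕ) [Fact l.Prime] (Ω : Type u) [Field Ω] [Algebra k Ω]
    (P X : Over (Spec (CommRingCat.of k))) [GrpObj P] [IsCommMonObj P] [GrpObj X] [IsCommMonObj X] : Prop :=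
  ∀ u ∈ homSpan l Ω P X, ∃ w ∈ homSpan l Ω X X, LinearMap.range w = LinearMap.range u

theorem isMonHom_one (A B : Over (Spec (CommRingCat.of k))) [GrpObj A] [IsCommMonObj A] [GrpObj B] [IsCommMonObj B] :
    IsMonHom (1 : A ⟶ B) :=
  inferInstanceAs (IsMonHom (0 : EndAV.Hom A B).toHom)

theorem rangeEnd_tensor [IsAlgClosure k Ω] [IsProper X.hom] [GeometricallyIntegral X.hom] (hlk : (l : k) ≠ 0)
    (hA : RangeEnd l Ω A X) (hB : RangeEnd l Ω B X) : RangeEnd l Ω (A ⊗ B) X := by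
  haveI : IsAlgClosed Ω := IsAlgClosure.isAlgClosed k
  haveI := AbTors.module_finite X (Spec.map (CommRingCat.ofHom (algebraMap k Ω))) l hlk
  haveI := isSemisimpleRing_endAlg (A := X) (l := l) (Ω := Ω)
  haveI := isMonHom_one A B
  haveI := isMonHom_one B A
  haveI : IsMonHom (lift (𝟙 A) (1 : A ⟶ B)) := inferInstance
  haveI : IsMonHom (lift (1 : B ⟶ A) (𝟙 B)) := inferInstance
  intro u hu
  let I1 := (tateMapₗ (l := l) (T := SGA7.pt Ω) (lift (𝟙 A) (1 : A ⟶ B))).baseChange ℚ_[l]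
  let I2 := (tateMapₗ (l := l) (T := SGA7.pt Ω) (lift (1 : B ⟶ A) (𝟙 B))).baseChange ℚ_[l]
  let P1 := (tateMapₗ (l := l) (T := SGA7.pt Ω) (fst A B)).baseChange ℚ_[l]
  let P2 := (tateMapₗ (l := l) (T := SGA7.pt Ω) (snd A B)).baseChange ℚ_[l]
  obtain ⟨w1, hw1, r1⟩ := hA _ (comp_mem_homSpan (mem_homSpan (lift (𝟙 A) (1 : A ⟶ B))) hu)
  obtain ⟨w2, hw2, r2⟩ := hB _ (comp_mem_homSpan (mem_homSpan (lift (1 : B ⟶ A) (𝟙 B))) hu)
  obtain ⟨w, hw, hwr⟩ := exists_range_eq_sup (endAlg l Ω X) w1 w2 hw1 hw2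
  refine ⟨w, hw, hwr.trans ?_⟩
  rw [r1, r2]
  refine le_antisymm (sup_le (LinearMap.range_comp_le_range _ _) (LinearMap.range_comp_le_range _ _)) ?_
  have e : (fst A B ≫ lift (𝟙 A) (1 : A ⟶ B)) * (snd A B ≫ lift (1 : B ⟶ A) (𝟙 B)) = 𝟙 (A ⊗ B) := by
    ext <;> simp [MonObj.mul_comp, MonObj.comp_one]
  have h1 : I1 ∘ₗ P1 + I2 ∘ₗ P2 = LinearMap.id := by
    rw [← LinearMap.baseChange_comp, ← LinearMap.baseChange_comp, tateMapₗ_comp, tateMapₗ_comp]
    haveI : IsMonHom ((fst A B ≫ lift (𝟙 A) (1 : A ⟶ B)) * (snd A B ≫ lift (1 : B ⟶ A) (𝟙 B))) := by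
      rw [e]; infer_instance
    rw [← baseChange_tateMap_mul, ← LinearMap.baseChange_id]
    congr 1
    exact LinearMap.ext fun z => TateMod.ext fun n =>
      congrArg Additive.ofMul (by rw [e]; exact Category.comp_id _)
  rintro _ ⟨y, rfl⟩
  rw [show y = I1 (P1 y) + I2 (P2 y) from (LinearMap.congr_fun h1 y).symm, map_add]
  exact Submodule.add_mem_sup ⟨_, rfl⟩ ⟨_, rfl⟩

variable [IsAlgClosure k Ω] [IsProper X.hom] [GeometricallyIntegral X.hom]

/-- **Every Galois stable subspace is the image of an endomorphism, granting finiteness.** -/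
theorem tateProp_of_finiteness (H : FinitenessProp k) (hlk : (l : k) ≠ 0) : TateProp l Ω X := by
  classical
  haveI : IsAlgClosed Ω := IsAlgClosure.isAlgClosed k
  intro W hW
  obtain ⟨g, hg⟩ := AbTors.exists_dim X
  obtain ⟨L, hL, ⟨esym⟩⟩ := Cube.exists_symmetric_isAmple X
  have hLc := hasCls_clsMod hL.1
  have hz : AmpleCls (clsMod hL.1) := ⟨L, hLc, hL⟩
  have hsym : pull ((𝟙 X)⁻¹ : X ⟶ X).left (clsMod hL.1) = clsMod hL.1 :=
    (hLc.eq (hLc.pullback _) ⟨esym⟩).symm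
  have hm : ∀ n, ((l ^ n : ℕ) : k) ≠ 0 := fun n => by rw [Nat.cast_pow]; exact pow_ne_zero _ hlk
  choose Z iZg iZc r hr r' hr' Y iYg iYc q hq v hv p hp e he hZp hZg hZd hrr hYp hYg hqv hvq hker hep M hM hME using
    fun n => exists_zarhin hg hsym hz (hm n) (layer l W n) (fun a ha => pow_eq_one_of_mem_layer ha)
      (fun τ a ha => galAct_mem_layer (galT X l) (component_galT) hW τ ha)
  haveI := isProper_P4 X
  haveI := geometricallyIntegral_P4 X
  haveI := isProper_tensor (P4 X) (P4 X)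
  haveI := Poincare.geometricallyIntegral_tensor (P4 X) (P4 X)
  have hfin := H (8 * g) (MumfordEuler.E (P4 X ⊗ P4 X) (cls8 (clsMod hL.1))).natAbs Z
    fun n => ⟨iZg n, hZp n, hZg n, hZd n, M n, hM n, hME n⟩
  let σ := Spec.map (CommRingCat.ofHom (algebraMap k Ω))
  obtain ⟨u, hu, hur⟩ := exists_mem_homSpan_range_eq (P := P4 X ⊗ P4 X) (l := l) hlk W Z r (fun n => p n ≫ v n)
    (fun n => ⟨n, fun z => ⟨tateMapₗ (l := l) (r' n) z, by
      haveI : IsMonHom ((𝟙 (Z n) : Z n ⟶ Z n) ^ (l ^ n)) := GrpDeligne.isMonHom_pow (𝟙 (Z n)) _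
      have e1 := DegPoly.tateMap_comp σ l (r' n) (r n) _ (hrr n)
      rw [DegPoly.tateMap_pow σ l] at e1
      refine (DFunLike.congr_fun e1 z).trans ?_
      rw [LinearMap.smul_apply, LinearMap.id_apply, Nat.cast_pow]⟩⟩)
    (fun n z => by
      rw [← range_tateMap_dual (q n) (v n) (hqv n) (hvq n) (hker n) z]
      constructor
      · rintro ⟨y, rfl⟩
        exact ⟨tateMapₗ (l := l) (p n) y, LinearMap.congr_fun (tateMapₗ_comp (p n) (v n)) y⟩
      · rintro ⟨y, rfl⟩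
        refine ⟨tateMapₗ (l := l) (e n) y, ?_⟩
        refine TateMod.ext fun i => congrArg Additive.ofMul ?_
        show (_ ≫ e n) ≫ p n ≫ v n = _ ≫ v n
        rw [Category.assoc, reassoc_of% hep n])
    hfin
  have hX : RangeEnd l Ω X X := fun w hw => ⟨w, hw, rfl⟩
  have h2 := rangeEnd_tensor hlk hX hX
  have h4 : RangeEnd l Ω (P4 X) X := rangeEnd_tensor (A := X ⊗ X) (B := X ⊗ X) hlk h2 h2
  have h8 : RangeEnd l Ω (P4 X ⊗ P4 X) X := rangeEnd_tensor (A := P4 X) (B := P4 X) hlk h4 h4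
  obtain ⟨w, hw, hwr⟩ := h8 u hu
  exact ⟨w, hw, hwr.trans hur⟩

end GrothLib.TateThm
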