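import Groth.Agent.Lib.TateThm.Hilbert
import Groth.Agent.Lib.TateThm.TatePropOf
import Groth.Agent.Lib.Poincare.IndexBC
import Groth.Agent.Lib.Cube.AmpleCrit
import Groth.Agent.Lib.Cube.FieldSections
import Groth.Agent.Lib.RedSub.Basic

/-!
# Finiteness of abelian varieties with a bounded ample class over a finite field
-/

set_option autoImplicit false
set_option linter.all false
set_option backward.isDefEq.respectTransparency false
set_option maxHeartbeats 1000000

universe u

open CategoryTheory CategoryTheory.Limits AlgebraicGeometry TopologicalSpace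
open GrothLib.Ample (Cocycle)
open GrothLib.Cube (Pic HasCls HasSec cls pull)
open GrothLib.Index (geomFib geomProj Conc)

noncomputable section

namespace GrothLib.TateThm

variable {k : Type u} [Field k] {A : Over (Spec (CommRingCat.of k))} [GrpObj A] [IsProper A.hom]
  [GeometricallyIntegral A.hom]

instance isAffineHom_geomProj : IsAffineHom (geomProj A) :=
  MorphismProperty.pullback_fst _ _ (inferInstanceAs (IsAffineHom (Spec.map _)))

instance surjective_geomProj : Surjective (geomProj A) :=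
  inferInstanceAs (Surjective (pullback.fst A.hom _))

omit [GrpObj A] [IsProper A.hom] [GeometricallyIntegral A.hom] in
theorem AmpleCls.pow {z : Pic A.left} (hz : AmpleCls z) {n : ℕ} (hn : 0 < n) : AmpleCls (z ^ n) := by
  obtain ⟨L, hL, hLa⟩ := hz
  exact ⟨_, hL.tensorPow n, (Ample.isAmple_tensorPow_iff hL.choose hn).1 hLa⟩

/-- Ample classes are concentrated in degree zero over any field. -/
theorem conc_zero {g : ℕ} (hg : topologicalKrullDim A.left = (g : WithBot ℕ∞)) {z : Pic A.left} (hz : AmpleCls z) :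
    Conc z 0 := by
  obtain ⟨L, hL, hLa⟩ := hz
  exact (Index.conc_geom A z 0).1 (Index.conc_zero_of_isAmple (Index.dim_geom A hg) (hL.pullback (geomProj A))
    (Ample.isAmple_pullback_of_isAffineHom (geomProj A) hLa))

theorem finrank_HH_zero {g : ℕ} (hg : topologicalKrullDim A.left = (g : WithBot ℕ∞)) {z : Pic A.left} (hz : AmpleCls z)
    {L : A.left.Modules} (hL : HasCls L z) :
    (∀ j, 1 ≤ j → Subsingleton (Coh.HH A.left L j)) ∧
      letI : A.left.Over (Spec (CommRingCat.of k)) := ⟨A.hom⟩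
      ((Module.finrank k (Coh.HH A.left L 0) : ℤ) = MumfordEuler.E A z ∧ MumfordEuler.E A z ≠ 0) := by
  letI : A.left.Over (Spec (CommRingCat.of k)) := ⟨A.hom⟩
  haveI : IsProper (A.left ↘ Spec (CommRingCat.of k)) := ‹IsProper A.hom›
  have hc := conc_zero hg hz
  have hv : ∀ j, 1 ≤ j → Subsingleton (Coh.HH A.left L j) := fun j hj => (hc.subsingleton_iff hL j).2 (by omega)
  have he : Curv2.euler k A.left L = (Module.finrank k (Coh.HH A.left L 0) : ℤ) := by
    refine (finsum_eq_single _ 0 fun j hj => ?_).trans (by rw [pow_zero, one_mul])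
    haveI := hv j (Nat.pos_of_ne_zero hj)
    rw [Module.finrank_zero_of_subsingleton, Nat.cast_zero, mul_zero]
  refine ⟨hv, he.symm.trans (MumfordEuler.E_eq hL), ?_⟩
  rw [← MumfordEuler.E_eq (Index.hasCls_rep z)]
  exact (hc.euler k).2

theorem E_pow {g : ℕ} (hg : topologicalKrullDim A.left = (g : WithBot ℕ∞)) (z : Pic A.left) (n : ℕ) :
    MumfordEuler.E A (z ^ n) = (n : ℤ) ^ g * MumfordEuler.E A z := by
  rw [← MumfordEuler.E_eq ((Index.hasCls_rep z).tensorPow n), EulerPull.euler_tensorPow A hg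
    (Index.hasCls_rep z).choose, MumfordEuler.E_eq (Index.hasCls_rep z)]

/-- The third power of an ample class is generated by its sections. -/
theorem exists_generating_sections {g : ℕ} (hg : topologicalKrullDim A.left = (g : WithBot ℕ∞)) {z : Pic A.left}
    (hz : AmpleCls z) (c : Cocycle A.left) (hc : cls c = z ^ 3) (p : A.left) : ∃ a : c.sect 1 ⊤, p ∈ c.locus a := by
  letI : A.left.Over (Spec (CommRingCat.of k)) := ⟨A.hom⟩
  haveI : IsProper (A.left ↘ Spec (CommRingCat.of k)) := ‹IsProper A.hom›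
  haveI := Euler.isNoetherian_of_proper (X := A.left) k
  haveI : IsIntegral (geomFib A).left := GeometricallyIntegral.isIntegral_of_subsingleton (geomFib A).hom
  obtain ⟨q, hq⟩ := (geomProj A).surjective p
  have hz' := hz.pull (geomProj A)
  have hconc := conc_zero (Index.dim_geom A hg) hz'
  obtain ⟨c₁, hc₁⟩ := Quotient.exists_rep (pull (geomProj A) z)
  have hcls : HasCls (c₁.twist 1) (pull (geomProj A) z) :=
    ⟨c₁.isInvertible_twist 1, (Cube.clsMod_eq _ (Iso.refl _)).trans hc₁⟩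
  obtain ⟨w, hw⟩ : ∃ w : Coh.HH (geomFib A).left (c₁.twist 1) 0, w ≠ 0 := by
    by_contra h
    push Not at h
    exact ((hconc.subsingleton_iff hcls 0).1 ⟨fun a b => (h a).trans (h b).symm⟩) rfl
  let a₁ : c₁.sect 1 ⊤ := ProjCoh.H0top (c₁.twist 1) w
  have hne : (c₁.locus a₁ : Set (geomFib A).left).Nonempty := by
    refine (Opens.ne_bot_iff_nonempty _).1 fun h => hw ((ProjCoh.H0top (c₁.twist 1)).injective ?_)
    exact (eq_zero_of_locus_eq_bot c₁ a₁ h).trans (map_zero (ProjCoh.H0top (c₁.twist 1))).symm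
  obtain ⟨a, b, d, habd, hq'⟩ := Cube.exists_mem_triLocus (A := geomFib A) hne q
  have hs := Cube.hasSec_triLocus (A := geomFib A) (⟨c₁, a₁, hc₁, rfl⟩ : HasSec (pull (geomProj A) z) _) habd
  rw [← map_pow, ← hc, Cube.pull_cls] at hs
  obtain ⟨σ, hσ⟩ := Cube.exists_sect_of_hasSec hs
  obtain ⟨t, ht⟩ := Cube.exists_sect_of_mem_locus (Index.isPullback_geomProj A) c σ (hσ ▸ hq')
  exact ⟨t, hq ▸ ht⟩

/-- The invariant of an abelian variety with an ample class. -/
theorem exists_point {g : ℕ} (hg : topologicalKrullDim A.left = (g : WithBot ℕ∞)) {z : Pic A.left} (hz : AmpleCls z)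
    {χ : ℕ} (hχ : (MumfordEuler.E A z).natAbs = χ) :
    ∃ (m : ℕ) (x : CohB1.ProjSpace m k) (i : A.left ⟶ CohB1.ProjSpace m k),
      m + 1 = (3 * ((3 * 1) ^ g * χ)) ^ g * χ ∧ IsClosedImmersion i ∧
      i ≫ CohB1.ProjSpace.toSpec m k = A.hom ∧ Set.range i = closure {x} ∧
      ∀ a, 1 ≤ a → Module.finrank k ↥(MvPolynomial.homogeneousSubmodule (Fin (m + 1)) k a ⊓
            Submodule.restrictScalars k x.asHomogeneousIdeal.toIdeal :
          Submodule k (MvPolynomial (Fin (m + 1)) k)) + (3 * (((3 * 1) ^ g * χ) * a)) ^ g * χ =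
          Module.finrank k ↥(MvPolynomial.homogeneousSubmodule (Fin (m + 1)) k a) := by
  letI : A.left.Over (Spec (CommRingCat.of k)) := ⟨A.hom⟩
  haveI : IsProper (A.left ↘ Spec (CommRingCat.of k)) := ‹IsProper A.hom›
  haveI : IsIntegral A.left := GeometricallyIntegral.isIntegral_of_subsingleton A.hom
  obtain ⟨c, hc⟩ := Quotient.exists_rep (z ^ 3)
  have hcls1 : HasCls (c.twist 1) (z ^ 3) := ⟨c.isInvertible_twist 1, (Cube.clsMod_eq _ (Iso.refl _)).trans hc⟩
  have hcls : ∀ a, HasCls (c.twist a) (z ^ (3 * a)) := fun a => by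
    obtain ⟨e⟩ := c.nonempty_tensorPow_iso (Iso.refl _) a
    have h := hcls1.tensorPow a
    rw [← pow_mul] at h
    exact ⟨c.isInvertible_twist a, ((Cube.clsMod_eq_iff _ h.choose).2 ⟨e.symm⟩).trans h.choose_spec⟩
  have hamp : c.IsAmp := by
    obtain ⟨L, hL, hLa⟩ := hz.pow (show 0 < 3 by norm_num)
    obtain ⟨e⟩ := hL.iso hcls1 rfl
    exact ((c.isAmple_iff e).1 hLa).2
  have hvan : ∀ a, 1 ≤ a → ∀ j, 1 ≤ j → Subsingleton (Coh.HH A.left (c.twist a) j) := fun a ha j hj =>
    (finrank_HH_zero hg (hz.pow (show 0 < 3 * a by omega)) (hcls a)).1 j hj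
  have hh : ∀ a, 1 ≤ a → Module.finrank k (Coh.HH A.left (c.twist a) 0) = (3 * a) ^ g * χ := fun a ha => by
    have h1 := congrArg Int.natAbs (finrank_HH_zero hg (hz.pow (show 0 < 3 * a by omega)) (hcls a)).2.1
    rw [E_pow hg, Int.natAbs_natCast, Int.natAbs_mul, Int.natAbs_pow, Int.natAbs_natCast, hχ] at h1
    exact h1
  obtain ⟨m, x, i, h1, h2, h3, h4, h5⟩ := exists_embedding c k hamp hvan
    (exists_generating_sections hg hz c hc) (fun a => (3 * a) ^ g * χ) hh
  exact ⟨m, x, i, h1, h2, h3, h4, h5⟩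

/-- **Finiteness over a finite field.** -/
theorem finitenessProp [Finite k] : FinitenessProp k := by
  intro d N Z hZ
  choose iG hP hGI hdim M hM hN using hZ
  let fχ : ℕ → Fin (N + 1) := fun n => ⟨_, Nat.lt_succ_of_le (hN n)⟩
  obtain ⟨χ, hχ⟩ := Finite.exists_infinite_fiber fχ
  let T : Set ℕ := fχ ⁻¹' {χ}
  choose m x i hm hcl hi hrange hcodim using fun n : T =>
    exists_point (A := Z n.1) (hdim n.1) (hM n.1) (χ := χ.1) (congrArg Fin.val (show fχ n.1 = χ from n.2))
  obtain ⟨M₀, hM₀⟩ : ∃ M₀, ∀ n, m n = M₀ := ⟨_, fun n => by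
    have := hm n
    exact (Nat.sub_eq_of_eq_add this.symm).symm⟩
  have key : ∀ n : T, ∃ (x : CohB1.ProjSpace M₀ k) (i : (Z n.1).left ⟶ CohB1.ProjSpace M₀ k), IsClosedImmersion i ∧
      i ≫ CohB1.ProjSpace.toSpec M₀ k = (Z n.1).hom ∧ Set.range i = closure {x} ∧
      x ∈ {x : CohB1.ProjSpace M₀ k | ∀ a, 1 ≤ a →
        Module.finrank k ↥(MvPolynomial.homogeneousSubmodule (Fin (M₀ + 1)) k a ⊓
            Submodule.restrictScalars k x.asHomogeneousIdeal.toIdeal :
          Submodule k (MvPolynomial (Fin (M₀ + 1)) k)) + (3 * (((3 * 1) ^ d * χ.1) * a)) ^ d * χ.1 =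
          Module.finrank k ↥(MvPolynomial.homogeneousSubmodule (Fin (M₀ + 1)) k a)} := fun n => by
    obtain rfl := hM₀ n
    exact ⟨x n, i n, hcl n, hi n, hrange n, hcodim n⟩
  clear hm hcl hi hrange hcodim
  choose x' i' hcl hi hrange hx using key
  haveI := (finite_points k M₀ fun a => (3 * (((3 * 1) ^ d * χ.1) * a)) ^ d * χ.1).to_subtype
  let g : T → Subtype (· ∈ _) := fun n => ⟨x' n, hx n⟩
  haveI : Infinite T := hχ
  obtain ⟨p, hp⟩ := Finite.exists_infinite_fiber g
  haveI : Infinite ↥(g ⁻¹' {p}) := hp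
  obtain ⟨⟨n₀, hn₀⟩⟩ : Nonempty ↥(g ⁻¹' {p}) := inferInstance
  refine ⟨n₀.1, Subtype.val '' (g ⁻¹' {p}), (Set.infinite_coe_iff.1 hp).image Subtype.val_injective.injOn, ?_⟩
  rintro _ ⟨n, hn, rfl⟩
  haveI := hcl n₀
  haveI := hcl n
  haveI := hGI n₀.1
  haveI := hGI n.1
  haveI : IsIntegral (Z n₀.1).left := GeometricallyIntegral.isIntegral_of_subsingleton (Z n₀.1).hom
  haveI : IsIntegral (Z n.1).left := GeometricallyIntegral.isIntegral_of_subsingleton (Z n.1).hom
  have hxe : x' n₀ = x' n := congrArg Subtype.val (hn₀.trans hn.symm)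
  obtain ⟨e, he⟩ := RedSub.exists_iso_of_range_eq (i' n₀) (i' n) (by rw [hrange, hrange, hxe])
  exact ⟨Over.isoMk e (by rw [← hi n, ← Category.assoc, he, hi n₀])⟩

end GrothLib.TateThm
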