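import Groth.Agent.Lib.TateThm.Main
import Groth.Agent.Lib.Poincare.PointCount
import Groth.Agent.Lib.Poincare.Frob

/-!
# Commuting with Frobenius is commuting with Galois
-/

set_option autoImplicit false
set_option linter.all false
set_option backward.isDefEq.respectTransparency false
set_option maxHeartbeats 1000000

universe u

open CategoryTheory MonoidalCategory CartesianMonoidalCategory MonObj GrpObj AlgebraicGeometry AbDual
open scoped TensorProduct

noncomputable section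

namespace GrothLib.TateThm

variable {k Ω : Type u} [Field k] [Finite k] [Field Ω] [Algebra k Ω] [IsAlgClosure k Ω]

/-- An automorphism is a power of Frobenius on the elements fixed by a given power. -/
theorem exists_eq_pow_card (τ : Ω ≃ₐ[k] Ω) {m : ℕ} (hm : 1 ≤ m) :
    ∃ j : ℕ, ∀ a : Ω, a ^ (Nat.card k ^ m) = a → τ a = a ^ (Nat.card k ^ j) := by
  classical
  haveI : IsAlgClosed Ω := IsAlgClosure.isAlgClosed k
  obtain ⟨km, _, _, _, hkm⟩ := Zeta.exists_extension k m hm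
  haveI : Module.Finite k km := Module.Finite.of_finite
  letI := Fintype.ofFinite km
  letI := Fintype.ofFinite k
  let ψ : km →ₐ[k] Ω := IsAlgClosed.lift
  set Q := Nat.card k ^ m with hQ
  have hQc : Q = Nat.card km := by rw [hQ, ← hkm, ← Module.natCard_eq_pow_finrank]
  have hQ1 : 1 < Q := hQc ▸ Finite.one_lt_card
  have hfix : ∀ a : Ω, a ^ Q = a → a ∈ ψ.range := by
    intro a ha
    have hne : (Polynomial.X ^ Q - Polynomial.X : Polynomial Ω) ≠ 0 :=
      FiniteField.X_pow_card_sub_X_ne_zero Ω hQ1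
    set S := (Polynomial.X ^ Q - Polynomial.X : Polynomial Ω).roots.toFinset with hS
    have hmemS : ∀ b, b ∈ S ↔ b ^ Q = b := fun b => by
      simp [hS, Polynomial.mem_roots hne, sub_eq_zero]
    have hsub : Finset.univ.image ψ ⊆ S := fun b hb => by
      obtain ⟨c, -, rfl⟩ := Finset.mem_image.mp hb
      rw [hmemS, ← map_pow, hQc, Nat.card_eq_fintype_card, FiniteField.pow_card]
    have hcard : S.card ≤ (Finset.univ.image ψ).card := by
      rw [Finset.card_image_of_injective _ (show Function.Injective ψ from ψ.toRingHom.injective), Finset.card_univ,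
        ← Nat.card_eq_fintype_card, ← hQc]
      exact (Multiset.toFinset_card_le _).trans ((Polynomial.card_roots' _).trans
        (le_of_eq (FiniteField.X_pow_card_sub_X_natDegree_eq Ω hQ1)))
    obtain ⟨c, -, hc⟩ := Finset.mem_image.mp
      ((Finset.eq_of_subset_of_card_le hsub hcard).ge ((hmemS a).mpr ha))
    exact ⟨c, hc⟩
  have hmem : ∀ c, τ (ψ c) ∈ ψ.range := fun c => hfix _ (by
    rw [← map_pow, ← map_pow, hQc, Nat.card_eq_fintype_card, FiniteField.pow_card])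
  let σ : km →ₐ[k] km := (AlgEquiv.ofInjective ψ ψ.toRingHom.injective).symm.toAlgHom.comp
    ((τ.toAlgHom.comp ψ).codRestrict ψ.range hmem)
  have hσ : ∀ c, ψ (σ c) = τ (ψ c) := fun c =>
    congrArg Subtype.val ((AlgEquiv.ofInjective ψ ψ.toRingHom.injective).apply_symm_apply ⟨τ (ψ c), hmem c⟩)
  obtain ⟨j, hj⟩ := (FiniteField.bijective_frobeniusAlgHom_pow k km).2 σ
  refine ⟨j, fun a ha => ?_⟩
  obtain ⟨c, rfl⟩ := hfix a ha
  show τ (ψ c) = ψ c ^ _
  rw [← hσ, ← map_pow]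
  congr 1
  rw [← hj]
  have key : ∀ (n : ℕ) (c : km), (FiniteField.frobeniusAlgHom k km ^ n) c = c ^ (Nat.card k ^ n) := fun n c => by
    have := Zeta.fr_apply (k₀ := k) km n c
    simpa [Zeta.fr] using this
  exact key j c

variable {A B : Over (Spec (CommRingCat.of k))} [GrpObj A] [IsCommMonObj A] [IsProper A.hom]
  [GeometricallyIntegral A.hom] [GrpObj B] [IsCommMonObj B] [IsProper B.hom] [GeometricallyIntegral B.hom]
variable (πA : A ⟶ A) [IsMonHom πA] (hAle : ∀ U : A.left.Opens, U ≤ πA.left ⁻¹ᵁ U)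
  (hAapp : ∀ (U : A.left.Opens) (s : Γ(A.left, U)), (πA.left.appLE U U (hAle U)).hom s = s ^ Nat.card k)
variable (πB : B ⟶ B) [IsMonHom πB] (hBle : ∀ U : B.left.Opens, U ≤ πB.left ⁻¹ᵁ U)
  (hBapp : ∀ (U : B.left.Opens) (s : Γ(B.left, U)), (πB.left.appLE U U (hBle U)).hom s = s ^ Nat.card k)

/-- The `j`-th iterate of the Frobenius. -/
abbrev frobPow (j : ℕ) : A ⟶ A := (EndAV.End.of πA ^ j).toHom

include hAle hAapp in
theorem comp_frobPow (a : SGA7.pt Ω ⟶ A) (j : ℕ) :
    (a ≫ frobPow πA j).left = Spec.map (CommRingCat.ofHom (Zeta.fr k Ω j)) ≫ a.left := by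
  rw [Over.comp_left, Poincare.toHom_pow_left]
  exact Zeta.comp_iterFrobenius πA.left hAle hAapp a.left j

include hAle hAapp in
theorem frobPow_injective (j : ℕ) : Function.Injective fun a : SGA7.pt Ω ⟶ A => a ≫ frobPow πA j := by
  intro a b h
  have h1 := congrArg Over.Hom.left h
  dsimp only at h1
  rw [comp_frobPow πA hAle hAapp a j, comp_frobPow πA hAle hAapp b j] at h1
  haveI : IsAlgClosed Ω := IsAlgClosure.isAlgClosed k
  have hbij : Function.Bijective (Zeta.fr k Ω j) := ⟨(Zeta.fr k Ω j).injective, fun y => by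
    obtain ⟨z, hz⟩ := IsAlgClosed.exists_pow_nat_eq y (pow_pos (Nat.card_pos (α := k)) j)
    exact ⟨z, by rw [Zeta.fr_apply, hz]⟩⟩
  haveI : IsIso (CommRingCat.ofHom (Zeta.fr k Ω j)) :=
    (ConcreteCategory.isIso_iff_bijective (CommRingCat.ofHom (Zeta.fr k Ω j))).2 hbij
  exact Over.OverMorphism.ext ((cancel_epi _).1 h1)

include hAle hAapp in
/-- A finite stable set of points is fixed by a power of Frobenius. -/
theorem exists_frobPow_fix {n : ℕ} (hn : (n : k) ≠ 0) :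
    ∃ m, 1 ≤ m ∧ ∀ a : SGA7.pt Ω ⟶ A, a ^ n = 1 → ∀ i, a ≫ frobPow πA (m * i) = a := by
  haveI : IsAlgClosed Ω := IsAlgClosure.isAlgClosed k
  obtain ⟨g, hg⟩ := AbTors.exists_dim A
  let T := AbDual.torsPts A n (SGA7.pt Ω)
  haveI : Finite T := Nat.finite_of_card_ne_zero (by
    rw [AbTors.card_torsPts A hg hn (Spec.map (CommRingCat.ofHom (algebraMap k Ω)))]
    exact pow_ne_zero _ fun h => hn (by rw [h, Nat.cast_zero]))
  have hmaps : ∀ a : T, a.1 ≫ frobPow πA 1 ∈ T := fun a => by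
    show (a.1 ≫ frobPow πA 1) ^ n = 1
    rw [← MonObj.pow_comp, show a.1 ^ n = 1 from a.2, MonObj.one_comp]
  let F : T → T := fun a => ⟨a.1 ≫ frobPow πA 1, hmaps a⟩
  have hF : Function.Injective F := fun a b h =>
    Subtype.ext (frobPow_injective πA hAle hAapp 1 (congrArg Subtype.val h))
  let e : Equiv.Perm T := Equiv.ofBijective F (Finite.injective_iff_bijective.1 hF)
  have hval : ∀ (i : ℕ) (a : T), ((e ^ i) a).1 = a.1 ≫ frobPow πA i := fun i => by
    induction i with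
    | zero =>
      intro a
      show a.1 = _
      rw [frobPow, pow_zero]
      exact (Category.comp_id a.1).symm
    | succ i ih =>
      intro a
      rw [pow_succ', Equiv.Perm.mul_apply]
      show ((e ^ i) a).1 ≫ frobPow πA 1 = _
      rw [ih, Category.assoc]
      congr 1
      show (EndAV.End.of πA ^ i).toHom ≫ (EndAV.End.of πA ^ 1).toHom = (EndAV.End.of πA ^ (i + 1)).toHom
      rw [pow_one, pow_succ']
      rfl
  refine ⟨orderOf e, orderOf_pos e, fun a ha i => ?_⟩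
  have := hval (orderOf e * i) ⟨a, ha⟩
  rw [pow_mul, pow_orderOf_eq_one, one_pow] at this
  exact this.symm

include hAle hAapp in
theorem galAct_eq_frobPow (τ : Ω ≃ₐ[k] Ω) {m j : ℕ}
    (hj : ∀ a : Ω, a ^ (Nat.card k ^ m) = a → τ a = a ^ (Nat.card k ^ j))
    {a : SGA7.pt Ω ⟶ A} (ha : a ≫ frobPow πA m = a) : SGA7.galAct τ a = a ≫ frobPow πA j := by
  refine Over.OverMorphism.ext ?_
  rw [comp_frobPow πA hAle hAapp a j]
  show Spec.map (CommRingCat.ofHom (τ : Ω →+* Ω)) ≫ a.left = _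
  have h1 := congrArg Over.Hom.left ha
  rw [comp_frobPow πA hAle hAapp a m] at h1
  generalize a.left = t at h1 ⊢
  obtain ⟨⟨x, φ⟩, rfl⟩ := (Scheme.SpecToEquivOfField Ω A.left).symm.surjective t
  change Spec.map _ ≫ Spec.map φ ≫ A.left.fromSpecResidueField x = Spec.map φ ≫ A.left.fromSpecResidueField x at h1
  change Spec.map _ ≫ Spec.map φ ≫ A.left.fromSpecResidueField x = Spec.map _ ≫ Spec.map φ ≫ _
  rw [← Spec.map_comp_assoc, cancel_mono, Spec.map_inj] at h1
  rw [← Spec.map_comp_assoc, ← Spec.map_comp_assoc]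
  congr 2
  refine CommRingCat.hom_ext (RingHom.ext fun c => ?_)
  have h2 : Zeta.fr k Ω m (φ.hom c) = φ.hom c := DFunLike.congr_fun (congrArg CommRingCat.Hom.hom h1) c
  show τ (φ.hom c) = Zeta.fr k Ω j (φ.hom c)
  rw [Zeta.fr_apply] at h2 ⊢
  exact hj _ h2

variable {l : ℕ} [hl : Fact l.Prime] (hlk : (l : k) ≠ 0)

omit [IsProper A.hom] [GeometricallyIntegral A.hom] [IsAlgClosure k Ω] [Finite k] in
theorem component_frobPow (j n : ℕ) (z : TateMod A l (SGA7.pt Ω)) :
    (TateMod.component A l (SGA7.pt Ω) n ((tateMapₗ (l := l) (T := SGA7.pt Ω) πA ^ j) z)).toMul =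
      (TateMod.component A l (SGA7.pt Ω) n z).toMul ≫ frobPow πA j := by
  have e : tateMapₗ (l := l) (T := SGA7.pt Ω) πA ^ j = EndAV.End.tateRep l (SGA7.pt Ω) (EndAV.End.of πA ^ j) := by
    rw [map_pow]; rfl
  rw [e]
  rfl

include hAle hAapp hBle hBapp hlk in
/-- **Commuting with Frobenius implies commuting with Galois.** -/
theorem galT_comm_of_frob (u : TateMod A l (SGA7.pt Ω) →ₗ[ℤ_[l]] TateMod B l (SGA7.pt Ω))
    (hu : u ∘ₗ tateMapₗ (l := l) (T := SGA7.pt Ω) πA = tateMapₗ (l := l) (T := SGA7.pt Ω) πB ∘ₗ u)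
    (τ : Ω ≃ₐ[k] Ω) : u ∘ₗ galT A l τ = galT B l τ ∘ₗ u := by
  haveI : IsAlgClosed Ω := IsAlgClosure.isAlgClosed k
  refine LinearMap.ext fun z => TateMod.ext fun n => ?_
  have hn : ((l ^ n : ℕ) : k) ≠ 0 := by rw [Nat.cast_pow]; exact pow_ne_zero _ hlk
  obtain ⟨mA, hmA, hA⟩ := exists_frobPow_fix (Ω := Ω) πA hAle hAapp hn
  obtain ⟨mB, hmB, hB⟩ := exists_frobPow_fix (Ω := Ω) πB hBle hBapp hn
  obtain ⟨j, hj⟩ := exists_eq_pow_card τ (Nat.mul_pos hmA hmB)
  have hcomm : ∀ i : ℕ, u ∘ₗ tateMapₗ (l := l) (T := SGA7.pt Ω) πA ^ i =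
      (tateMapₗ (l := l) (T := SGA7.pt Ω) πB ^ i) ∘ₗ u := fun i => by
    induction i with
    | zero => rfl
    | succ i ih =>
      rw [pow_succ, pow_succ, Module.End.mul_eq_comp, Module.End.mul_eq_comp, ← LinearMap.comp_assoc, ih,
        LinearMap.comp_assoc, hu, LinearMap.comp_assoc]
  -- congruent modulo `l ^ n` on the source
  have h1 : ((galT A l τ z - (tateMapₗ (l := l) (T := SGA7.pt Ω) πA ^ j) z : TateMod A l (SGA7.pt Ω)) :
      ℕ → Additive (SGA7.pt Ω ⟶ A)) n = 0 := by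
    rw [AbTors.component_sub, sub_eq_zero]
    refine Additive.toMul.injective ?_
    rw [show ((galT A l τ z : TateMod A l (SGA7.pt Ω)) : ℕ → Additive (SGA7.pt Ω ⟶ A)) n =
      TateMod.component A l (SGA7.pt Ω) n (galT A l τ z) from rfl, component_galT]
    refine Eq.trans ?_ (component_frobPow πA j n z).symm
    exact galAct_eq_frobPow πA hAle hAapp τ hj (hA _ (TateMod.component_mem z n) mB)
  obtain ⟨w, hw⟩ := AbTors.exists_eq_pow_smul A (Spec.map (CommRingCat.ofHom (algebraMap k Ω))) l _ h1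
  have h2 : (u (galT A l τ z) : ℕ → Additive (SGA7.pt Ω ⟶ B)) n =
      ((tateMapₗ (l := l) (T := SGA7.pt Ω) πB ^ j) (u z) : TateMod B l (SGA7.pt Ω)).1 n := by
    rw [sub_eq_iff_eq_add.1 hw, map_add, map_nsmul]
    show ((l ^ n) • (u w : ℕ → Additive (SGA7.pt Ω ⟶ B)) n) + _ = _
    rw [show (l ^ n) • ((u w : TateMod B l (SGA7.pt Ω)) : ℕ → Additive (SGA7.pt Ω ⟶ B)) n = 0 from
      (u w).torsion n, zero_add]
    exact congrArg (fun v : TateMod B l (SGA7.pt Ω) => v.1 n) (LinearMap.congr_fun (hcomm j) z)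
  rw [LinearMap.comp_apply, LinearMap.comp_apply, h2]
  refine Additive.toMul.injective ?_
  refine (component_frobPow πB j n (u z)).trans ?_
  refine Eq.trans ?_ (component_galT τ (u z) n).symm
  exact (galAct_eq_frobPow πB hBle hBapp τ hj (by rw [mul_comm]; exact hB _ (TateMod.component_mem (u z) n) mA)).symm

include hAle hAapp hBle hBapp hlk in
/-- **Maps of rational Tate modules commuting with Frobenius are combinations of homomorphisms.** -/
theorem mem_homSpan_of_frob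
    (φ : (ℚ_[l] ⊗[ℤ_[l]] TateMod A l (SGA7.pt Ω)) →ₗ[ℚ_[l]] (ℚ_[l] ⊗[ℤ_[l]] TateMod B l (SGA7.pt Ω)))
    (hφ : φ ∘ₗ (tateMapₗ (l := l) (T := SGA7.pt Ω) πA).baseChange ℚ_[l] =
      (tateMapₗ (l := l) (T := SGA7.pt Ω) πB).baseChange ℚ_[l] ∘ₗ φ) : φ ∈ homSpan l Ω A B := by
  classical
  haveI : IsAlgClosed Ω := IsAlgClosure.isAlgClosed k
  let σ := Spec.map (CommRingCat.ofHom (algebraMap k Ω))
  haveI : Module.IsTorsionFree ℤ_[l] (TateMod A l (SGA7.pt Ω)) :=
    AbTors.instIsTorsionFree (A := A) (σ := σ) (l := l)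
  have hfinA : Module.Finite ℤ_[l] (TateMod A l (SGA7.pt Ω)) := AbTors.module_finite A σ l hlk
  have hfinB : Module.Finite ℤ_[l] (TateMod B l (SGA7.pt Ω)) := AbTors.module_finite B σ l hlk
  haveI := hfinA
  haveI : Module.Free ℤ_[l] (TateMod A l (SGA7.pt Ω)) := Module.free_of_finite_type_torsion_free'
  let b := Module.Free.chooseBasis ℤ_[l] (TateMod A l (SGA7.pt Ω))
  choose c z hc hz using fun i => exists_eq_smul_tmul (φ ((1 : ℚ_[l]) ⊗ₜ[ℤ_[l]] b i))
  choose n d hd using fun i => (show ∃ (n d : ℤ_[l]), n ≠ 0 ∧ d ≠ 0 ∧ c i * (d : ℚ_[l]) = (n : ℚ_[l]) by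
    obtain ⟨⟨n, ⟨d, hd⟩⟩, hnd⟩ := IsLocalization.surj (nonZeroDivisors ℤ_[l]) (c i)
    change c i * (d : ℚ_[l]) = (n : ℚ_[l]) at hnd
    refine ⟨n, d, fun h0 => ?_, nonZeroDivisors.ne_zero hd, hnd⟩
    rw [h0, PadicInt.coe_zero, mul_eq_zero] at hnd
    exact hnd.elim (hc i) (PadicInt.coe_ne_zero.2 (nonZeroDivisors.ne_zero hd)))
  let C : ℤ_[l] := ∏ i, n i
  have hC : C ≠ 0 := Finset.prod_ne_zero_iff.2 fun i _ => (hd i).1
  let u := b.constr ℤ_[l] fun i => ((∏ i' ∈ Finset.univ.erase i, n i') * d i) • z i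
  have hu : u.baseChange ℚ_[l] = (C : ℚ_[l]) • φ := by
    refine (b.baseChange ℚ_[l]).ext fun i => ?_
    rw [Module.Basis.baseChange_apply, LinearMap.baseChange_tmul, Module.Basis.constr_basis, tmul_smul',
      LinearMap.smul_apply, ← hz, smul_smul]
    congr 1
    show _ = ((∏ i, n i : ℤ_[l]) : ℚ_[l])
    rw [← Finset.prod_erase_mul _ _ (Finset.mem_univ i), PadicInt.coe_mul, PadicInt.coe_mul, ← (hd i).2.2]
    ring
  have hcomm : u ∘ₗ tateMapₗ (l := l) (T := SGA7.pt Ω) πA = tateMapₗ (l := l) (T := SGA7.pt Ω) πB ∘ₗ u := by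
    refine baseChange_injective hfinB ?_
    rw [LinearMap.baseChange_comp, LinearMap.baseChange_comp, hu, LinearMap.smul_comp, LinearMap.comp_smul, hφ]
  have hmem := mem_homSpan_of_comm hlk (u.baseChange ℚ_[l]) fun τ => by
    rw [galV, galV, ← LinearMap.baseChange_comp, ← LinearMap.baseChange_comp,
      galT_comm_of_frob πA hAle hAapp πB hBle hBapp hlk u hcomm τ]
  rw [hu] at hmem
  exact (Submodule.smul_mem_iff _ (PadicInt.coe_ne_zero.2 hC)).1 hmem

include hAle hAapp hBle hBapp in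
/-- Combinations of homomorphisms commute with Frobenius. -/
theorem frob_comm_of_mem_homSpan
    {φ : (ℚ_[l] ⊗[ℤ_[l]] TateMod A l (SGA7.pt Ω)) →ₗ[ℚ_[l]] (ℚ_[l] ⊗[ℤ_[l]] TateMod B l (SGA7.pt Ω))}
    (hφ : φ ∈ homSpan l Ω A B) :
    φ ∘ₗ (tateMapₗ (l := l) (T := SGA7.pt Ω) πA).baseChange ℚ_[l] =
      (tateMapₗ (l := l) (T := SGA7.pt Ω) πB).baseChange ℚ_[l] ∘ₗ φ := by
  induction hφ using Submodule.span_induction with
  | mem x hx =>
    obtain ⟨f, hf, rfl⟩ := hx
    haveI : IsIntegral A.left := GeometricallyIntegral.isIntegral_of_subsingleton A.hom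
    rw [← LinearMap.baseChange_comp, ← LinearMap.baseChange_comp, tateMapₗ_comp, tateMapₗ_comp]
    congr 1
    exact LinearMap.ext fun z => TateMod.ext fun i =>
      congrArg Additive.ofMul (congrArg (_ ≫ ·) (Poincare.comm_frob πA πB hAle hAapp hBle hBapp f).symm)
  | zero => rw [LinearMap.zero_comp, LinearMap.comp_zero]
  | add x y _ _ hx hy => rw [LinearMap.add_comp, LinearMap.comp_add, hx, hy]
  | smul c x _ hx => rw [LinearMap.smul_comp, LinearMap.comp_smul, hx]

end GrothLib.TateThm
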