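import Groth.Agent.Lib.TateThm.Embed
import Mathlib.Order.Filter.Ultrafilter.Basic

/-!
# Over a finite field there are finitely many points of given codimensions
-/

set_option autoImplicit false
set_option linter.all false
set_option backward.isDefEq.respectTransparency false

universe u

open CategoryTheory AlgebraicGeometry
open MvPolynomial (homogeneousSubmodule)

noncomputable section

namespace GrothLib.TateThm

theorem finite_points (k : Type u) [Field k] [Finite k] (m : ℕ) (f : ℕ → ℕ) :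
    Set.Finite {x : CohB1.ProjSpace m k | ∀ a, 1 ≤ a →
      Module.finrank k ↥(homogeneousSubmodule (Fin (m + 1)) k a ⊓
          Submodule.restrictScalars k x.asHomogeneousIdeal.toIdeal :
        Submodule k (MvPolynomial (Fin (m + 1)) k)) + f a =
        Module.finrank k ↥(homogeneousSubmodule (Fin (m + 1)) k a)} := by
  classical
  by_contra hinf
  haveI := (Set.not_finite.1 hinf).to_subtype
  generalize hT : {x : CohB1.ProjSpace m k | ∀ a, 1 ≤ a →
      Module.finrank k ↥(homogeneousSubmodule (Fin (m + 1)) k a ⊓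
          Submodule.restrictScalars k x.asHomogeneousIdeal.toIdeal :
        Submodule k (MvPolynomial (Fin (m + 1)) k)) + f a =
        Module.finrank k ↥(homogeneousSubmodule (Fin (m + 1)) k a)} = T at hinf
  haveI := (Set.not_finite.1 hinf).to_subtype
  let S := homogeneousSubmodule (Fin (m + 1)) k
  haveI hSf : ∀ a, Module.Finite k ↥(S a) := fun a => Module.Finite.iff_fg.2 (by
    rw [show S a = homogeneousSubmodule (Fin (m + 1)) k 1 ^ a from
      (MvPolynomial.homogeneousSubmodule_one_pow (σ := Fin (m + 1)) (R := k) a).symm,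
      MvPolynomial.homogeneousSubmodule_one_eq_span_X]
    exact Submodule.FG.pow (Submodule.fg_span (Set.finite_range _)) a)
  haveI : ∀ a, Finite ↥(S a) := fun a => Module.finite_of_finite k
  let V : ℕ → T → Submodule k (MvPolynomial (Fin (m + 1)) k) := fun a x =>
    S a ⊓ Submodule.restrictScalars k x.1.asHomogeneousIdeal.toIdeal
  let F : ∀ a, T → Set ↥(S a) := fun a x => {q | q.1 ∈ x.1.asHomogeneousIdeal.toIdeal}
  let U : Ultrafilter T := Filter.hyperfilter T
  choose J hJ using fun a => (U.map (F a)).eq_pure_of_finite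
  have hU : ∀ a, (F a) ⁻¹' {J a} ∈ U := fun a => Ultrafilter.mem_map.1 (by rw [hJ a]; exact rfl)
  let G : Set (MvPolynomial (Fin (m + 1)) k) := {q | ∃ a, 1 ≤ a ∧ ∃ hq : q ∈ S a, (⟨q, hq⟩ : S a) ∈ J a}
  obtain ⟨s, hsG, hs⟩ := (Submodule.fg_span_iff_fg_span_finset_subset
    (R := MvPolynomial (Fin (m + 1)) k) G).1 (IsNoetherian.noetherian _)
  choose deg hdeg1 hdegS hdegJ using fun q : (s : Set (MvPolynomial (Fin (m + 1)) k)) => hsG q.2
  have hA : (⋂ q : (s : Set (MvPolynomial (Fin (m + 1)) k)), (F (deg q)) ⁻¹' {J (deg q)}) ∈ (U : Filter T) :=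
    Filter.iInter_mem.2 fun q => hU _
  have hinfA : (⋂ q : (s : Set (MvPolynomial (Fin (m + 1)) k)), (F (deg q)) ⁻¹' {J (deg q)}).Infinite :=
    fun h => Filter.notMem_hyperfilter_of_finite h hA
  have key : ∀ x, (∀ q : (s : Set (MvPolynomial (Fin (m + 1)) k)), F (deg q) x = J (deg q)) →
      ∀ a, 1 ≤ a → F a x = J a := by
    intro x hx
    have hle : ∀ q ∈ G, q ∈ x.1.asHomogeneousIdeal.toIdeal := by
      intro q hq
      have : q ∈ Submodule.span (MvPolynomial (Fin (m + 1)) k) (s : Set (MvPolynomial (Fin (m + 1)) k)) :=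
        hs ▸ Submodule.subset_span hq
      refine Submodule.span_le.2 (fun q' hq' => ?_) this
      exact ((hx ⟨q', hq'⟩).ge (hdegJ ⟨q', hq'⟩) : (⟨q', _⟩ : S (deg ⟨q', hq'⟩)) ∈ F (deg ⟨q', hq'⟩) x)
    intro a ha
    obtain ⟨z, hz⟩ := Ultrafilter.nonempty_of_mem (hU a)
    have hz' : F a z = J a := hz
    have hVle : V a z ≤ V a x := fun q hq => by
      refine ⟨hq.1, hle q ⟨a, ha, hq.1, ?_⟩⟩
      rw [← hz']
      exact hq.2
    haveI : FiniteDimensional k ↥(V a x) := Submodule.finiteDimensional_of_le (inf_le_left : V a x ≤ S a)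
    have hzT := z.2
    have hxT := x.2
    simp only [← hT, Set.mem_setOf_eq] at hzT hxT
    have hV : V a z = V a x := Submodule.eq_of_le_of_finrank_eq hVle
      (Nat.add_right_cancel ((hzT a ha).trans (hxT a ha).symm))
    rw [← hz']
    ext q
    exact ⟨fun h => (hV.ge ⟨q.2, h⟩).2, fun h => (hV.le ⟨q.2, h⟩).2⟩
  obtain ⟨x, hx, y, hy, hne⟩ := hinfA.nontrivial
  rw [Set.mem_iInter] at hx hy
  refine hne (Subtype.ext ?_)
  have hid : x.1.asHomogeneousIdeal = y.1.asHomogeneousIdeal := by
    refine HomogeneousIdeal.ext' fun a q hq => ?_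
    rcases Nat.eq_zero_or_pos a with rfl | ha
    · have h0 : ∀ w : T, q ∈ w.1.asHomogeneousIdeal → q = 0 := fun w hw => by
        have hq' : q ∈ homogeneousSubmodule (Fin (m + 1)) k 0 := hq
        rw [MvPolynomial.homogeneousSubmodule_zero, Submodule.mem_one] at hq'
        obtain ⟨t, rfl⟩ := hq'
        by_contra ht
        exact w.1.isPrime.ne_top (Ideal.eq_top_of_isUnit_mem _ hw
          ((Ne.isUnit (fun h => ht (by rw [h, map_zero]))).map _))
      exact ⟨fun h => by rw [h0 x h]; exact zero_mem _, fun h => by rw [h0 y h]; exact zero_mem _⟩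
    · have e := (key x hx a ha).trans (key y hy a ha).symm
      exact Set.ext_iff.1 e ⟨q, hq⟩
  revert hid
  obtain ⟨⟨I, _, _⟩, _⟩ := x
  obtain ⟨⟨I', _, _⟩, _⟩ := y
  rintro rfl
  rfl

end GrothLib.TateThm
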