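import Groth.Agent.Lib.TateThm.Center
import Mathlib.Algebra.MvPolynomial.Funext

/-!
# Isogenies from equivariant isomorphisms of Tate modules
-/

set_option autoImplicit false
set_option linter.all false
set_option backward.isDefEq.respectTransparency false
set_option maxHeartbeats 1000000

universe u

open CategoryTheory MonoidalCategory CartesianMonoidalCategory MonObj GrpObj AlgebraicGeometry AbDual
open scoped TensorProduct

noncomputable section

namespace GrothLib.TateThm

/-- A combination inverted by a map can be replaced by an integral one. -/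
theorem exists_int_bijective {K : Type*} [Field K] [CharZero K] {V W : Type*} [AddCommGroup V] [Module K V]
    [FiniteDimensional K V] [AddCommGroup W] [Module K W] {r : ℕ} (M : Fin r → (V →ₗ[K] W)) (c : Fin r → K)
    (e : V ≃ₗ[K] W) (he : e.toLinearMap = ∑ i, c i • M i) :
    ∃ a : Fin r → ℤ, Function.Bijective (∑ i, (a i : K) • M i : V →ₗ[K] W) := by
  classical
  let b := Module.finBasis K V
  let N : Fin r → Matrix (Fin (Module.finrank K V)) (Fin (Module.finrank K V)) K := fun i =>
    LinearMap.toMatrix b b (e.symm.toLinearMap ∘ₗ M i)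
  let D : MvPolynomial (Fin r) K :=
    (∑ i, (MvPolynomial.X i : MvPolynomial (Fin r) K) • (N i).map MvPolynomial.C).det
  have hD : ∀ x : Fin r → K, MvPolynomial.eval x D = (LinearMap.det (e.symm.toLinearMap ∘ₗ ∑ i, x i • M i)) := fun x => by
    rw [← LinearMap.det_toMatrix b, RingHom.map_det]
    congr 1
    have h1 : e.symm.toLinearMap ∘ₗ (∑ i, x i • M i) = ∑ i, x i • (e.symm.toLinearMap ∘ₗ M i) :=
      LinearMap.ext fun v => by simp [map_sum]
    rw [h1, map_sum]
    refine Matrix.ext fun p q => ?_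
    simp [Matrix.sum_apply, N]
  have hne : D ≠ 0 := fun h => by
    have := hD c
    rw [h, map_zero, ← he, LinearEquiv.comp_coe, LinearEquiv.self_trans_symm, LinearEquiv.refl_toLinearMap,
      LinearMap.det_id] at this
    exact zero_ne_one this
  obtain ⟨a, ha⟩ : ∃ a : Fin r → ℤ, MvPolynomial.eval (fun i => (a i : K)) D ≠ 0 := by
    by_contra h
    push Not at h
    refine hne (MvPolynomial.funext_set (fun _ => Set.range ((↑) : ℤ → K))
      (fun _ => Set.infinite_range_of_injective Int.cast_injective) fun x hx => ?_)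
    choose a ha using fun i => hx i trivial
    rw [show x = fun i => (a i : K) from funext fun i => (ha i).symm, h a, map_zero]
  refine ⟨a, ?_⟩
  rw [hD] at ha
  have hu := LinearMap.equivOfDetNeZero _ ha
  have hbij : Function.Bijective (e.symm.toLinearMap ∘ₗ ∑ i, (a i : K) • M i) :=
    (LinearMap.equivOfDetNeZero _ ha).bijective
  exact (Function.Bijective.of_comp_iff' e.symm.bijective _).1 hbij

section General

variable {k Ω : Type u} [Field k] [Field Ω] [Algebra k Ω] [IsAlgClosure k Ω] {l : ℕ} [hl : Fact l.Prime]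
variable {A B C : Over (Spec (CommRingCat.of k))} [GrpObj A] [IsCommMonObj A] [IsProper A.hom]
  [GeometricallyIntegral A.hom] [GrpObj B] [IsCommMonObj B] [IsProper B.hom] [GeometricallyIntegral B.hom]
  [GrpObj C] [IsCommMonObj C] [IsProper C.hom] [GeometricallyIntegral C.hom]

theorem tateQ_injective (hlk : (l : k) ≠ 0) : Function.Injective (tateQ l Ω A B) :=
  (injective_iff_map_eq_zero _).2 fun φ hφ => by
    by_contra hne
    have hli : LinearIndependent ℤ (fun _ : Fin 1 => φ) := Fintype.linearIndependent_iff.2 fun g hg i => by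
      rw [Fin.sum_univ_one] at hg
      haveI := HomFG.free_hom (A := A) (B := B)
      rw [Subsingleton.elim i 0]
      exact (smul_eq_zero.1 hg).resolve_right hne
    exact (linearIndependent_tateQ (Ω := Ω) hlk hli).ne_zero 0 hφ

theorem tateQ_comp (φ : EndAV.Hom A B) (ψ : EndAV.Hom B C) :
    tateQ l Ω A C (φ ≫ ψ) = tateQ l Ω B C ψ ∘ₗ tateQ l Ω A B φ := by
  rw [tateQ_apply, tateQ_apply, tateQ_apply, ← LinearMap.baseChange_comp, tateMapₗ_comp]
  rfl

variable (l Ω) in
/-- An endomorphism bijective on the rational Tate module is invertible up to a positive multiple. -/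
theorem exists_inverse (hlk : (l : k) ≠ 0) (α : EndAV.End A) (hα : Function.Bijective (tateQ l Ω A A α)) :
    ∃ (β : EndAV.End A) (n : ℕ), 0 < n ∧ α * β = n ∧ β * α = n := by
  haveI : Module.Finite ℤ (EndAV.End A) := HomFG.finite_hom (A := A) (B := A)
  have hinj : ∀ x : EndAV.End A, α * x = 0 → x = 0 := fun x hx => tateQ_injective (Ω := Ω) hlk (by
    refine LinearMap.ext fun v => hα.1 ?_
    have h := LinearMap.congr_fun ((tateQ_mul (l := l) (Ω := Ω) α x).symm.trans (congrArg (tateQ l Ω A A) hx)) v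
    rw [map_zero, LinearMap.zero_apply] at h ⊢
    rw [map_zero]
    exact h)
  let L : EndAV.End0 A →ₗ[ℚ] EndAV.End0 A := LinearMap.mulLeft ℚ (EndAV.toEnd0 α)
  have hL : Function.Injective L := (injective_iff_map_eq_zero L).2 fun x hx => by
    obtain ⟨q, φ, rfl⟩ := Poincare.exists_smul_toEnd0 x
    by_cases hq : q = 0
    · rw [hq, zero_smul]
    change EndAV.toEnd0 α * (q • EndAV.toEnd0 φ) = 0 at hx
    rw [mul_smul_comm, smul_eq_zero, ← map_mul] at hx
    rw [hinj φ (HomFG.toEnd0_injective (A := A) ((hx.resolve_left hq).trans (map_zero _).symm)), map_zero, smul_zero]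
  obtain ⟨y, hy⟩ := LinearMap.surjective_of_injective hL 1
  obtain ⟨q, β, rfl⟩ := Poincare.exists_smul_toEnd0 y
  change EndAV.toEnd0 α * (q • EndAV.toEnd0 β) = 1 at hy
  have h1 : α * (q.num • β) = ((q.den : ℕ) : EndAV.End A) := HomFG.toEnd0_injective (A := A) (by
    rw [map_mul, map_zsmul, map_natCast, ← Int.cast_smul_eq_zsmul ℚ, mul_smul_comm, ← Rat.mul_den_eq_num q,
      _root_.mul_comm, mul_smul, ← mul_smul_comm q, hy, Nat.cast_smul_eq_nsmul ℚ, nsmul_one])
  refine ⟨q.num • β, q.den, q.den_pos, h1, ?_⟩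
  have h2 : α * ((q.num • β) * α - (q.den : EndAV.End A)) = 0 := by
    rw [mul_sub, ← _root_.mul_assoc, h1, (Nat.cast_commute q.den α).eq, sub_self]
  exact sub_eq_zero.1 (hinj _ h2)

variable (l Ω) in
/-- A homomorphism bijective on Tate modules with one backwards too is an isogeny. -/
theorem exists_isogeny_of_bijective (hlk : (l : k) ≠ 0) (φ : EndAV.Hom A B) (ψ : EndAV.Hom B A)
    (hφ : Function.Bijective (tateQ l Ω A B φ)) (hψ : Function.Bijective (tateQ l Ω B A ψ)) :
    ∃ (u : A ⟶ B) (_ : IsMonHom u) (v : B ⟶ A) (_ : IsMonHom v) (n : ℕ), 0 < n ∧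
      u ≫ v = (𝟙 A) ^ n ∧ v ≫ u = (𝟙 B) ^ n := by
  have hα : Function.Bijective (tateQ l Ω A A (φ ≫ ψ)) := by
    rw [tateQ_comp]
    exact hψ.comp hφ
  obtain ⟨β, n, hn, h1, h2⟩ := exists_inverse Ω l hlk (φ ≫ ψ) hα
  let v : EndAV.Hom B A := ψ ≫ β
  have hu : φ ≫ v = ((n : EndAV.End A) : EndAV.Hom A A) := by
    rw [← h2]
    exact (Category.assoc _ _ _).symm
  have hv : v ≫ φ = ((n : EndAV.End B) : EndAV.Hom B B) := by
    refine tateQ_injective (Ω := Ω) hlk (LinearMap.ext fun x => ?_)
    obtain ⟨y, rfl⟩ := hφ.2 x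
    have h3 := LinearMap.congr_fun (congrArg (tateQ l Ω A A) hu) y
    rw [tateQ_comp] at h3 ⊢
    show tateQ l Ω A B φ (tateQ l Ω B A v (tateQ l Ω A B φ y)) = _
    rw [show tateQ l Ω B A v (tateQ l Ω A B φ y) = tateQ l Ω A A ((n : EndAV.End A) : EndAV.Hom A A) y from h3,
      show ((n : EndAV.End A) : EndAV.Hom A A) = n • (1 : EndAV.End A) from (nsmul_one n).symm,
      show ((n : EndAV.End B) : EndAV.Hom B B) = n • (1 : EndAV.End B) from (nsmul_one n).symm,
      map_nsmul, map_nsmul, tateQ_one, tateQ_one, LinearMap.smul_apply, LinearMap.smul_apply,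
      Module.End.one_apply, Module.End.one_apply, map_nsmul]
  refine ⟨φ.toHom, inferInstance, v.toHom, inferInstance, n, hn, ?_, ?_⟩
  · exact (congrArg EndAV.Hom.toHom hu).trans (EndAV.End.toHom_natCast n)
  · exact (congrArg EndAV.Hom.toHom hv).trans (EndAV.End.toHom_natCast n)

/-- A bijective combination of homomorphisms gives a bijective homomorphism. -/
theorem exists_bijective_hom (e : (ℚ_[l] ⊗[ℤ_[l]] TateMod A l (SGA7.pt Ω)) ≃ₗ[ℚ_[l]]
    (ℚ_[l] ⊗[ℤ_[l]] TateMod B l (SGA7.pt Ω))) (hlk : (l : k) ≠ 0) (he : e.toLinearMap ∈ homSpan l Ω A B) :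
    ∃ φ : EndAV.Hom A B, Function.Bijective (tateQ l Ω A B φ) := by
  haveI : IsAlgClosed Ω := IsAlgClosure.isAlgClosed k
  haveI := AbTors.module_finite A (Spec.map (CommRingCat.ofHom (algebraMap k Ω))) l hlk
  obtain ⟨r, b, -, -, hspan⟩ := exists_basis (A := A) (B := B)
  rw [homSpan_eq_span hspan, Submodule.mem_span_range_iff_exists_fun] at he
  obtain ⟨c, hc⟩ := he
  obtain ⟨a, ha⟩ := exists_int_bijective (fun i => tateQ l Ω A B (b i)) c e hc.symm
  refine ⟨∑ i, a i • b i, ?_⟩
  rw [map_sum]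
  simp only [map_zsmul, ← Int.cast_smul_eq_zsmul ℚ_[l]]
  exact ha

end General

end GrothLib.TateThm
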