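import Groth.Agent.Lib.TateThm.Isog

/-!
# The isogeny criteria over a finite field
-/

set_option autoImplicit false
set_option linter.all false
set_option backward.isDefEq.respectTransparency false
set_option maxHeartbeats 1000000

universe u

open CategoryTheory MonoidalCategory CartesianMonoidalCategory MonObj GrpObj AlgebraicGeometry AbDual
open scoped TensorProduct

noncomputable section

namespace GrothLib.TateThm

variable {k Ω : Type u} [Field k] [Field Ω] [Algebra k Ω] [IsAlgClosure k Ω] {l : ℕ} [hl : Fact l.Prime]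
variable {A B : Over (Spec (CommRingCat.of k))} [GrpObj A] [IsCommMonObj A] [IsProper A.hom]
  [GeometricallyIntegral A.hom] [GrpObj B] [IsCommMonObj B] [IsProper B.hom] [GeometricallyIntegral B.hom]

/-- An isogeny is bijective on rational Tate modules. -/
theorem bijective_of_isogeny (u : A ⟶ B) [IsMonHom u] (v : B ⟶ A) [IsMonHom v] {n : ℕ} (hn : 0 < n)
    (h1 : u ≫ v = (𝟙 A) ^ n) (h2 : v ≫ u = (𝟙 B) ^ n) :
    Function.Bijective (tateQ l Ω A B (EndAV.Hom.of u)) := by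
  have hn0 : (n : ℚ_[l]) ≠ 0 := Nat.cast_ne_zero.2 hn.ne'
  have e1 : EndAV.Hom.of u ≫ EndAV.Hom.of v = ((n : EndAV.End A) : EndAV.Hom A A) :=
    EndAV.Hom.ext (h1.trans (EndAV.End.toHom_natCast n).symm)
  have e2 : EndAV.Hom.of v ≫ EndAV.Hom.of u = ((n : EndAV.End B) : EndAV.Hom B B) :=
    EndAV.Hom.ext (h2.trans (EndAV.End.toHom_natCast n).symm)
  have key : ∀ (X : Over (Spec (CommRingCat.of k))) [GrpObj X] [IsCommMonObj X] [IsProper X.hom]
      [GeometricallyIntegral X.hom] (x : ℚ_[l] ⊗[ℤ_[l]] TateMod X l (SGA7.pt Ω)),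
      tateQ l Ω X X ((n : EndAV.End X) : EndAV.Hom X X) x = (n : ℚ_[l]) • x := by
    intro X _ _ _ _ x
    rw [show ((n : EndAV.End X) : EndAV.Hom X X) = n • (1 : EndAV.End X) from (nsmul_one n).symm, map_nsmul,
      tateQ_one, LinearMap.smul_apply, Module.End.one_apply, Nat.cast_smul_eq_nsmul]
  refine ⟨fun x y hxy => smul_right_injective _ hn0 ?_, fun x => ⟨(n : ℚ_[l])⁻¹ • tateQ l Ω B A (EndAV.Hom.of v) x, ?_⟩⟩
  · show (n : ℚ_[l]) • x = (n : ℚ_[l]) • y
    rw [← key A, ← key A, ← e1, tateQ_comp, LinearMap.comp_apply, LinearMap.comp_apply, hxy]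
  · rw [map_smul, ← LinearMap.comp_apply, ← tateQ_comp, e2, key B, inv_smul_smul₀ hn0]

variable [Finite k]

/-- **Isogenous iff the rational Tate modules are equivariantly isomorphic.** -/
theorem isogenous_iff_equivariant (hlk : (l : k) ≠ 0) :
    (∃ (u : A ⟶ B) (_ : IsMonHom u) (v : B ⟶ A) (_ : IsMonHom v) (n : ℕ), 0 < n ∧
        u ≫ v = (𝟙 A) ^ n ∧ v ≫ u = (𝟙 B) ^ n) ↔
      ∃ e : (ℚ_[l] ⊗[ℤ_[l]] TateMod A l (SGA7.pt Ω)) ≃ₗ[ℚ_[l]] (ℚ_[l] ⊗[ℤ_[l]] TateMod B l (SGA7.pt Ω)),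
        ∀ τ : Ω ≃ₐ[k] Ω, e.toLinearMap ∘ₗ galV A l τ = galV B l τ ∘ₗ e.toLinearMap := by
  constructor
  · rintro ⟨u, hu, v, hv, n, hn, h1, h2⟩
    exact ⟨LinearEquiv.ofBijective _ (bijective_of_isogeny (l := l) (Ω := Ω) u v hn h1 h2),
      fun τ => homSpan_comm (tateQ_mem (EndAV.Hom.of u)) τ⟩
  · rintro ⟨e, he⟩
    have he' : ∀ τ : Ω ≃ₐ[k] Ω, e.symm.toLinearMap ∘ₗ galV B l τ = galV A l τ ∘ₗ e.symm.toLinearMap := fun τ =>
      LinearMap.ext fun x => e.injective (by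
        have h := LinearMap.congr_fun (he τ) (e.symm x)
        simp only [LinearMap.comp_apply, LinearEquiv.coe_coe, LinearEquiv.apply_symm_apply] at h ⊢
        exact h.symm)
    obtain ⟨φ, hφ⟩ := exists_bijective_hom e hlk (mem_homSpan_of_comm hlk _ he)
    obtain ⟨ψ, hψ⟩ := exists_bijective_hom e.symm hlk (mem_homSpan_of_comm hlk _ he')
    exact exists_isogeny_of_bijective Ω l hlk φ ψ hφ hψ

variable (πA : A ⟶ A) [IsMonHom πA] (hAle : ∀ U : A.left.Opens, U ≤ πA.left ⁻¹ᵁ U)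
  (hAapp : ∀ (U : A.left.Opens) (s : Γ(A.left, U)), (πA.left.appLE U U (hAle U)).hom s = s ^ Nat.card k)
variable (πB : B ⟶ B) [IsMonHom πB] (hBle : ∀ U : B.left.Opens, U ≤ πB.left ⁻¹ᵁ U)
  (hBapp : ∀ (U : B.left.Opens) (s : Γ(B.left, U)), (πB.left.appLE U U (hBle U)).hom s = s ^ Nat.card k)

include hAle hAapp hBle hBapp in
/-- **Isogenous iff the Frobenius characteristic polynomials agree.** -/
theorem isogenous_iff_charpoly (hlk : (l : k) ≠ 0) [Module.Free ℤ_[l] (TateMod A l (SGA7.pt Ω))]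
    [Module.Finite ℤ_[l] (TateMod A l (SGA7.pt Ω))] [Module.Free ℤ_[l] (TateMod B l (SGA7.pt Ω))]
    [Module.Finite ℤ_[l] (TateMod B l (SGA7.pt Ω))] :
    (∃ (u : A ⟶ B) (_ : IsMonHom u) (v : B ⟶ A) (_ : IsMonHom v) (n : ℕ), 0 < n ∧
        u ≫ v = (𝟙 A) ^ n ∧ v ≫ u = (𝟙 B) ^ n) ↔
      (tateMapₗ (l := l) (T := SGA7.pt Ω) πA).charpoly = (tateMapₗ (l := l) (T := SGA7.pt Ω) πB).charpoly := by
  haveI : IsAlgClosed Ω := IsAlgClosure.isAlgClosed k
  let σ := Spec.map (CommRingCat.ofHom (algebraMap k Ω))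
  let TA := (tateMapₗ (l := l) (T := SGA7.pt Ω) πA).baseChange ℚ_[l]
  let TB := (tateMapₗ (l := l) (T := SGA7.pt Ω) πB).baseChange ℚ_[l]
  constructor
  · rintro ⟨u, hu, v, hv, n, hn, h1, h2⟩
    let e := LinearEquiv.ofBijective _ (bijective_of_isogeny (l := l) (Ω := Ω) u v hn h1 h2)
    have hc : e.toLinearMap ∘ₗ TA = TB ∘ₗ e.toLinearMap :=
      frob_comm_of_mem_homSpan πA hAle hAapp πB hBle hBapp (tateQ_mem (EndAV.Hom.of u))
    have hconj : e.conj TA = TB := LinearMap.ext fun x => by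
      have h := LinearMap.congr_fun hc (e.symm x)
      rw [LinearEquiv.conj_apply_apply]
      simpa using h
    have h3 : TA.charpoly = TB.charpoly := by rw [← hconj, LinearEquiv.charpoly_conj]
    rw [LinearMap.charpoly_baseChange, LinearMap.charpoly_baseChange] at h3
    exact Polynomial.map_injective _ (FaithfulSMul.algebraMap_injective ℤ_[l] ℚ_[l]) h3
  · intro h
    have hc : TA.charpoly = TB.charpoly := by
      rw [LinearMap.charpoly_baseChange, LinearMap.charpoly_baseChange, h]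
    obtain ⟨e, he⟩ := exists_conj TA TB (Poincare.isSemisimple_frob_tate σ l hlk A πA hAle hAapp)
      (Poincare.isSemisimple_frob_tate σ l hlk B πB hBle hBapp) hc
    have he' : e.symm.toLinearMap ∘ₗ TB = TA ∘ₗ e.symm.toLinearMap := LinearMap.ext fun x => e.injective (by
      have h := LinearMap.congr_fun he (e.symm x)
      simp only [LinearMap.comp_apply, LinearEquiv.coe_coe, LinearEquiv.apply_symm_apply] at h ⊢
      exact h.symm)
    obtain ⟨φ, hφ⟩ := exists_bijective_hom e hlk (mem_homSpan_of_frob πA hAle hAapp πB hBle hBapp hlk _ he)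
    obtain ⟨ψ, hψ⟩ := exists_bijective_hom e.symm hlk (mem_homSpan_of_frob πB hBle hBapp πA hAle hAapp hlk _ he')
    exact exists_isogeny_of_bijective Ω l hlk φ ψ hφ hψ

end GrothLib.TateThm
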