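import Groth.Agent.Lib.TateThm.Isog
import Mathlib.RingTheory.Nakayama

/-!
# Isogenies of degree prime to `l` from isomorphisms of integral Tate modules
-/

set_option autoImplicit false
set_option linter.all false
set_option backward.isDefEq.respectTransparency false
set_option maxHeartbeats 1000000

universe u

open CategoryTheory MonoidalCategory CartesianMonoidalCategory MonObj GrpObj AlgebraicGeometry AbDual
open scoped TensorProduct

noncomputable section

namespace GrothLib.TateThm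

variable {k Ω : Type u} [Field k] [Field Ω] [Algebra k Ω] [IsAlgClosure k Ω] {l : ℕ} [hl : Fact l.Prime]
variable {A B : Over (Spec (CommRingCat.of k))} [GrpObj A] [IsCommMonObj A] [IsProper A.hom]
  [GeometricallyIntegral A.hom] [GrpObj B] [IsCommMonObj B] [IsProper B.hom] [GeometricallyIntegral B.hom]

omit [IsAlgClosure k Ω] [IsProper A.hom] [GeometricallyIntegral A.hom] in
theorem galT_tateMapₗ [IsProper B.hom] (f : A ⟶ B) [IsMonHom f] (τ : Ω ≃ₐ[k] Ω) :
    tateMapₗ (l := l) (T := SGA7.pt Ω) f ∘ₗ galT A l τ = galT B l τ ∘ₗ tateMapₗ (l := l) (T := SGA7.pt Ω) f :=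
  LinearMap.ext fun z => TateMod.ext fun n => congrArg Additive.ofMul (Category.assoc _ _ _)

omit [IsAlgClosure k Ω] [IsProper A.hom] [GeometricallyIntegral A.hom] in
theorem tateMapₗ_natCast (n : ℕ) :
    tateMapₗ (l := l) (T := SGA7.pt Ω) (n : EndAV.End A).toHom = (n : ℤ_[l]) • LinearMap.id := by
  show EndAV.End.tateRep l (SGA7.pt Ω) (n : EndAV.End A) = _
  rw [map_natCast]
  exact LinearMap.ext fun z => (Module.End.natCast_apply n z).trans (Nat.cast_smul_eq_nsmul ℤ_[l] n z).symm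

/-- An equivalence in the span of homomorphisms is congruent mod `l` to a bijective homomorphism. -/
theorem exists_bijective_tateMap (hlk : (l : k) ≠ 0) (e : TateMod A l (SGA7.pt Ω) ≃ₗ[ℤ_[l]] TateMod B l (SGA7.pt Ω))
    (he : e.toLinearMap ∈ Submodule.span ℤ_[l] (Set.range (EndAV.Hom.tateMap (A := A) (B := B) l (SGA7.pt Ω)))) :
    ∃ φ : EndAV.Hom A B, Function.Bijective (tateMapₗ (l := l) (T := SGA7.pt Ω) φ.toHom) := by
  haveI : IsAlgClosed Ω := IsAlgClosure.isAlgClosed k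
  haveI : Module.Finite ℤ_[l] (TateMod A l (SGA7.pt Ω)) :=
    AbTors.module_finite A (Spec.map (CommRingCat.ofHom (algebraMap k Ω))) l hlk
  obtain ⟨r, b, -, -, hspan⟩ := exists_basis (A := A) (B := B)
  let T : EndAV.Hom A B →ₗ[ℤ] (TateMod A l (SGA7.pt Ω) →ₗ[ℤ_[l]] TateMod B l (SGA7.pt Ω)) :=
    (EndAV.Hom.tateMap (A := A) (B := B) l (SGA7.pt Ω)).toIntLinearMap
  have hle : Submodule.span ℤ_[l] (Set.range T) ≤ Submodule.span ℤ_[l] (Set.range fun i => T (b i)) := by
    refine Submodule.span_le.2 ?_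
    rintro _ ⟨φ, rfl⟩
    have hmem : T φ ∈ (Submodule.span ℤ (Set.range b)).map T := ⟨φ, hspan.symm ▸ trivial, rfl⟩
    rw [Submodule.map_span, ← Set.range_comp] at hmem
    exact Submodule.span_le_restrictScalars ℤ ℤ_[l] _ hmem
  obtain ⟨c, hc⟩ := Submodule.mem_span_range_iff_exists_fun ℤ_[l] |>.1 (hle he)
  choose w hw using fun i => Ideal.mem_span_singleton.1 (PadicInt.appr_spec 1 (c i))
  refine ⟨∑ i, ((c i).appr 1) • b i, ?_⟩
  show Function.Bijective (T (∑ i, ((c i).appr 1) • b i))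
  have hT : T (∑ i, ((c i).appr 1) • b i) = e.toLinearMap - (l : ℤ_[l]) • ∑ i, w i • T (b i) := by
    rw [← hc, map_sum, Finset.smul_sum, ← Finset.sum_sub_distrib]
    refine Finset.sum_congr rfl fun i _ => ?_
    rw [map_nsmul, ← Nat.cast_smul_eq_nsmul ℤ_[l], smul_smul, ← sub_smul]
    congr 1
    have h := hw i
    rw [pow_one] at h
    rw [← h]; ring
  set F := T (∑ i, ((c i).appr 1) • b i) with hF
  let W := e.symm.toLinearMap ∘ₗ (∑ i, w i • T (b i))
  let x : Module.End ℤ_[l] (TateMod A l (SGA7.pt Ω)) := e.symm.toLinearMap ∘ₗ F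
  have hx : ∀ z, x z = z - (l : ℤ_[l]) • W z := fun z => by
    show e.symm (F z) = _
    rw [hT, LinearMap.sub_apply, LinearMap.smul_apply, map_sub, map_smul]
    exact congrArg (· - _) (e.symm_apply_apply z)
  have hsurj : Function.Surjective x := by
    rw [← LinearMap.range_eq_top, eq_top_iff]
    refine Submodule.le_of_le_smul_of_le_jacobson_bot (I := Ideal.span {(l : ℤ_[l])}) Module.Finite.fg_top ?_ ?_
    · rw [IsLocalRing.jacobson_eq_maximalIdeal ⊥ bot_ne_top, PadicInt.maximalIdeal_eq_span_p]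
    · intro z _
      refine Submodule.mem_sup.2 ⟨x z, ⟨z, rfl⟩, (l : ℤ_[l]) • W z,
        Submodule.smul_mem_smul (Ideal.mem_span_singleton_self _) trivial, ?_⟩
      rw [hx, sub_add_cancel]
  have hbij : Function.Bijective x := ⟨OrzechProperty.injective_of_surjective_endomorphism x hsurj, hsurj⟩
  exact (Function.Bijective.of_comp_iff' e.symm.bijective _).1 hbij

variable (l Ω) in
/-- Homomorphisms bijective on integral Tate modules give an isogeny prime to `l`. -/
theorem exists_isogeny_not_dvd (hlk : (l : k) ≠ 0) (φ : EndAV.Hom A B) (ψ : EndAV.Hom B A)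
    (hφ : Function.Bijective (tateMapₗ (l := l) (T := SGA7.pt Ω) φ.toHom))
    (hψ : Function.Bijective (tateMapₗ (l := l) (T := SGA7.pt Ω) ψ.toHom)) :
    ∃ (u : A ⟶ B) (_ : IsMonHom u) (v : B ⟶ A) (_ : IsMonHom v) (N : ℕ), 0 < N ∧ ¬ l ∣ N ∧
      u ≫ v = (𝟙 A) ^ N ∧ v ≫ u = (𝟙 B) ^ N := by
  haveI : IsAlgClosed Ω := IsAlgClosure.isAlgClosed k
  haveI : Module.Free ℤ (EndAV.End A) := HomFG.free_hom (A := A) (B := A)
  let σ := Spec.map (CommRingCat.ofHom (algebraMap k Ω))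
  have hQφ : Function.Bijective (tateQ l Ω A B φ) :=
    ((LinearEquiv.ofBijective _ hφ).baseChange ℤ_[l] ℚ_[l]).bijective
  have hQψ : Function.Bijective (tateQ l Ω B A ψ) :=
    ((LinearEquiv.ofBijective _ hψ).baseChange ℤ_[l] ℚ_[l]).bijective
  have hα : Function.Bijective (tateQ l Ω A A (φ ≫ ψ)) := by
    rw [tateQ_comp]
    exact hQψ.comp hQφ
  obtain ⟨β, n, hn, -, h2⟩ := exists_inverse Ω l hlk (φ ≫ ψ) hα
  obtain ⟨a, N, hN, rfl⟩ := Nat.exists_eq_pow_mul_and_not_dvd hn.ne' l hl.out.ne_one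
  have hN0 : 0 < N := Nat.pos_of_ne_zero fun h => hN (h ▸ dvd_zero l)
  let eφ := LinearEquiv.ofBijective _ hφ
  have hTcomp : ∀ (v : EndAV.Hom B A) (m : ℕ), φ ≫ v = ((m : EndAV.End A) : EndAV.Hom A A) →
      ∀ y, tateMapₗ (l := l) (T := SGA7.pt Ω) v.toHom (eφ y) = (m : ℤ_[l]) • y := fun v m h y => by
    have e1 : tateMapₗ (l := l) (T := SGA7.pt Ω) v.toHom ∘ₗ tateMapₗ (l := l) (T := SGA7.pt Ω) φ.toHom =
        tateMapₗ (l := l) (T := SGA7.pt Ω) (EndAV.Hom.toHom (φ ≫ v)) := tateMapₗ_comp _ _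
    have e2 := congrArg (fun χ : EndAV.Hom A A => tateMapₗ (l := l) (T := SGA7.pt Ω) χ.toHom y) h
    exact ((LinearMap.congr_fun e1 y).trans e2).trans (LinearMap.congr_fun (tateMapₗ_natCast m) y)
  have strip : ∀ (a : ℕ) (v : EndAV.Hom B A), φ ≫ v = (((l ^ a * N : ℕ) : EndAV.End A) : EndAV.Hom A A) →
      ∃ v' : EndAV.Hom B A, φ ≫ v' = ((N : EndAV.End A) : EndAV.Hom A A) := by
    intro a
    induction a with
    | zero => intro v h; exact ⟨v, by rw [h, pow_zero, _root_.one_mul]⟩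
    | succ a ih =>
      intro v h
      obtain ⟨v', rfl⟩ := HomFG.exists_eq_smul σ l hlk
        (φ := v) (u := ((l ^ a * N : ℕ) : ℤ_[l]) • eφ.symm.toLinearMap) (LinearMap.ext fun x => by
          refine ((congrArg _ (eφ.apply_symm_apply x)).symm.trans (hTcomp v _ h (eφ.symm x))).trans ?_
          rw [LinearMap.smul_apply, LinearMap.smul_apply, smul_smul, ← Nat.cast_mul, pow_succ', _root_.mul_assoc]
          rfl)
      refine ih v' (smul_right_injective (EndAV.End A) (Int.natCast_ne_zero.2 hl.out.ne_zero) ?_)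
      show (l : ℤ) • (φ ≫ v') = (l : ℤ) • _
      rw [← Preadditive.comp_zsmul, h, pow_succ', _root_.mul_assoc, Nat.cast_mul, natCast_zsmul]
      exact (nsmul_eq_mul l ((l ^ a * N : ℕ) : EndAV.End A)).symm
  obtain ⟨v, hv⟩ := strip a (ψ ≫ β) (by rw [← h2]; exact (Category.assoc _ _ _).symm)
  have hv2 : v ≫ φ = ((N : EndAV.End B) : EndAV.Hom B B) := by
    refine HomFG.tateRep_injective (A := B) σ l hlk (LinearMap.ext fun x => ?_)
    obtain ⟨y, rfl⟩ := eφ.surjective x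
    show tateMapₗ (l := l) (T := SGA7.pt Ω) (EndAV.Hom.toHom (v ≫ φ)) (eφ y) =
      tateMapₗ (l := l) (T := SGA7.pt Ω) (N : EndAV.End B).toHom (eφ y)
    have e1 : tateMapₗ (l := l) (T := SGA7.pt Ω) φ.toHom ∘ₗ tateMapₗ (l := l) (T := SGA7.pt Ω) v.toHom =
        tateMapₗ (l := l) (T := SGA7.pt Ω) (EndAV.Hom.toHom (v ≫ φ)) := tateMapₗ_comp _ _
    rw [← LinearMap.congr_fun e1, LinearMap.comp_apply, hTcomp v N hv y, tateMapₗ_natCast, LinearMap.smul_apply,
      map_smul]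
    rfl
  refine ⟨φ.toHom, inferInstance, v.toHom, inferInstance, N, hN0, hN, ?_, ?_⟩
  · exact (congrArg EndAV.Hom.toHom hv).trans (EndAV.End.toHom_natCast N)
  · exact (congrArg EndAV.Hom.toHom hv2).trans (EndAV.End.toHom_natCast N)

omit [IsAlgClosure k Ω] [IsProper A.hom] [GeometricallyIntegral A.hom] [IsProper B.hom] [GeometricallyIntegral B.hom] in
/-- An isogeny prime to `l` is bijective on integral Tate modules. -/
theorem bijective_tateMapₗ_of_isogeny (f : A ⟶ B) [IsMonHom f] (g : B ⟶ A) [IsMonHom g] {N : ℕ} (hN : ¬ l ∣ N)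
    (h1 : f ≫ g = (𝟙 A) ^ N) (h2 : g ≫ f = (𝟙 B) ^ N) :
    Function.Bijective (tateMapₗ (l := l) (T := SGA7.pt Ω) f) := by
  obtain ⟨u, hu⟩ : IsUnit (N : ℤ_[l]) :=
    PadicInt.isUnit_iff.2 (by
      by_contra hne
      exact hN (Int.natCast_dvd_natCast.1 ((PadicInt.norm_int_lt_one_iff_dvd (p := l) (N : ℤ)).1
        (by rw [Int.cast_natCast]; exact lt_of_le_of_ne (PadicInt.norm_le_one _) hne))))
  have e1 : ∀ y, tateMapₗ (l := l) (T := SGA7.pt Ω) g (tateMapₗ (l := l) (T := SGA7.pt Ω) f y) = (u : ℤ_[l]) • y :=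
    fun y => by
      rw [← LinearMap.comp_apply, tateMapₗ_comp, hu]
      simp only [h1, ← EndAV.End.toHom_natCast]
      exact LinearMap.congr_fun (tateMapₗ_natCast N) y
  have e2 : ∀ y, tateMapₗ (l := l) (T := SGA7.pt Ω) f (tateMapₗ (l := l) (T := SGA7.pt Ω) g y) = (u : ℤ_[l]) • y :=
    fun y => by
      rw [← LinearMap.comp_apply, tateMapₗ_comp, hu]
      simp only [h2, ← EndAV.End.toHom_natCast]
      exact LinearMap.congr_fun (tateMapₗ_natCast N) y
  refine ⟨fun x y hxy => ?_, fun x => ⟨(↑u⁻¹ : ℤ_[l]) • tateMapₗ (l := l) (T := SGA7.pt Ω) g x, ?_⟩⟩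
  · have h := congrArg (fun z => (↑u⁻¹ : ℤ_[l]) • tateMapₗ (l := l) (T := SGA7.pt Ω) g z) hxy
    simpa only [e1, smul_smul, Units.inv_mul, one_smul] using h
  · rw [map_smul, e2, smul_smul, Units.inv_mul, one_smul]

end GrothLib.TateThm
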