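import Groth.Agent.Lib.TateThm.QuotFin
import Groth.Agent.Lib.AbMul.Etale
import Groth.Agent.Lib.AbTors.Descend
import Groth.Agent.Lib.AbTors.FiniteKer
import Groth.Agent.Lib.Poincare.GalPts
import Groth.Agent.Lib.DiagGrp.Bihom
import Groth.Prelude.Def_SGA7a

/-!
# The quotient of an abelian variety by a Galois stable group of torsion points
-/

set_option autoImplicit false
set_option linter.all false
set_option backward.isDefEq.respectTransparency false
set_option maxHeartbeats 1000000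

universe u

open CategoryTheory CategoryTheory.Limits MonoidalCategory CartesianMonoidalCategory MonObj GrpObj
open AlgebraicGeometry TopologicalSpace

noncomputable section

namespace GrothLib.TateThm

variable {k Ω : Type u} [Field k] [Field Ω] [Algebra k Ω] [IsAlgClosure k Ω]
  {X : Over (Spec (CommRingCat.of k))} [GrpObj X]

/-- A monomorphism whose image is closed under the group operations is a subgroup. -/
theorem exists_grpObj_of_mono {N : Over (Spec (CommRingCat.of k))} (i : N ⟶ X) [Mono i]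
    (h1 : ∃ e : 𝟙_ _ ⟶ N, e ≫ i = 1) (hm : ∃ m : N ⊗ N ⟶ N, m ≫ i = (fst N N ≫ i) * (snd N N ≫ i))
    (hinv : ∃ j : N ⟶ N, j ≫ i = i⁻¹) : ∃ (_ : GrpObj N), IsMonHom i := by
  obtain ⟨e, he⟩ := h1
  obtain ⟨m, hm⟩ := hm
  obtain ⟨j, hj⟩ := hinv
  let K : ∀ T : Over (Spec (CommRingCat.of k)), Subgroup (T ⟶ X) := fun T =>
    { carrier := {a | ∃ b : T ⟶ N, b ≫ i = a}
      one_mem' := ⟨toUnit T ≫ e, by rw [Category.assoc, he, MonObj.comp_one]⟩
      mul_mem' := fun {a b} ⟨a', ha⟩ ⟨b', hb⟩ => ⟨lift a' b' ≫ m, by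
        rw [Category.assoc, hm, MonObj.comp_mul, lift_fst_assoc, lift_snd_assoc, ha, hb]⟩
      inv_mem' := fun {a} ⟨a', ha⟩ => ⟨a' ≫ j, by rw [Category.assoc, hj, GrpObj.comp_inv, ha]⟩ }
  let F : (Over (Spec (CommRingCat.of k)))ᵒᵖ ⥤ GrpCat :=
    { obj := fun T => GrpCat.of (K T.unop)
      map := fun {T T'} h => GrpCat.ofHom
        { toFun := fun a => ⟨h.unop ≫ a.1, by
            obtain ⟨b, hb⟩ := a.2
            exact ⟨h.unop ≫ b, by rw [Category.assoc, hb]⟩⟩
          map_one' := Subtype.ext (MonObj.comp_one h.unop)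
          map_mul' := fun a b => Subtype.ext (MonObj.comp_mul h.unop a.1 b.1) }
      map_id := fun T => GrpCat.hom_ext (MonoidHom.ext fun a => Subtype.ext (Category.id_comp a.1))
      map_comp := fun h h' => GrpCat.hom_ext (MonoidHom.ext fun a => Subtype.ext (Category.assoc _ _ a.1)) }
  let α : (F ⋙ forget GrpCat).RepresentableBy N :=
    { homEquiv := fun {T} =>
        { toFun := fun b => ⟨b ≫ i, b, rfl⟩
          invFun := fun a => a.2.choose
          left_inv := fun b => (cancel_mono i).1 (Exists.choose_spec (p := fun x => x ≫ i = b ≫ i) ⟨b, rfl⟩)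
          right_inv := fun a => Subtype.ext a.2.choose_spec }
      homEquiv_comp := fun h b => Subtype.ext (Category.assoc h b i) }
  letI : GrpObj N := GrpObj.ofRepresentableBy N F α
  have hinv : ∀ {T : Over (Spec (CommRingCat.of k))} (a : K T), α.homEquiv.symm a ≫ i = a.1 := fun a =>
    congrArg Subtype.val (α.homEquiv.apply_symm_apply a)
  refine ⟨inferInstance, ⟨?_, ?_⟩⟩
  · refine (hinv _).trans ?_
    exact (MonObj.one_eq_one _).symm
  · refine (hinv _).trans ?_
    show (fst N N ≫ i) * (snd N N ≫ i) = (i ⊗ₘ i) ≫ μ[X]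
    rw [Hom.mul_def, lift_fst_comp_snd_comp]

/-- Endomorphisms of `Spec Ω` over `k` come from automorphisms. -/
theorem exists_eq_specAut (s : Spec (CommRingCat.of Ω) ⟶ Spec (CommRingCat.of Ω))
    (hs : s ≫ Spec.map (CommRingCat.ofHom (algebraMap k Ω)) = Spec.map (CommRingCat.ofHom (algebraMap k Ω))) :
    ∃ τ : Ω ≃ₐ[k] Ω, (SGA7.specAut τ).left = s := by
  obtain ⟨φ, rfl⟩ := Spec.map_surjective s
  rw [← Spec.map_comp] at hs
  have h := congrArg CommRingCat.Hom.hom (Spec.map_injective hs)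
  let f : Ω →ₐ[k] Ω := { φ.hom with commutes' := fun r => DFunLike.congr_fun h r }
  haveI : Algebra.IsAlgebraic k Ω := IsAlgClosure.isAlgebraic
  exact ⟨AlgEquiv.ofBijective f (Algebra.IsAlgebraic.algHom_bijective f), rfl⟩

variable [IsCommMonObj X] [IsProper X.hom] [GeometricallyIntegral X.hom]

/-- **A Galois stable subgroup of torsion points is the set of points of a finite subgroup scheme.** -/
theorem exists_subgroup_scheme {n : ℕ} (hn : (n : k) ≠ 0) (G : Subgroup (SGA7.pt Ω ⟶ X))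
    (hG : ∀ a ∈ G, a ^ n = 1) (hst : ∀ (τ : Ω ≃ₐ[k] Ω), ∀ a ∈ G, SGA7.galAct τ a ∈ G) :
    ∃ (N : Over (Spec (CommRingCat.of k))) (_ : GrpObj N) (i : N ⟶ X) (_ : IsMonHom i),
      IsFinite N.hom ∧ Etale N.hom ∧ Mono i ∧ i ^ n = 1 ∧
        ∀ a : SGA7.pt Ω ⟶ X, a ∈ G ↔ ∃ b : SGA7.pt Ω ⟶ N, b ≫ i = a := by
  haveI : IsAlgClosed Ω := IsAlgClosure.isAlgClosed k
  let σ := Spec.map (CommRingCat.ofHom (algebraMap k Ω))
  obtain ⟨hf, he, -⟩ := AbMul.isFinite_etale_surjective_pow X (n : ℤ) (by exact_mod_cast hn)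
  rw [zpow_natCast] at hf he
  let q : X ⟶ X := (𝟙 X) ^ n
  let P : Over (Spec (CommRingCat.of k)) := Limits.pullback q η[X]
  let p : P ⟶ X := Limits.pullback.fst q η[X]
  have hP : IsPullback p.left P.hom q.left η[X].left := by
    have h := (IsPullback.of_hasPullback q η[X]).map (Over.forget _)
    have e : (Limits.pullback.snd q η[X]).left = P.hom := by
      have := Over.w (Limits.pullback.snd q η[X])
      rwa [show (𝟙_ (Over (Spec (CommRingCat.of k)))).hom = 𝟙 _ from rfl, Category.comp_id] at this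
    change IsPullback p.left (Limits.pullback.snd q η[X]).left q.left η[X].left at h
    rwa [e] at h
  haveI : IsFinite P.hom := MorphismProperty.of_isPullback hP hf
  haveI : Etale P.hom := MorphismProperty.of_isPullback hP he
  haveI : IsClosedImmersion (η[X].left ≫ X.hom) := by rw [Over.w]; exact inferInstanceAs (IsClosedImmersion (𝟙 _))
  haveI : IsClosedImmersion η[X].left := IsClosedImmersion.of_comp η[X].left X.hom
  haveI : IsClosedImmersion p.left := MorphismProperty.of_isPullback hP.flip ‹_›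
  haveI : Mono p := Functor.mono_of_mono_map (Over.forget _) (inferInstanceAs (Mono p.left))
  haveI : Finite ↥P.left := by
    rw [← Set.finite_univ_iff, show (Set.univ : Set ↥P.left) = P.hom ⁻¹' {IsLocalRing.closedPoint k} from
      (Set.eq_univ_of_forall fun x => Subsingleton.elim (α := ↥(Spec (CommRingCat.of k))) _ _).symm]
    exact IsFinite.finite_preimage_singleton P.hom _
  haveI : JacobsonSpace P.left := LocallyOfFiniteType.jacobsonSpace (Y := Spec _) P.hom
  haveI : DiscreteTopology P.left := inferInstance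
  have hpn : p ^ n = 1 := by
    rw [← AbTors.pow_comp_eq]
    exact (Limits.pullback.condition).trans (by rw [toUnit_unique (Limits.pullback.snd q η[X]) (toUnit P), Hom.one_def])
  have hlift : ∀ {T : Over (Spec (CommRingCat.of k))} (a : T ⟶ X), a ^ n = 1 → ∃ b : T ⟶ P, b ≫ p = a := fun {T} a ha =>
    ⟨Limits.pullback.lift a (toUnit T) (by rw [AbTors.pow_comp_eq, ha, Hom.one_def]), Limits.pullback.lift_fst _ _ _⟩
  let U : P.left.Opens := ⟨{z | ∃ a ∈ G, a.left (IsLocalRing.closedPoint Ω) = p.left z}, isOpen_discrete _⟩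
  let N : Over (Spec (CommRingCat.of k)) := Over.mk (U.ι ≫ P.hom)
  let ι' : N ⟶ P := Over.homMk U.ι rfl
  haveI : IsClosedImmersion U.ι := by
    refine IsClosedImmersion.of_isPreimmersion _ ?_
    exact isClosed_discrete _
  haveI : IsFinite N.hom := inferInstanceAs (IsFinite (U.ι ≫ P.hom))
  haveI : Etale N.hom := inferInstanceAs (Etale (U.ι ≫ P.hom))
  haveI : Mono ι' := Functor.mono_of_mono_map (Over.forget _) (inferInstanceAs (Mono U.ι))
  let i : N ⟶ X := ι' ≫ p
  have hpts : ∀ a : SGA7.pt Ω ⟶ X, a ∈ G ↔ ∃ b : SGA7.pt Ω ⟶ N, b ≫ i = a := by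
    intro a
    constructor
    · intro ha
      obtain ⟨b, hb⟩ := hlift a (hG a ha)
      have hr : Set.range b.left ⊆ Set.range U.ι := by
        rw [Scheme.Opens.range_ι]
        rintro _ ⟨z, rfl⟩
        refine ⟨a, ha, ?_⟩
        rw [Subsingleton.elim (α := ↥(Spec (CommRingCat.of Ω))) z (IsLocalRing.closedPoint Ω), ← hb]
        rfl
      refine ⟨Over.homMk (IsOpenImmersion.lift U.ι b.left hr) ?_, ?_⟩
      · show IsOpenImmersion.lift U.ι b.left hr ≫ U.ι ≫ P.hom = _
        rw [IsOpenImmersion.lift_fac_assoc, Over.w b]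
      · rw [← hb]
        show _ ≫ ι' ≫ p = _
        rw [← Category.assoc]
        congr 1
        exact Over.OverMorphism.ext (IsOpenImmersion.lift_fac _ _ _)
    · rintro ⟨b, rfl⟩
      obtain ⟨a, ha, e⟩ := (b.left (IsLocalRing.closedPoint Ω)).2
      obtain ⟨s, hs, hs'⟩ := GrothLib.Poincare.exists_endo_comp_eq X.hom a.left (b ≫ i).left (Over.w a)
        (Over.w (b ≫ i)) e
      obtain ⟨τ, rfl⟩ := exists_eq_specAut s hs
      have : b ≫ i = SGA7.galAct τ a := Over.OverMorphism.ext hs'.symm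
      rw [this]
      exact hst τ a ha
  have hfac : ∀ {T : Over (Spec (CommRingCat.of k))} [LocallyOfFiniteType T.hom] (a : T ⟶ X), a ^ n = 1 →
      (∀ t : SGA7.pt Ω ⟶ T, t ≫ a ∈ G) → ∃ b : T ⟶ N, b ≫ i = a := fun {T} _ a ha ht => by
    haveI : JacobsonSpace T.left := LocallyOfFiniteType.jacobsonSpace (Y := Spec _) T.hom
    obtain ⟨b, hb⟩ := hlift a ha
    have hr : Set.range b.left ⊆ Set.range U.ι := by
      rw [Scheme.Opens.range_ι]
      have hcl : IsClosed (b.left ⁻¹' (U : Set P.left)) := (isClosed_discrete _).preimage b.left.continuous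
      have hsub : closedPoints T.left ⊆ b.left ⁻¹' (U : Set P.left) := fun z hz => by
        obtain ⟨ι'', t, htl⟩ := AbTors.exists_geomPt (X := T) σ z hz
        refine ⟨t ≫ a, ht t, ?_⟩
        rw [← hb]
        show p.left (b.left (t.left _)) = p.left (b.left z)
        rw [htl, Scheme.Hom.comp_apply, Scheme.fromSpecResidueField_apply]
      have hall := hcl.closure_subset_iff.2 hsub
      rw [closure_closedPoints] at hall
      rintro _ ⟨z, rfl⟩
      exact hall trivial
    refine ⟨Over.homMk (IsOpenImmersion.lift U.ι b.left hr) ?_, ?_⟩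
    · show IsOpenImmersion.lift U.ι b.left hr ≫ U.ι ≫ P.hom = _
      rw [IsOpenImmersion.lift_fac_assoc, Over.w b]
    · rw [← hb]
      show _ ≫ ι' ≫ p = _
      rw [← Category.assoc]
      congr 1
      exact Over.OverMorphism.ext (IsOpenImmersion.lift_fac _ _ _)
  have hin : i ^ n = 1 := by rw [← MonObj.comp_pow, hpn, MonObj.comp_one]
  haveI : LocallyOfFiniteType (N ⊗ N).hom :=
    inferInstanceAs (LocallyOfFiniteType (Limits.pullback.fst N.hom N.hom ≫ N.hom))
  haveI : LocallyOfFiniteType (𝟙_ (Over (Spec (CommRingCat.of k)))).hom :=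
    inferInstanceAs (LocallyOfFiniteType (𝟙 _))
  obtain ⟨e, he'⟩ := hfac (1 : 𝟙_ _ ⟶ X) (one_pow n) (fun t => by rw [MonObj.comp_one]; exact one_mem G)
  obtain ⟨m, hm⟩ := hfac ((fst N N ≫ i) * (snd N N ≫ i))
    (by
      have e : ∀ b : N ⊗ N ⟶ N, (b ≫ i) ^ n = 1 := fun b => by rw [← MonObj.comp_pow, hin, MonObj.comp_one]
      rw [mul_pow, e, e, _root_.one_mul])
    (fun t => by
      rw [MonObj.comp_mul]
      exact mul_mem ((hpts _).2 ⟨t ≫ fst N N, Category.assoc _ _ _⟩) ((hpts _).2 ⟨t ≫ snd N N, Category.assoc _ _ _⟩))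
  obtain ⟨j, hj⟩ := hfac i⁻¹ (by rw [inv_pow, hin, inv_one]) (fun t => by
    rw [GrpObj.comp_inv]; exact inv_mem ((hpts _).2 ⟨_, rfl⟩))
  obtain ⟨str, hi⟩ := exists_grpObj_of_mono i ⟨e, he'⟩ ⟨m, hm⟩ ⟨j, hj⟩
  exact ⟨N, str, i, hi, inferInstance, inferInstance, inferInstance, hin, hpts⟩

/-- **The isogeny with a given Galois stable kernel of torsion points.** -/
theorem exists_isogeny {n : ℕ} (hn : (n : k) ≠ 0) (G : Subgroup (SGA7.pt Ω ⟶ X))
    (hG : ∀ a ∈ G, a ^ n = 1) (hst : ∀ (τ : Ω ≃ₐ[k] Ω), ∀ a ∈ G, SGA7.galAct τ a ∈ G) :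
    ∃ (Y : Over (Spec (CommRingCat.of k))) (_ : GrpObj Y) (_ : IsCommMonObj Y) (q : X ⟶ Y) (_ : IsMonHom q)
      (v : Y ⟶ X) (_ : IsMonHom v), IsProper Y.hom ∧ GeometricallyIntegral Y.hom ∧ IsFinite q.left ∧ Flat q.left ∧
        Surjective q.left ∧ q ≫ v = (𝟙 X) ^ n ∧ v ≫ q = (𝟙 Y) ^ n ∧
        ∀ a : SGA7.pt Ω ⟶ X, a ≫ q = 1 ↔ a ∈ G := by
  obtain ⟨N, strN, i, hi, hfin, -, hmono, hin, hpts⟩ := exists_subgroup_scheme hn G hG hst
  haveI := hi
  haveI := hfin
  haveI := hmono
  obtain ⟨Y, strY, hYc, q, hYp, hYg, hqm, hqf, hqfl, hqs, hker⟩ := exists_quotient X i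
  haveI := hYc; haveI := hYp; haveI := hYg; haveI := hqm; haveI := hqf; haveI := hqfl; haveI := hqs
  haveI : LocallyOfFinitePresentation q.left := by
    haveI : IsLocallyNoetherian Y.left := LocallyOfFiniteType.isLocallyNoetherian Y.hom
    infer_instance
  obtain ⟨v, hv⟩ := GrothLib.DiagGrp.exists_desc q ((𝟙 X : X ⟶ X) ^ n) fun T a a' h => by
    obtain ⟨b, hb⟩ := GrothLib.GrpDeligne.exists_lift_ker hker (a * a'⁻¹)
      (by rw [MonObj.mul_comp, GrpObj.inv_comp, h, _root_.mul_inv_cancel])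
    rw [AbTors.pow_comp_eq, AbTors.pow_comp_eq, ← mul_inv_eq_one, ← inv_pow, ← mul_pow, ← hb,
      ← MonObj.comp_pow, hin, MonObj.comp_one]
  haveI : IsMonHom ((𝟙 X : X ⟶ X) ^ n) := GrothLib.GrpDeligne.isMonHom_pow (𝟙 X) n
  haveI : GeometricallyConnected Y.hom := Rigidity.geometricallyConnected_of_geometricallyIrreducible Y.hom
  haveI : Flat Y.hom := GrothLib.DiagGrp.flat_of_field _
  haveI : IsMonHom v := Rigidity.isMonHom_of_one_comp' v (by
    rw [← IsMonHom.one_hom q, Category.assoc, hv, IsMonHom.one_hom ((𝟙 X : X ⟶ X) ^ n)])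
  refine ⟨Y, strY, hYc, q, inferInstance, v, inferInstance, inferInstance, inferInstance, inferInstance,
    inferInstance, inferInstance, hv, ?_, fun a => ?_⟩
  · haveI : Epi q.left := Flat.epi_of_flat_of_surjective _
    haveI : Epi q := Functor.epi_of_epi_map (Over.forget _) (inferInstanceAs (Epi q.left))
    rw [← cancel_epi q, ← Category.assoc, hv, MonObj.pow_comp, Category.id_comp, MonObj.comp_pow, Category.comp_id]
  · rw [hpts a]
    constructor
    · exact GrothLib.GrpDeligne.exists_lift_ker hker a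
    · rintro ⟨b, rfl⟩
      rw [Category.assoc, GrothLib.GrpDeligne.ker_comp_eq_one hker, MonObj.comp_one]

end GrothLib.TateThm
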