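import Groth.Agent.Lib.Poincare.PicKer
import Groth.Agent.Lib.Poincare.Descent
import Groth.Agent.Lib.Poincare.Biext
import Groth.Agent.Lib.Poincare.MumfordPoincare
import Groth.Prelude.Def_SGA7a

/-!
# The kernel of the pullback along an isogeny has at most as many elements as the kernel
-/

set_option autoImplicit false
set_option linter.all false
set_option backward.isDefEq.respectTransparency false
set_option maxHeartbeats 1000000

universe u

open CategoryTheory CategoryTheory.Limits AlgebraicGeometry Opposite TopologicalSpace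
open MonoidalCategory CartesianMonoidalCategory MonObj
open GrothLib.Ample GrothLib.Cube GrothLib.Poincare
open scoped CategoryTheory.Obj

noncomputable section

namespace GrothLib.TateThm

section Closed

variable {K : Type u} [Field K] [IsAlgClosed K] {X Y : Over (Spec (CommRingCat.of K))}
  [GrpObj X] [IsCommMonObj X] [IsProper X.hom] [GeometricallyIntegral X.hom]
  [GrpObj Y] [IsCommMonObj Y] [IsProper Y.hom] [GeometricallyIntegral Y.hom]

/-- Classes killed by an isogeny are at most as many as the points it kills. -/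
theorem card_ker_pull_le {n : ℕ} (hn : (n : K) ≠ 0) (q : X ⟶ Y) [IsMonHom q] (v : Y ⟶ X) [IsMonHom v]
    (h1 : q ≫ v = (𝟙 X) ^ n) (h2 : v ≫ q = (𝟙 Y) ^ n) :
    Finite {c : Pic Y.left // pull q.left c = 1} ∧ Finite {a : 𝟙_ (Over (Spec (CommRingCat.of K))) ⟶ X // a ≫ q = 1} ∧
      Nat.card {c : Pic Y.left // pull q.left c = 1} ≤
        Nat.card {a : 𝟙_ (Over (Spec (CommRingCat.of K))) ⟶ X // a ≫ q = 1} := by
  classical
  have hn0 : n ≠ 0 := fun h => hn (by rw [h, Nat.cast_zero])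
  set p := (𝟙 Y : Y ⟶ Y) ^ n with hp
  let GX := AbDual.torsPts X n (𝟙_ (Over (Spec (CommRingCat.of K))))
  let GY := AbDual.torsPts Y n (𝟙_ (Over (Spec (CommRingCat.of K))))
  have hGn : ∀ a : GY, a.1 ^ n = 1 := fun a => (AbDual.mem_torsPts Y a.1).1 a.2
  obtain ⟨bx, hbx⟩ := AbTors.exists_dim X
  obtain ⟨b, hb⟩ := AbTors.exists_dim Y
  haveI : Finite GY := Nat.finite_of_card_ne_zero (by
    rw [show Nat.card GY = n ^ (2 * b) from AbTors.card_torsPts Y hb hn (𝟙 (Spec (CommRingCat.of K)))]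
    exact pow_ne_zero _ hn0)
  haveI : Finite GX := Nat.finite_of_card_ne_zero (by
    rw [show Nat.card GX = n ^ (2 * bx) from AbTors.card_torsPts X hbx hn (𝟙 (Spec (CommRingCat.of K)))]
    exact pow_ne_zero _ hn0)
  haveI : Finite {a : 𝟙_ (Over (Spec (CommRingCat.of K))) ⟶ X // a ≫ q = 1} :=
    Finite.of_injective (fun a => (⟨a.1, (AbDual.mem_torsPts X a.1).2 (by
      rw [← AbTors.pow_comp_eq, ← h1, ← Category.assoc, a.2, MonObj.one_comp])⟩ : GX))
      fun a a' h => Subtype.ext (Subtype.mk.inj h)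
  have htr : ∀ a : GY, (transl a.1).left ≫ p.left = p.left := fun a => by
    have : transl a.1 ≫ p = p := by
      rw [hp, AbTors.pow_comp_eq, transl, mul_pow, ← MonObj.comp_pow, hGn a, MonObj.comp_one, _root_.mul_one]
    exact congrArg CommaMorphism.left this
  -- the character of a class, trivial on the points killed by `v`
  have hex : ∀ y : {c : Pic Y.left // pull q.left c = 1}, ∃ (c : Cocycle Y.left)
      (w : ∀ i, Γ(Y.left, p.left ⁻¹ᵁ c.D i)) (χ : GY →* K),
      cls c = y.1 ∧ IsTriv c p.left w ∧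
        (∀ (a : GY) (i : c.ι), trans c p.left (transl a.1).left (htr a) w i = cst Y.hom _ (χ a) * w i) ∧
        ∀ a : GY, a.1 ≫ v = 1 → χ a = 1 := by
    rintro ⟨y, hy⟩
    obtain ⟨c, rfl⟩ := Quotient.exists_rep y
    obtain ⟨w₀, hw₀⟩ := exists_isTriv c q.left (cls_eq_one_iff.1 hy)
    have hpq : p.left = v.left ≫ q.left := by rw [← Over.comp_left, h2]
    have hle : ∀ i, p.left ⁻¹ᵁ c.D i ≤ v.left ⁻¹ᵁ (q.left ⁻¹ᵁ c.D i) := fun i => by
      rw [hpq]; exact le_rfl
    let w : ∀ i, Γ(Y.left, p.left ⁻¹ᵁ c.D i) := fun i => (v.left.appLE _ _ (hle i)).hom (w₀ i)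
    have hw : IsTriv c p.left w := by
      refine ⟨fun i => (hw₀.1 i).map _, fun i k W hi hk => ?_⟩
      have e : W ≤ v.left ⁻¹ᵁ (q.left ⁻¹ᵁ c.D i ⊓ q.left ⁻¹ᵁ c.D k) :=
        le_inf (hi.trans (hle i)) (hk.trans (hle k))
      have h := congrArg (v.left.appLE _ W e).hom (hw₀.2 i k (q.left ⁻¹ᵁ c.D i ⊓ q.left ⁻¹ᵁ c.D k) inf_le_left inf_le_right)
      rw [map_mul, appLE_res, appLE_res] at h
      simp only [w]
      rw [res_appLE, res_appLE, h]
      congr 1
      rw [Cocycle.comap_G, Cocycle.comap_G, ← CommRingCat.comp_apply, Scheme.Hom.appLE_comp_appLE,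
        GrothLib.Poincare.appLE_congr_hom hpq.symm _ (le_inf hi hk)]
    have h1' : ∀ a : GY, ∃ t : K, ∀ i, trans c p.left (transl a.1).left (htr a) w i = cst Y.hom _ t * w i := fun a => by
      obtain ⟨r, hr⟩ := hw.exists_eq_smul (hw.trans _ (htr a))
      obtain ⟨t, rfl⟩ := exists_cst_eq r
      exact ⟨t, fun i => by rw [hr i, res_cst]⟩
    choose χ hχ using h1'
    obtain ⟨pt⟩ : Nonempty Y.left := ⟨(η[Y]).left (IsLocalRing.closedPoint K)⟩
    obtain ⟨i₀, hi₀⟩ := (c.comap p.left).exists_mem pt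
    have huniq : ∀ (t t' : K), cst Y.hom _ t * w i₀ = cst Y.hom _ t' * w i₀ → t = t' := fun t t' h =>
      cst_injective ⟨pt, hi₀⟩ ((hw.1 i₀).mul_right_cancel h)
    refine ⟨c, w, { toFun := χ, map_one' := huniq _ _ ?_, map_mul' := fun a a' => huniq _ _ ?_ }, rfl, hw, hχ,
      fun a ha => huniq _ _ ?_⟩
    · rw [← hχ 1 i₀, map_one, _root_.one_mul]
      exact congrFun (trans_of_eq_id _ _ (congrArg CommaMorphism.left transl_one) w) i₀
    · rw [← hχ (a * a') i₀, map_mul, _root_.mul_assoc, ← hχ a' i₀]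
      rw [trans_of_eq_comp _ _ _ (htr a) (htr a') (htr (a * a'))
        (congrArg CommaMorphism.left (transl_comp a.1 a'.1).symm) w i₀]
      have := hχ a' i₀
      have h2 := hχ a i₀
      unfold GrothLib.Poincare.trans at this h2 ⊢
      rw [this, map_mul, appLE_cst_over, h2]
      ring
    · show cst Y.hom _ (χ a) * w i₀ = cst Y.hom _ 1 * w i₀
      rw [← hχ a i₀, map_one, _root_.one_mul]
      have hav : (transl a.1).left ≫ v.left = v.left := by
        rw [← Over.comp_left, transl, MonObj.mul_comp, Category.id_comp, Category.assoc, ha, MonObj.comp_one,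
          _root_.mul_one]
      simp only [GrothLib.Poincare.trans, w]
      rw [← CommRingCat.comp_apply, Scheme.Hom.appLE_comp_appLE, GrothLib.Poincare.appLE_congr_hom hav _ (hle i₀)]
  choose c w χ hc hw hχ hker using hex
  have hinj : Function.Injective χ := by
    intro y y' hyy
    choose u hu using fun i => ((hw y').1 i).exists_right_inv
    have ht := (hw y).div (hw y') u hu
    have h1 : Triv ((c y).prod (Cube.inv (c y'))) := by
      refine triv_of_invariant hn p hp _ _ ht fun a h han => ?_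
      let a' : GY := ⟨a, (AbDual.mem_torsPts Y a).2 han⟩
      refine trans_div_eq _ h (cst Y.hom ⊤ (χ y a')) (fun i => ?_) (fun i => ?_) u hu
      · rw [res_cst]; exact hχ y a' i
      · rw [res_cst, hyy]; exact hχ y' a' i
    apply Subtype.ext
    rw [← hc y, ← hc y', ← mul_inv_eq_one]
    exact cls_eq_one_iff.2 h1
  let φ : GY →* (𝟙_ (Over (Spec (CommRingCat.of K))) ⟶ X) :=
    { toFun := fun a => a.1 ≫ v
      map_one' := MonObj.one_comp v
      map_mul' := fun a a' => MonObj.mul_comp a.1 a'.1 v }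
  let R : Subgroup (𝟙_ (Over (Spec (CommRingCat.of K))) ⟶ X) := φ.range
  have hR : ∀ r : R, r.1 ≫ q = 1 := by
    rintro ⟨_, a, rfl⟩
    show (a.1 ≫ v) ≫ q = 1
    rw [Category.assoc, h2, AbTors.pow_comp_eq, hGn a]
  haveI : Finite R := Finite.of_surjective φ.rangeRestrict φ.rangeRestrict_surjective
  let χ' : {c : Pic Y.left // pull q.left c = 1} → (R →* K) := fun y =>
    (Units.coeHom K).comp (φ.rangeRestrict.liftOfSurjective φ.rangeRestrict_surjective ⟨(χ y).toHomUnits, fun a ha =>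
      MonoidHom.mem_ker.2 (Units.ext ((MonoidHom.coe_toHomUnits _ a).trans
        (hker y a (by rw [MonoidHom.ker_rangeRestrict] at ha; exact ha))))⟩)
  have hlift : ∀ y (a : GY), χ' y (φ.rangeRestrict a) = χ y a := fun y a => by
    simp only [χ', MonoidHom.comp_apply]
    erw [MonoidHom.liftOfRightInverse_comp_apply]
    rfl
  have hinj' : Function.Injective χ' := fun y y' h => hinj (MonoidHom.ext fun a => by
    rw [← hlift y a, h, hlift y' a])
  have hli := linearIndependent_monoidHom R K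
  haveI : Finite (R →* K) := hli.finite
  haveI : Fintype R := Fintype.ofFinite R
  haveI : Fintype (R →* K) := Fintype.ofFinite _
  refine ⟨Finite.of_injective χ' hinj', inferInstance,
    (Nat.card_le_card_of_injective χ' hinj').trans (le_trans ?_ (Nat.card_le_card_of_injective
      (fun r : R => (⟨r.1, hR r⟩ : {a : 𝟙_ (Over (Spec (CommRingCat.of K))) ⟶ X // a ≫ q = 1}))
      fun r r' h => Subtype.ext (Subtype.mk.inj h)))⟩
  rw [Nat.card_eq_fintype_card, Nat.card_eq_fintype_card]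
  exact hli.fintype_card_le_finrank.trans (Module.finrank_pi K).le

end Closed

variable {k Ω : Type u} [Field k] [Field Ω] [Algebra k Ω]
  {X Y : Over (Spec (CommRingCat.of k))} [GrpObj X] [GrpObj Y]

/-- The pullback of a class along the points of the second factor, as a homomorphism. -/
def sliceHom [IsProper X.hom] [GeometricallyIntegral X.hom] [IsProper Y.hom] [GeometricallyIntegral Y.hom]
    {ξ : Pic (Y ⊗ X).left} (h : KL.IsBirigid ξ) : (SGA7.pt Ω ⟶ X) →* Pic (Y ⊗ SGA7.pt Ω).left where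
  toFun a := KL.pairing ξ (fst Y (SGA7.pt Ω)) (snd Y (SGA7.pt Ω) ≫ a)
  map_one' := by rw [MonObj.comp_one, KL.pairing_one_right h]
  map_mul' a b := by rw [MonObj.comp_mul, KL.pairing_mul_right h]

theorem sliceHom_apply [IsProper X.hom] [GeometricallyIntegral X.hom] [IsProper Y.hom] [GeometricallyIntegral Y.hom]
    {ξ : Pic (Y ⊗ X).left} (h : KL.IsBirigid ξ) (a : SGA7.pt Ω ⟶ X) :
    sliceHom h a = pull (Y ◁ a).left ξ := by
  show KL.pairing ξ _ _ = _
  rw [KL.pairing, show lift (fst Y (SGA7.pt Ω)) (snd Y (SGA7.pt Ω) ≫ a) = Y ◁ a by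
    apply CartesianMonoidalCategory.hom_ext <;> simp]

variable [IsCommMonObj X] [IsProper X.hom] [GeometricallyIntegral X.hom] [IsCommMonObj Y] [IsProper Y.hom]
  [GeometricallyIntegral Y.hom] [IsAlgClosed Ω]

/-- Over the algebraic closure: classes killed by the isogeny are at most as many as the points it kills. -/
theorem card_ker_pull_pt_le {n : ℕ} (hn : (n : k) ≠ 0) (q : X ⟶ Y) [IsMonHom q] (v : Y ⟶ X) [IsMonHom v]
    (h1 : q ≫ v = (𝟙 X) ^ n) (h2 : v ≫ q = (𝟙 Y) ^ n) :
    Finite {c : Pic (Y ⊗ SGA7.pt Ω).left // pull (q ▷ SGA7.pt Ω).left c = 1} ∧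
      Nat.card {c : Pic (Y ⊗ SGA7.pt Ω).left // pull (q ▷ SGA7.pt Ω).left c = 1} ≤
        Nat.card {a : SGA7.pt Ω ⟶ X // a ≫ q = 1} := by
  let σ := Spec.map (CommRingCat.ofHom (algebraMap k Ω))
  haveI : IsProper (DegPoly.bc σ X).hom := inferInstanceAs (IsProper (pullback.snd X.hom σ))
  haveI : GeometricallyIntegral (DegPoly.bc σ X).hom := inferInstanceAs (GeometricallyIntegral (pullback.snd X.hom σ))
  haveI : IsProper (DegPoly.bc σ Y).hom := inferInstanceAs (IsProper (pullback.snd Y.hom σ))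
  haveI : GeometricallyIntegral (DegPoly.bc σ Y).hom := inferInstanceAs (GeometricallyIntegral (pullback.snd Y.hom σ))
  haveI : IsCommMonObj (DegPoly.bc σ X) := isCommMonObj_abVar
  haveI : IsCommMonObj (DegPoly.bc σ Y) := isCommMonObj_abVar
  haveI : IsMonHom (DegPoly.bcMap σ q) := inferInstance
  haveI : IsMonHom (DegPoly.bcMap σ v) := inferInstance
  have hb : ∀ {A B : Over (Spec (CommRingCat.of k))} [GrpObj A] [GrpObj B] (f : A ⟶ B) (g : B ⟶ A),
      f ≫ g = (𝟙 A) ^ n → DegPoly.bcMap σ f ≫ DegPoly.bcMap σ g = (𝟙 (DegPoly.bc σ A)) ^ n := by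
    intro A B _ _ f g h
    rw [← bcMap_comp, h, show DegPoly.bcMap σ ((𝟙 A : A ⟶ A) ^ n) = DegPoly.bcMap σ (𝟙 A) ^ n from
      map_pow (Functor.homMonoidHom (Over.pullback σ)) _ n, show DegPoly.bcMap σ (𝟙 A) = 𝟙 _ from
      (Over.pullback σ).map_id A]
  have hnΩ : (n : Ω) ≠ 0 := fun h => hn ((algebraMap k Ω).injective (by rw [map_natCast, map_zero, h]))
  obtain ⟨hf, -, hle⟩ := card_ker_pull_le hnΩ (DegPoly.bcMap σ q) (DegPoly.bcMap σ v) (hb q v h1) (hb v q h2)
  have e : (DegPoly.bcMap σ q).left = (q ▷ SGA7.pt Ω).left := by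
    refine pullback.hom_ext ?_ ?_
    · exact (pullback.lift_fst _ _ _).trans (congrArg CategoryTheory.Over.Hom.left (whiskerRight_fst q (SGA7.pt Ω))).symm
    · exact (pullback.lift_snd _ _ _).trans (congrArg CategoryTheory.Over.Hom.left (whiskerRight_snd q (SGA7.pt Ω))).symm
  rw [e] at hf hle
  refine ⟨hf, hle.trans (le_of_eq (Nat.card_congr ?_))⟩
  refine ((DegPoly.ptsEquiv σ (A := X)).toEquiv.subtypeEquiv fun a => ?_).symm
  show a ≫ q = 1 ↔ DegPoly.ptsEquiv σ a ≫ DegPoly.bcMap σ q = 1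
  rw [← DegPoly.ptsEquiv_comp, EmbeddingLike.map_eq_one_iff]

/-- The points orthogonal to a class killed by the isogeny form a large subgroup. -/
theorem le_card_mul_card_orth {n : ℕ} {g : ℕ} (hg : topologicalKrullDim X.left = (g : WithBot ℕ∞))
    (hn : (n : k) ≠ 0) (q : X ⟶ Y) [IsMonHom q] (v : Y ⟶ X) [IsMonHom v]
    (h1 : q ≫ v = (𝟙 X) ^ n) (h2 : v ≫ q = (𝟙 Y) ^ n) {ξ : Pic (Y ⊗ X).left} (hξ : KL.IsBirigid ξ)
    (hq : ∀ a : SGA7.pt Ω ⟶ X, a ^ n = 1 → pull (q ▷ SGA7.pt Ω).left (sliceHom hξ a) = 1) :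
    Finite {a : SGA7.pt Ω ⟶ X // a ^ n = 1 ∧ pull (Y ◁ a).left ξ = 1} ∧
      n ^ (2 * g) ≤ Nat.card {a : SGA7.pt Ω ⟶ X // a ≫ q = 1} *
        Nat.card {a : SGA7.pt Ω ⟶ X // a ^ n = 1 ∧ pull (Y ◁ a).left ξ = 1} := by
  classical
  have hn0 : n ≠ 0 := fun h => hn (by rw [h, Nat.cast_zero])
  obtain ⟨hf, hle⟩ := card_ker_pull_pt_le (Ω := Ω) hn q v h1 h2
  let GX := AbDual.torsPts X n (SGA7.pt Ω)
  have hcard : Nat.card GX = n ^ (2 * g) :=
    AbTors.card_torsPts X hg hn (Spec.map (CommRingCat.ofHom (algebraMap k Ω)))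
  haveI : Finite GX := Nat.finite_of_card_ne_zero (by rw [hcard]; exact pow_ne_zero _ hn0)
  let ψ : GX →* Pic (Y ⊗ SGA7.pt Ω).left := (sliceHom hξ).comp GX.subtype
  haveI : Finite {a : SGA7.pt Ω ⟶ X // a ^ n = 1 ∧ pull (Y ◁ a).left ξ = 1} :=
    Finite.of_injective (fun a => (⟨a.1, (AbDual.mem_torsPts X a.1).2 a.2.1⟩ : GX))
      fun a a' h => Subtype.ext (Subtype.mk.inj h)
  refine ⟨inferInstance, ?_⟩
  rw [← hcard, ← ψ.ker.index_mul_card]
  refine Nat.mul_le_mul (le_trans ?_ hle) (le_of_eq (Nat.card_congr ?_))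
  · rw [Subgroup.index_ker]
    refine Nat.card_le_card_of_injective (fun r => ⟨r.1, ?_⟩) fun r r' h => Subtype.ext (Subtype.mk.inj h)
    obtain ⟨a, ha⟩ := r.2
    rw [← ha]
    exact hq a.1 ((AbDual.mem_torsPts X a.1).1 a.2)
  · exact
      { toFun := fun a => ⟨a.1.1, (AbDual.mem_torsPts X a.1.1).1 a.1.2, by
          rw [← sliceHom_apply hξ]; exact a.2⟩
        invFun := fun a => ⟨⟨a.1, (AbDual.mem_torsPts X a.1).2 a.2.1⟩, by
          show sliceHom hξ a.1 = 1
          rw [sliceHom_apply hξ]; exact a.2.2⟩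
        left_inv := fun a => rfl
        right_inv := fun a => rfl }

end GrothLib.TateThm
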