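import Mathlib.LinearAlgebra.Semisimple
import Mathlib.LinearAlgebra.Charpoly.ToMatrix
import Mathlib.LinearAlgebra.Matrix.Charpoly.Minpoly
import Mathlib.RingTheory.AdjoinRoot
import Mathlib.Algebra.Module.PID
import Mathlib.RingTheory.UniqueFactorizationDomain.Multiplicity
import Mathlib.FieldTheory.Perfect

/-!
# Semisimple endomorphisms with given characteristic polynomial
-/

set_option autoImplicit false
set_option linter.all false
set_option maxHeartbeats 1000000

universe u v w

open Polynomial UniqueFactorizationMonoid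
open scoped DirectSum

noncomputable section

namespace GrothLib.TateThm

variable {K : Type u} [Field K]

/-- Multiplication by the roots on a product of stem fields. -/
def rootMul {ι : Type*} (p : ι → K[X]) : Module.End K (∀ i, AdjoinRoot (p i)) :=
  LinearMap.pi fun i => (LinearMap.mulLeft K (AdjoinRoot.root (p i))).comp (LinearMap.proj i)

theorem rootMul_apply {ι : Type*} (p : ι → K[X]) (y : ∀ i, AdjoinRoot (p i)) (i : ι) :
    rootMul p y i = AdjoinRoot.root (p i) * y i := rfl

theorem charpoly_mulLeft_root {p : K[X]} (hp : p.Monic) [Module.Finite K (AdjoinRoot p)] :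
    (LinearMap.mulLeft K (AdjoinRoot.root p)).charpoly = p := by
  let B := AdjoinRoot.powerBasis hp.ne_zero
  rw [← LinearMap.charpoly_toMatrix _ B.basis]
  have h := charpoly_leftMulMatrix B
  rw [AdjoinRoot.minpoly_powerBasis_gen_of_monic hp] at h
  exact h

theorem piCongrLeft_apply {ι ι' : Type*} (σ : ι ≃ ι') (M : ι' → Type*) [∀ i, AddCommGroup (M i)] [∀ i, Module K (M i)]
    (f : ∀ i, M (σ i)) (i : ι) : LinearEquiv.piCongrLeft K M σ f (σ i) = f i :=
  Equiv.piCongrLeft_apply_apply M σ f i

theorem charpoly_pi_fin : ∀ {n : ℕ} (M : Fin n → Type u) [∀ i, AddCommGroup (M i)] [∀ i, Module K (M i)]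
    [∀ i, Module.Finite K (M i)] (f : ∀ i, Module.End K (M i)),
    (LinearMap.pi fun i => f i ∘ₗ LinearMap.proj i).charpoly = ∏ i, (f i).charpoly := by
  intro n
  induction n with
  | zero =>
    intro M _ _ _ f
    rw [Fin.prod_univ_zero]
    refine Polynomial.eq_one_of_monic_natDegree_zero (LinearMap.charpoly_monic _) ?_
    rw [LinearMap.charpoly_natDegree]
    exact Module.finrank_zero_of_subsingleton
  | succ n ih =>
    intro M _ _ _ f
    let e := Fin.consLinearEquiv K M
    have he : ∀ (u : M 0) (v : ∀ j : Fin n, M j.succ), e (u, v) = Fin.cons u v := fun u v => rfl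
    have hconj : e.conj ((f 0).prodMap (LinearMap.pi fun j => f j.succ ∘ₗ LinearMap.proj j)) =
        LinearMap.pi fun i => f i ∘ₗ LinearMap.proj i := by
      refine LinearMap.ext fun y => ?_
      obtain ⟨⟨a, b⟩, rfl⟩ := e.surjective y
      rw [LinearEquiv.conj_apply_apply, LinearEquiv.symm_apply_apply, LinearMap.prodMap_apply, he, he]
      refine _root_.funext fun i => ?_
      refine Fin.cases ?_ (fun j => ?_) i
      · simp
      · simp
    rw [← hconj, LinearEquiv.charpoly_conj, LinearMap.charpoly_prodMap, ih _ (fun j => f j.succ), Fin.prod_univ_succ]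

theorem charpoly_pi {ι : Type*} [Fintype ι] (M : ι → Type u) [∀ i, AddCommGroup (M i)] [∀ i, Module K (M i)]
    [∀ i, Module.Finite K (M i)] (f : ∀ i, Module.End K (M i)) :
    (LinearMap.pi fun i => f i ∘ₗ LinearMap.proj i).charpoly = ∏ i, (f i).charpoly := by
  let σ := (Fintype.equivFin ι).symm
  let e := LinearEquiv.piCongrLeft K M σ
  have hconj : e.conj (LinearMap.pi fun i => f (σ i) ∘ₗ LinearMap.proj i) =
      LinearMap.pi fun i => f i ∘ₗ LinearMap.proj i := by
    refine LinearMap.ext fun y => ?_
    obtain ⟨z, rfl⟩ := e.surjective y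
    rw [LinearEquiv.conj_apply_apply, LinearEquiv.symm_apply_apply]
    refine _root_.funext fun i => ?_
    obtain ⟨i, rfl⟩ := σ.surjective i
    rw [piCongrLeft_apply]
    simp [e, piCongrLeft_apply]
  rw [← hconj, LinearEquiv.charpoly_conj, charpoly_pi_fin _ (fun i => f (σ i)),
    σ.prod_comp fun i => (f i).charpoly]

theorem charpoly_rootMul {ι : Type*} [Fintype ι] (p : ι → K[X]) (hp : ∀ i, (p i).Monic)
    [Module.Finite K (∀ i, AdjoinRoot (p i))] : (rootMul p).charpoly = ∏ i, p i := by
  haveI : ∀ i, Module.Finite K (AdjoinRoot (p i)) := fun i => (AdjoinRoot.powerBasis (hp i).ne_zero).finite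
  rw [rootMul, charpoly_pi (fun i => AdjoinRoot (p i)) fun i => LinearMap.mulLeft K (AdjoinRoot.root (p i))]
  exact Finset.prod_congr rfl fun i _ => charpoly_mulLeft_root (hp i)

theorem normalizedFactors_prod {ι : Type*} [Fintype ι] [DecidableEq K] (p : ι → K[X]) (hm : ∀ i, (p i).Monic)
    (hi : ∀ i, Irreducible (p i)) : normalizedFactors (∏ i, p i) = Finset.univ.val.map p := by
  rw [Finset.prod_eq_multiset_prod, normalizedFactors_multiset_prod _ (fun h => by
    obtain ⟨i, -, hi0⟩ := Multiset.mem_map.1 h
    exact (hi i).ne_zero hi0), Multiset.map_map]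
  have : ∀ i, (normalizedFactors ∘ p) i = {p i} := fun i => by
    rw [Function.comp_apply, normalizedFactors_irreducible (hi i), (hm i).normalize_eq_self]
  rw [show (normalizedFactors ∘ p) = fun i => {p i} from funext this]
  rw [← Multiset.sum_map_singleton (Finset.univ.val.map p), Multiset.map_map]
  rfl

/-- **Normal form of a semisimple endomorphism.** -/
theorem exists_normalForm {V : Type v} [AddCommGroup V] [Module K V] [FiniteDimensional K V] [DecidableEq K]
    (π : Module.End K V) (hπ : π.IsSemisimple) :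
    ∃ (ι : Type u) (_ : Fintype ι) (p : ι → K[X]) (_ : ∀ i, (p i).Monic) (_ : ∀ i, Irreducible (p i))
      (e : V ≃ₗ[K] ∀ i, AdjoinRoot (p i)), (∀ v i, e (π v) i = AdjoinRoot.root (p i) * e v i) ∧
      normalizedFactors π.charpoly = Finset.univ.val.map p := by
  classical
  have htors : Module.IsTorsion K[X] (Module.AEval' π) := fun {x} =>
    ⟨⟨π.charpoly, mem_nonZeroDivisors_of_ne_zero (LinearMap.charpoly_monic π).ne_zero⟩, by
      obtain ⟨y, rfl⟩ := (Module.AEval'.of π).surjective x
      show π.charpoly • Module.AEval'.of π y = 0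
      rw [← Module.AEval.of_aeval_smul, LinearMap.aeval_self_charpoly, zero_smul, map_zero]⟩
  haveI : Module.Finite K (Module.AEval' π) := Module.Finite.equiv (Module.AEval'.of π)
  haveI : Module.Finite K[X] (Module.AEval' π) := Module.Finite.of_restrictScalars_finite K K[X] _
  obtain ⟨ι, hι, q, hq, e, ⟨E⟩⟩ := Module.equiv_directSum_of_isTorsion htors
  haveI := hι
  let E' : Module.AEval' π ≃ₗ[K[X]] ∀ i, K[X] ⧸ K[X] ∙ q i ^ e i :=
    E.trans (DirectSum.linearEquivFunOnFintype K[X] ι _)
  let p : ι → K[X] := fun i => normalize (q i)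
  have hpm : ∀ i, (p i).Monic := fun i => Polynomial.monic_normalize (hq i).ne_zero
  have hpi : ∀ i, Irreducible (p i) := fun i => (normalize_associated (q i)).symm.irreducible (hq i)
  have hsq := hπ.minpoly_squarefree
  have hkill : ∀ (x : Module.AEval' π), minpoly K π • x = 0 := fun x => by
    obtain ⟨y, rfl⟩ := (Module.AEval'.of π).surjective x
    rw [← Module.AEval.of_aeval_smul, minpoly.aeval, zero_smul, map_zero]
  have he : ∀ i, e i ≤ 1 := fun i => by
    by_contra hlt
    have h1 : minpoly K π • E'.symm (Pi.single i (Submodule.Quotient.mk 1)) = 0 := hkill _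
    rw [← map_smul, LinearEquiv.map_eq_zero_iff, ← Pi.single_smul, Pi.single_eq_zero_iff,
      ← Submodule.Quotient.mk_smul, Submodule.Quotient.mk_eq_zero, smul_eq_mul, mul_one,
      Submodule.mem_span_singleton] at h1
    obtain ⟨a, ha⟩ := h1
    refine (hq i).not_isUnit (hsq (q i) ?_)
    exact ⟨a * q i ^ (e i - 2), by
      rw [← ha, smul_eq_mul, ← pow_two, mul_left_comm, ← pow_add, Nat.add_sub_cancel' (by omega)]⟩
  -- drop the trivial summands
  let J := {i : ι // e i = 1}
  letI : ∀ i : ι, Algebra K[X] (AdjoinRoot (p i)) := fun i => (AdjoinRoot.mk (p i)).toAlgebra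
  have hspan : ∀ i : J, (K[X] ∙ q i.1 ^ e i.1 : Submodule K[X] K[X]) = Ideal.span {p i.1} := fun i => by
    rw [i.2, pow_one]
    exact Ideal.span_singleton_eq_span_singleton.2 (normalize_associated (q i.1)).symm
  haveI : ∀ i : ι, IsScalarTower K K[X] (AdjoinRoot (p i)) := fun i => IsScalarTower.of_algebraMap_eq fun r => rfl
  let G : ∀ i : J, (K[X] ⧸ K[X] ∙ q i.1 ^ e i.1) ≃ₗ[K[X]] AdjoinRoot (p i.1) := fun i =>
    { (Submodule.quotEquivOfEq _ (Ideal.span {p i.1}) (hspan i)).toAddEquiv with
      map_smul' := fun f z => by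
        obtain ⟨a, rfl⟩ := Submodule.Quotient.mk_surjective _ z
        exact map_mul (AdjoinRoot.mk (p i.1)) f a }
  let F : Module.AEval' π →ₗ[K[X]] ∀ i : J, AdjoinRoot (p i.1) :=
    LinearMap.pi fun i => (G i).toLinearMap ∘ₗ (LinearMap.proj i.1) ∘ₗ E'.toLinearMap
  have hsub : ∀ i, e i ≠ 1 → ∀ z : K[X] ⧸ K[X] ∙ q i ^ e i, z = 0 := fun i hi z => by
    obtain ⟨a, rfl⟩ := Submodule.Quotient.mk_surjective _ z
    rw [Submodule.Quotient.mk_eq_zero, Submodule.mem_span_singleton]
    exact ⟨a, by rw [show e i = 0 by have := he i; omega, pow_zero, smul_eq_mul, mul_one]⟩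
  have hF : Function.Bijective F := by
    refine ⟨fun a b hab => E'.injective (_root_.funext fun i => ?_), fun y => ?_⟩
    · by_cases hi : e i = 1
      · exact (G ⟨i, hi⟩).injective (congrFun hab ⟨i, hi⟩)
      · rw [hsub i hi (E' a i), hsub i hi (E' b i)]
    · refine ⟨E'.symm fun i => if hi : e i = 1 then (G ⟨i, hi⟩).symm (y ⟨i, hi⟩) else 0, _root_.funext fun i => ?_⟩
      show G i (E' (E'.symm _) i.1) = y i
      rw [LinearEquiv.apply_symm_apply, dif_pos i.2, LinearEquiv.apply_symm_apply]
  let eV : V ≃ₗ[K] ∀ i : J, AdjoinRoot (p i.1) :=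
    (Module.AEval'.of π).trans ((LinearEquiv.ofBijective F hF).restrictScalars K)
  have hcomm : ∀ v i, eV (π v) i = AdjoinRoot.root (p i.1) * eV v i := fun v i => by
    show F (Module.AEval'.of π (π v)) i = _
    rw [← Module.AEval'.X_smul_of, map_smul, Pi.smul_apply, Algebra.smul_def]
    rfl
  refine ⟨J, inferInstance, fun i => p i.1, fun i => hpm _, fun i => hpi _, eV, hcomm, ?_⟩
  haveI : Module.Finite K (∀ i : J, AdjoinRoot (p i.1)) := Module.Finite.equiv eV
  have hconj : eV.conj π = rootMul (fun i : J => p i.1) := LinearMap.ext fun y => _root_.funext fun i => by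
    rw [LinearEquiv.conj_apply, rootMul_apply]
    show eV (π (eV.symm y)) i = _
    rw [hcomm, LinearEquiv.apply_symm_apply]
  rw [← eV.charpoly_conj π, hconj, charpoly_rootMul _ (fun i => hpm _)]
  exact normalizedFactors_prod _ (fun i => hpm _) (fun i => hpi _)

/-- **Semisimple endomorphisms with the same characteristic polynomial are conjugate.** -/
theorem exists_conj {V : Type v} [AddCommGroup V] [Module K V] [FiniteDimensional K V] {W : Type w} [AddCommGroup W]
    [Module K W] [FiniteDimensional K W] (π : Module.End K V) (π' : Module.End K W) (h : π.IsSemisimple)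
    (h' : π'.IsSemisimple) (hc : π.charpoly = π'.charpoly) :
    ∃ e : V ≃ₗ[K] W, e.toLinearMap ∘ₗ π = π' ∘ₗ e.toLinearMap := by
  classical
  obtain ⟨ι, _, p, hpm, -, e, he, hn⟩ := exists_normalForm π h
  obtain ⟨ι', _, p', -, -, e', he', hn'⟩ := exists_normalForm π' h'
  rw [hc, hn'] at hn
  have hfib : ∀ P, Fintype.card {i // p i = P} = Fintype.card {i // p' i = P} := fun P => by
    have h1 := congrArg (Multiset.count P) hn.symm
    rw [Multiset.count_map, Multiset.count_map] at h1
    rw [Fintype.card_subtype, Fintype.card_subtype, Finset.card_def, Finset.card_def, Finset.filter_val,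
      Finset.filter_val]
    simpa only [eq_comm] using h1
  let σ : ι ≃ ι' := Equiv.ofFiberEquiv fun P => Fintype.equivOfCardEq (hfib P)
  have hσ : ∀ i, p' (σ i) = p i := fun i => Equiv.ofFiberEquiv_map _ i
  let C : ∀ i, AdjoinRoot (p i) ≃ₐ[K] AdjoinRoot (p' (σ i)) := fun i => AdjoinRoot.algEquivOfEq K _ _ (hσ i).symm
  have hC : ∀ i, C i (AdjoinRoot.root (p i)) = AdjoinRoot.root (p' (σ i)) := fun i => by
    exact AdjoinRoot.algEquivOfEq_root _ _ _
  refine ⟨e.trans ((LinearEquiv.piCongrRight fun i => (C i).toLinearEquiv).trans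
    ((LinearEquiv.piCongrLeft K (fun i => AdjoinRoot (p' i)) σ).trans e'.symm)), LinearMap.ext fun v => ?_⟩
  refine e'.injective (_root_.funext fun i' => ?_)
  obtain ⟨i, rfl⟩ := σ.surjective i'
  simp [piCongrLeft_apply, he, he', hC, map_mul]

variable {p q : K[X]}

/-- The maps of stem fields commuting with the roots. -/
def rootComm (p q : K[X]) : Submodule K (AdjoinRoot p →ₗ[K] AdjoinRoot q) where
  carrier := {h | ∀ x, h (AdjoinRoot.root p * x) = AdjoinRoot.root q * h x}
  add_mem' {a b} ha hb x := by simp [ha x, hb x, mul_add]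
  zero_mem' x := by simp
  smul_mem' c a ha x := by simp [ha x]

theorem mem_rootComm {h : AdjoinRoot p →ₗ[K] AdjoinRoot q} :
    h ∈ rootComm p q ↔ ∀ x, h (AdjoinRoot.root p * x) = AdjoinRoot.root q * h x := Iff.rfl

theorem rootComm_aeval {h : AdjoinRoot p →ₗ[K] AdjoinRoot q} (hh : h ∈ rootComm p q) (f : K[X]) (x : AdjoinRoot p) :
    h (aeval (AdjoinRoot.root p) f * x) = aeval (AdjoinRoot.root q) f * h x := by
  induction f using Polynomial.induction_on generalizing x with
  | C a => rw [aeval_C, aeval_C, ← Algebra.smul_def, ← Algebra.smul_def, map_smul]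
  | add a b ha hb => rw [map_add, map_add, add_mul, map_add, ha, hb, add_mul]
  | monomial n a ih =>
    simp only [pow_succ, ← mul_assoc, map_mul, aeval_X] at ih ⊢
    rw [mul_assoc, ih, hh]
    exact (mul_assoc _ _ _).symm

theorem finrank_rootComm (hpm : p.Monic) (hp : Irreducible p) (hqm : q.Monic) (hq : Irreducible q) [DecidableEq K[X]] :
    Module.finrank K (rootComm p q) = if p = q then p.natDegree else 0 := by
  haveI := Fact.mk hq
  split_ifs with hpq
  · subst hpq
    let F : rootComm p p ≃ₗ[K] AdjoinRoot p :=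
      { toFun := fun h => h.1 1
        map_add' := fun _ _ => rfl
        map_smul' := fun _ _ => rfl
        invFun := fun y => ⟨LinearMap.mulRight K y, fun x => mul_assoc _ _ _⟩
        left_inv := fun h => Subtype.ext (LinearMap.ext fun x => by
          obtain ⟨f, rfl⟩ := AdjoinRoot.mk_surjective x
          show AdjoinRoot.mk p f * h.1 1 = h.1 (AdjoinRoot.mk p f)
          rw [← AdjoinRoot.aeval_eq, ← rootComm_aeval h.2, mul_one])
        right_inv := fun y => one_mul y }
    rw [F.finrank_eq, (AdjoinRoot.powerBasis hpm.ne_zero).finrank, AdjoinRoot.powerBasis_dim]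
  · have hne : aeval (AdjoinRoot.root q) p ≠ 0 := by
      rw [AdjoinRoot.aeval_eq, Ne, AdjoinRoot.mk_eq_zero]
      exact fun hd => hpq (eq_of_monic_of_associated hpm hqm (hq.associated_of_dvd hp hd).symm)
    haveI : Subsingleton (rootComm p q) := ⟨fun a b => by
      have key : ∀ h : rootComm p q, h = 0 := fun h => Subtype.ext (LinearMap.ext fun x => by
        have h1 := rootComm_aeval h.2 p x
        rw [AdjoinRoot.aeval_eq, AdjoinRoot.mk_self, zero_mul, map_zero] at h1
        exact (mul_eq_zero.1 h1.symm).resolve_left hne)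
      rw [key a, key b]⟩
    exact Module.finrank_zero_of_subsingleton

section Comm

variable {V : Type v} {W : Type w} [AddCommGroup V] [Module K V] [AddCommGroup W] [Module K W]

/-- The intertwiners of two endomorphisms. -/
def comm (f : Module.End K V) (g : Module.End K W) : Submodule K (V →ₗ[K] W) where
  carrier := {h | ∀ x, h (f x) = g (h x)}
  add_mem' {a b} ha hb x := by simp [ha x, hb x]
  zero_mem' x := by simp
  smul_mem' c a ha x := by simp [ha x]

theorem mem_comm {f : Module.End K V} {g : Module.End K W} {h : V →ₗ[K] W} :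
    h ∈ comm f g ↔ ∀ x, h (f x) = g (h x) := Iff.rfl

theorem ker_lcomp_sub_llcomp (f : Module.End K V) (g : Module.End K W) :
    LinearMap.ker (LinearMap.lcomp K W f - LinearMap.llcomp K V W W g : (V →ₗ[K] W) →ₗ[K] (V →ₗ[K] W)) = comm f g := by
  ext h
  rw [LinearMap.mem_ker, LinearMap.sub_apply, sub_eq_zero, LinearMap.ext_iff]
  rfl

theorem finrank_comm_conj {V' : Type*} {W' : Type*} [AddCommGroup V'] [Module K V'] [AddCommGroup W'] [Module K W']
    (e : V ≃ₗ[K] V') (e' : W ≃ₗ[K] W') {f : Module.End K V} {g : Module.End K W} {f' : Module.End K V'}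
    {g' : Module.End K W'} (hf : ∀ x, e (f x) = f' (e x)) (hg : ∀ x, e' (g x) = g' (e' x)) :
    Module.finrank K (comm f g) = Module.finrank K (comm f' g') := by
  let Φ : (V →ₗ[K] W) ≃ₗ[K] (V' →ₗ[K] W') := LinearEquiv.arrowCongr e e'
  refine (Φ.submoduleMap (comm f g)).finrank_eq.trans ?_
  have hmap : Submodule.map (Φ : (V →ₗ[K] W) →ₗ[K] (V' →ₗ[K] W')) (comm f g) = comm f' g' := by
    ext h
    constructor
    · rintro ⟨h, hh, rfl⟩ x
      obtain ⟨x, rfl⟩ := e.surjective x
      show e' (h (e.symm (f' (e x)))) = g' (e' (h (e.symm (e x))))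
      rw [← hf, e.symm_apply_apply, e.symm_apply_apply, hh, hg]
    · intro hh
      refine ⟨Φ.symm h, fun x => e'.injective ?_, Φ.apply_symm_apply h⟩
      show e' (e'.symm (h (e (f x)))) = e' (g (e'.symm (h (e x))))
      rw [hg, e'.apply_symm_apply, e'.apply_symm_apply, hf]
      exact hh _
  exact congrArg (fun S : Submodule K (V' →ₗ[K] W') => Module.finrank K S) hmap

theorem finrank_comm_pi {ι ι' : Type*} [Fintype ι] [Fintype ι'] (M : ι → Type v) [∀ i, AddCommGroup (M i)]
    [∀ i, Module K (M i)] [∀ i, Module.Finite K (M i)] (N : ι' → Type w) [∀ j, AddCommGroup (N j)]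
    [∀ j, Module K (N j)] [∀ j, Module.Finite K (N j)] (f : ∀ i, Module.End K (M i)) (g : ∀ j, Module.End K (N j)) :
    Module.finrank K (comm (LinearMap.pi fun i => f i ∘ₗ LinearMap.proj i : Module.End K (∀ i, M i))
        (LinearMap.pi fun j => g j ∘ₗ LinearMap.proj j : Module.End K (∀ j, N j))) =
      ∑ i, ∑ j, Module.finrank K (comm (f i) (g j)) := by
  classical
  have hs : ∀ (i : ι) (x : M i), (Pi.single i (f i x) : ∀ i, M i) =
      fun i' => f i' ((Pi.single i x : ∀ i, M i) i') := fun i x => _root_.funext fun i' => by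
    rcases eq_or_ne i' i with rfl | hne
    · simp
    · simp [hne]
  let Φ : comm (LinearMap.pi fun i => f i ∘ₗ LinearMap.proj i : Module.End K (∀ i, M i))
      (LinearMap.pi fun j => g j ∘ₗ LinearMap.proj j : Module.End K (∀ j, N j)) ≃ₗ[K]
      ∀ ij : ι × ι', comm (f ij.1) (g ij.2) :=
    { toFun := fun h ij => ⟨LinearMap.proj ij.2 ∘ₗ h.1 ∘ₗ LinearMap.single K M ij.1, mem_comm.2 fun x => by
        show h.1 (Pi.single ij.1 (f ij.1 x)) ij.2 = _
        rw [hs]
        exact congrFun (mem_comm.1 h.2 (Pi.single ij.1 x)) ij.2⟩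
      map_add' := fun a b => _root_.funext fun ij => Subtype.ext (LinearMap.ext fun x => by simp)
      map_smul' := fun c a => _root_.funext fun ij => Subtype.ext (LinearMap.ext fun x => by simp)
      invFun := fun c => ⟨LinearMap.pi fun j => ∑ i, (c (i, j)).1 ∘ₗ LinearMap.proj i, mem_comm.2 fun x =>
        _root_.funext fun j => by
          simp only [LinearMap.pi_apply, LinearMap.sum_apply, LinearMap.comp_apply, LinearMap.proj_apply, map_sum]
          exact Finset.sum_congr rfl fun i _ => mem_comm.1 (c (i, j)).2 _⟩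
      left_inv := fun h => Subtype.ext (LinearMap.ext fun x => _root_.funext fun j => by
        simp only [LinearMap.pi_apply, LinearMap.sum_apply, LinearMap.comp_apply, LinearMap.proj_apply,
          LinearMap.coe_single]
        rw [← Finset.sum_apply, ← map_sum, Finset.univ_sum_single])
      right_inv := fun c => _root_.funext fun ⟨i, j⟩ => Subtype.ext (LinearMap.ext fun x => by
        simp only [LinearMap.pi_apply, LinearMap.sum_apply, LinearMap.comp_apply, LinearMap.proj_apply,
          LinearMap.coe_single]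
        rw [Finset.sum_eq_single i (fun i' _ hne => by rw [Pi.single_eq_of_ne hne, map_zero])
          (fun hni => absurd (Finset.mem_univ i) hni), Pi.single_eq_same]) }
  rw [Φ.finrank_eq, Module.finrank_pi_fintype, Fintype.sum_prod_type]

end Comm

/-- **The dimension of the space of intertwiners.** -/
theorem finrank_intertwiners [DecidableEq K] {V : Type v} {W : Type w} [AddCommGroup V] [Module K V] [FiniteDimensional K V]
    [AddCommGroup W] [Module K W] [FiniteDimensional K W] (π : Module.End K V) (π' : Module.End K W)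
    (h : π.IsSemisimple) (h' : π'.IsSemisimple) :
    Module.finrank K (LinearMap.ker (LinearMap.lcomp K W π - LinearMap.llcomp K V W W π' :
        (V →ₗ[K] W) →ₗ[K] (V →ₗ[K] W))) =
      ∑ P ∈ (normalizedFactors π.charpoly).toFinset,
        (normalizedFactors π.charpoly).count P * (normalizedFactors π'.charpoly).count P * P.natDegree := by
  classical
  obtain ⟨ι, _, p, hpm, hp, e, he, hn⟩ := exists_normalForm π h
  obtain ⟨ι', _, p', hpm', hp', e', he', hn'⟩ := exists_normalForm π' h'
  haveI : ∀ i, Module.Finite K (AdjoinRoot (p i)) := fun i => (AdjoinRoot.powerBasis (hpm i).ne_zero).finite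
  haveI : ∀ i, Module.Finite K (AdjoinRoot (p' i)) := fun i => (AdjoinRoot.powerBasis (hpm' i).ne_zero).finite
  rw [ker_lcomp_sub_llcomp, finrank_comm_conj e e' (f' := rootMul p) (g' := rootMul p')
    (fun x => _root_.funext (he x)) (fun x => _root_.funext (he' x)), rootMul, rootMul,
    finrank_comm_pi (fun i => AdjoinRoot (p i)) (fun j => AdjoinRoot (p' j))
      (fun i => LinearMap.mulLeft K (AdjoinRoot.root (p i))) (fun j => LinearMap.mulLeft K (AdjoinRoot.root (p' j))),
    hn, hn']
  have hcr : ∀ a b : K[X], comm (LinearMap.mulLeft K (AdjoinRoot.root a)) (LinearMap.mulLeft K (AdjoinRoot.root b)) =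
      rootComm a b := fun a b => Submodule.ext fun _ => Iff.rfl
  have e1 : ∀ i, ∑ j, Module.finrank K (comm (LinearMap.mulLeft K (AdjoinRoot.root (p i)))
      (LinearMap.mulLeft K (AdjoinRoot.root (p' j)))) =
      (Finset.univ.val.map p').count (p i) * (p i).natDegree := fun i => by
    rw [Finset.sum_congr rfl fun j _ => by rw [hcr, finrank_rootComm (hpm i) (hp i) (hpm' j) (hp' j)]]
    rw [← Finset.sum_filter, Finset.sum_const, smul_eq_mul, Multiset.count_map, Finset.card_def, Finset.filter_val]
  rw [Finset.sum_congr rfl fun i _ => e1 i, Finset.sum_eq_multiset_sum]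
  have h2 := Finset.sum_multiset_map_count (Finset.univ.val.map p)
    fun P => (Finset.univ.val.map p').count P * P.natDegree
  rw [Multiset.map_map] at h2
  refine h2.trans (Finset.sum_congr rfl fun P _ => ?_)
  rw [smul_eq_mul, mul_assoc]

/-- **The invariant does not change under extension of a perfect field.** -/
theorem sum_count_map [PerfectField K] [DecidableEq K] {L : Type v} [Field L] [DecidableEq L] [Algebra K L]
    (f₁ f₂ : K[X]) (h₁ : f₁ ≠ 0) (h₂ : f₂ ≠ 0) :
    ∑ P ∈ (normalizedFactors (f₁.map (algebraMap K L))).toFinset,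
        (normalizedFactors (f₁.map (algebraMap K L))).count P *
          (normalizedFactors (f₂.map (algebraMap K L))).count P * P.natDegree =
      ∑ P ∈ (normalizedFactors f₁).toFinset,
        (normalizedFactors f₁).count P * (normalizedFactors f₂).count P * P.natDegree := by
  classical
  let φ := algebraMap K L
  let N : K[X] → Multiset L[X] := fun P => normalizedFactors (P.map φ)
  have hbind : ∀ f : K[X], f ≠ 0 → normalizedFactors (f.map φ) = (normalizedFactors f).bind N := fun f hf => by
    obtain ⟨w, hw⟩ := prod_normalizedFactors hf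
    have hassoc : Associated (((normalizedFactors f).map (Polynomial.map φ)).prod) (f.map φ) := by
      rw [← Polynomial.coe_mapRingHom, ← map_multiset_prod]
      exact Associated.map (Polynomial.mapRingHom φ) ⟨w, hw⟩
    rw [← Associated.normalizedFactors_eq hassoc, normalizedFactors_multiset_prod _ (fun h0 => by
      obtain ⟨P, hP, hP0⟩ := Multiset.mem_map.1 h0
      exact (irreducible_of_normalized_factor P hP).ne_zero ((Polynomial.map_eq_zero φ).1 hP0)), Multiset.map_map]
    rfl
  have hP : ∀ f : K[X], ∀ P ∈ normalizedFactors f, P.Monic ∧ Irreducible P := fun f P h =>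
    ⟨by
      rw [← normalize_normalized_factor P h]
      exact Polynomial.monic_normalize (irreducible_of_normalized_factor P h).ne_zero,
      irreducible_of_normalized_factor P h⟩
  have hN : ∀ P : K[X], Irreducible P → (N P).Nodup := fun P h =>
    (squarefree_iff_nodup_normalizedFactors ((Polynomial.map_ne_zero_iff φ.injective).2 h.ne_zero)).1
      (PerfectField.separable_of_irreducible h).map.squarefree
  have hdeg : ∀ P : K[X], Irreducible P → ((N P).map Polynomial.natDegree).sum = P.natDegree := fun P h => by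
    have h0 : P.map φ ≠ 0 := (Polynomial.map_ne_zero_iff φ.injective).2 h.ne_zero
    obtain ⟨w, hw⟩ := prod_normalizedFactors h0
    have h1 := congrArg Polynomial.natDegree hw
    rw [Polynomial.natDegree_mul (left_ne_zero_of_mul (hw ▸ h0)) w.ne_zero, Polynomial.natDegree_coe_units,
      add_zero, Polynomial.natDegree_map] at h1
    rw [← Polynomial.natDegree_multiset_prod _ (zero_notMem_normalizedFactors _)]
    exact h1
  have huniq : ∀ {P P' : K[X]}, P.Monic → Irreducible P → P'.Monic → Irreducible P' → ∀ {Q}, Q ∈ N P → Q ∈ N P' →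
      P = P' := fun {P P'} hm hi hm' hi' {Q} hQ hQ' => by
    by_contra hne
    obtain ⟨a, b, hab⟩ := (hi.coprime_iff_not_dvd).2 fun hd =>
      hne (eq_of_monic_of_associated hm hm' (hi.associated_of_dvd hi' hd))
    have h1 := congrArg (Polynomial.map φ) hab
    rw [Polynomial.map_add, Polynomial.map_mul, Polynomial.map_mul, Polynomial.map_one] at h1
    exact (irreducible_of_normalized_factor Q hQ).not_isUnit (isUnit_of_dvd_one (h1 ▸
      dvd_add (dvd_mul_of_dvd_right (dvd_of_mem_normalizedFactors hQ) _)
        (dvd_mul_of_dvd_right (dvd_of_mem_normalizedFactors hQ') _)))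
  have hcount : ∀ f : K[X], f ≠ 0 → ∀ P, P.Monic → Irreducible P → ∀ Q ∈ N P,
      (normalizedFactors (f.map φ)).count Q = (normalizedFactors f).count P := fun f hf P hm hi Q hQ => by
    rw [hbind f hf, Multiset.count_bind]
    calc ((normalizedFactors f).map fun P' => (N P').count Q).sum
        = ((normalizedFactors f).map fun P' => if P' = P then 1 else 0).sum := by
          refine congrArg _ (Multiset.map_congr rfl fun P' hP' => ?_)
          split_ifs with h
          · subst h; exact Multiset.count_eq_one_of_mem (hN _ hi) hQ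
          · exact Multiset.count_eq_zero.2 fun hQ' => h (huniq (hP f P' hP').1 (hP f P' hP').2 hm hi hQ' hQ)
      _ = _ := by
          induction normalizedFactors f using Multiset.induction_on with
          | empty => simp
          | cons a s ih => rw [Multiset.map_cons, Multiset.sum_cons, ih, Multiset.count_cons, add_comm]; simp [eq_comm]
  have hset : (normalizedFactors (f₁.map φ)).toFinset = (normalizedFactors f₁).toFinset.biUnion fun P => (N P).toFinset := by
    ext Q
    rw [hbind f₁ h₁]
    simp
  show ∑ P ∈ (normalizedFactors (f₁.map φ)).toFinset, _ = _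
  rw [hset, Finset.sum_biUnion]
  · refine Finset.sum_congr rfl fun P hPmem => ?_
    obtain ⟨hm, hi⟩ := hP f₁ P (Multiset.mem_toFinset.1 hPmem)
    calc ∑ Q ∈ (N P).toFinset, (normalizedFactors (f₁.map φ)).count Q * (normalizedFactors (f₂.map φ)).count Q * Q.natDegree
        = ∑ Q ∈ (N P).toFinset, (normalizedFactors f₁).count P * (normalizedFactors f₂).count P * Q.natDegree :=
          Finset.sum_congr rfl fun Q hQ => by
            rw [hcount f₁ h₁ P hm hi Q (Multiset.mem_toFinset.1 hQ), hcount f₂ h₂ P hm hi Q (Multiset.mem_toFinset.1 hQ)]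
      _ = _ := by
          rw [← Finset.mul_sum, ← hdeg P hi, Finset.sum_eq_multiset_sum, Multiset.toFinset_val,
            (hN P hi).dedup]
  · intro P hPm P' hPm' hne
    refine Finset.disjoint_left.2 fun Q hQ hQ' => hne ?_
    exact huniq (hP f₁ P (Multiset.mem_toFinset.1 hPm)).1 (hP f₁ P (Multiset.mem_toFinset.1 hPm)).2
      (hP f₁ P' (Multiset.mem_toFinset.1 hPm')).1 (hP f₁ P' (Multiset.mem_toFinset.1 hPm')).2
      (Multiset.mem_toFinset.1 hQ) (Multiset.mem_toFinset.1 hQ')

end GrothLib.TateThm
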