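import Groth.Agent.Lib.TateThm.Finiteness
import Groth.Agent.Lib.HomFG.Finite

/-!
# Tate's theorem over finite fields
-/

set_option autoImplicit false
set_option linter.all false
set_option backward.isDefEq.respectTransparency false
set_option maxHeartbeats 1000000

universe u

open CategoryTheory MonoidalCategory CartesianMonoidalCategory MonObj GrpObj AlgebraicGeometry AbDual
open scoped TensorProduct

noncomputable section

namespace GrothLib.TateThm

variable {k Ω : Type u} [Field k] [Finite k] [Field Ω] [Algebra k Ω] [IsAlgClosure k Ω] {l : ℕ} [hl : Fact l.Prime]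
variable (hlk : (l : k) ≠ 0)
variable {A B : Over (Spec (CommRingCat.of k))} [GrpObj A] [IsCommMonObj A] [IsProper A.hom]
  [GeometricallyIntegral A.hom] [GrpObj B] [IsCommMonObj B] [IsProper B.hom] [GeometricallyIntegral B.hom]

include hlk

/-- Every stable subspace is the image of a combination of endomorphisms. -/
theorem tateProp : TateProp l Ω A := tateProp_of_finiteness finitenessProp hlk

/-- **Equivariant maps of rational Tate modules are combinations of homomorphisms.** -/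
theorem mem_homSpan_of_comm
    (φ : (ℚ_[l] ⊗[ℤ_[l]] TateMod A l (SGA7.pt Ω)) →ₗ[ℚ_[l]] (ℚ_[l] ⊗[ℤ_[l]] TateMod B l (SGA7.pt Ω)))
    (hφ : ∀ τ : Ω ≃ₐ[k] Ω, φ ∘ₗ galV A l τ = galV B l τ ∘ₗ φ) : φ ∈ homSpan l Ω A B := by
  haveI := isMonHom_one A B
  haveI := isMonHom_one B A
  haveI : IsMonHom (lift (𝟙 A) (1 : A ⟶ B)) := inferInstance
  haveI : IsMonHom (lift (1 : B ⟶ A) (𝟙 B)) := inferInstance
  haveI := isProper_tensor A B
  haveI := Poincare.geometricallyIntegral_tensor A B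
  haveI := isProper_tensor (A ⊗ B) (A ⊗ B)
  haveI := Poincare.geometricallyIntegral_tensor (A ⊗ B) (A ⊗ B)
  let I1 := (tateMapₗ (l := l) (T := SGA7.pt Ω) (lift (𝟙 A) (1 : A ⟶ B))).baseChange ℚ_[l]
  let I2 := (tateMapₗ (l := l) (T := SGA7.pt Ω) (lift (1 : B ⟶ A) (𝟙 B))).baseChange ℚ_[l]
  let P1 := (tateMapₗ (l := l) (T := SGA7.pt Ω) (fst A B)).baseChange ℚ_[l]
  let P2 := (tateMapₗ (l := l) (T := SGA7.pt Ω) (snd A B)).baseChange ℚ_[l]
  have hψ : I2 ∘ₗ φ ∘ₗ P1 ∈ homSpan l Ω (A ⊗ B) (A ⊗ B) := by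
    refine mem_homSpan_of_equivariant hlk (tateProp hlk) (tateProp hlk) _ fun τ => ?_
    have h1 : P1 ∘ₗ galV (A ⊗ B) l τ = galV A l τ ∘ₗ P1 := homSpan_comm (mem_homSpan _) τ
    have h2 : I2 ∘ₗ galV B l τ = galV (A ⊗ B) l τ ∘ₗ I2 := homSpan_comm (mem_homSpan _) τ
    calc (I2 ∘ₗ φ ∘ₗ P1) ∘ₗ galV (A ⊗ B) l τ = I2 ∘ₗ φ ∘ₗ (P1 ∘ₗ galV (A ⊗ B) l τ) := by
          simp only [LinearMap.comp_assoc]
      _ = I2 ∘ₗ (φ ∘ₗ galV A l τ) ∘ₗ P1 := by rw [h1]; simp only [LinearMap.comp_assoc]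
      _ = (I2 ∘ₗ galV B l τ) ∘ₗ φ ∘ₗ P1 := by rw [hφ]; simp only [LinearMap.comp_assoc]
      _ = galV (A ⊗ B) l τ ∘ₗ I2 ∘ₗ φ ∘ₗ P1 := by rw [h2]; simp only [LinearMap.comp_assoc]
  have key : φ = P2 ∘ₗ (I2 ∘ₗ φ ∘ₗ P1) ∘ₗ I1 := by
    have e1 : P1 ∘ₗ I1 = LinearMap.id := by
      rw [← LinearMap.baseChange_comp, tateMapₗ_comp, ← LinearMap.baseChange_id]
      congr 1
      exact LinearMap.ext fun z => TateMod.ext fun n =>
        congrArg Additive.ofMul (by rw [lift_fst]; exact Category.comp_id _)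
    have e2 : P2 ∘ₗ I2 = LinearMap.id := by
      rw [← LinearMap.baseChange_comp, tateMapₗ_comp, ← LinearMap.baseChange_id]
      congr 1
      exact LinearMap.ext fun z => TateMod.ext fun n =>
        congrArg Additive.ofMul (by rw [lift_snd]; exact Category.comp_id _)
    calc φ = (P2 ∘ₗ I2) ∘ₗ φ ∘ₗ (P1 ∘ₗ I1) := by rw [e1, e2, LinearMap.comp_id, LinearMap.id_comp]
      _ = _ := by simp only [LinearMap.comp_assoc]
  rw [key]
  exact comp_mem_homSpan (comp_mem_homSpan (mem_homSpan _) hψ) (mem_homSpan _)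

omit hlk [Finite k] [IsAlgClosure k Ω] [IsProper A.hom] [GeometricallyIntegral A.hom] in
theorem baseChange_injective [IsAlgClosed Ω] {u v : TateMod A l (SGA7.pt Ω) →ₗ[ℤ_[l]] TateMod B l (SGA7.pt Ω)}
    (hfin : Module.Finite ℤ_[l] (TateMod B l (SGA7.pt Ω)))
    (h : u.baseChange ℚ_[l] = v.baseChange ℚ_[l]) : u = v := by
  haveI : Module.IsTorsionFree ℤ_[l] (TateMod B l (SGA7.pt Ω)) :=
    AbTors.instIsTorsionFree (A := B) (σ := Spec.map (CommRingCat.ofHom (algebraMap k Ω))) (l := l)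
  haveI := hfin
  haveI : Module.Free ℤ_[l] (TateMod B l (SGA7.pt Ω)) := Module.free_of_finite_type_torsion_free'
  let b := Module.Free.chooseBasis ℤ_[l] (TateMod B l (SGA7.pt Ω))
  refine LinearMap.ext fun x => b.repr.injective (Finsupp.ext fun i => ?_)
  have h1 := LinearMap.congr_fun h ((1 : ℚ_[l]) ⊗ₜ[ℤ_[l]] x)
  rw [LinearMap.baseChange_tmul, LinearMap.baseChange_tmul] at h1
  have h2 := congrArg (fun t => (b.baseChange ℚ_[l]).repr t i) h1
  simp only [Module.Basis.baseChange_repr_tmul, Algebra.smul_def, _root_.mul_one] at h2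
  exact (FaithfulSMul.algebraMap_injective ℤ_[l] ℚ_[l]) h2

/-- **Tate's theorem**: equivariant maps of Tate modules are combinations of homomorphisms. -/
theorem mem_span_tateMap (u : TateMod A l (SGA7.pt Ω) →ₗ[ℤ_[l]] TateMod B l (SGA7.pt Ω))
    (hu : ∀ τ : Ω ≃ₐ[k] Ω, u ∘ₗ galT A l τ = galT B l τ ∘ₗ u) :
    u ∈ Submodule.span ℤ_[l] (Set.range (EndAV.Hom.tateMap (A := A) (B := B) l (SGA7.pt Ω))) := by
  haveI : IsAlgClosed Ω := IsAlgClosure.isAlgClosed k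
  have hfin := AbTors.module_finite B (Spec.map (CommRingCat.ofHom (algebraMap k Ω))) l hlk
  let M := Submodule.span ℤ_[l] (Set.range (EndAV.Hom.tateMap (A := A) (B := B) l (SGA7.pt Ω)))
  have hmem := mem_homSpan_of_comm hlk (u.baseChange ℚ_[l]) fun τ => by
    rw [galV, galV, ← LinearMap.baseChange_comp, ← LinearMap.baseChange_comp, hu]
  obtain ⟨c, v, hv, hc, hcv⟩ : ∃ (c : ℤ_[l]) (v : TateMod A l (SGA7.pt Ω) →ₗ[ℤ_[l]] TateMod B l (SGA7.pt Ω)),
      v ∈ M ∧ c ≠ 0 ∧ (c : ℚ_[l]) • u.baseChange ℚ_[l] = v.baseChange ℚ_[l] := by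
    suffices ∀ ψ ∈ homSpan l Ω A B, ∃ (c : ℤ_[l]) (v : TateMod A l (SGA7.pt Ω) →ₗ[ℤ_[l]] TateMod B l (SGA7.pt Ω)),
        v ∈ M ∧ c ≠ 0 ∧ (c : ℚ_[l]) • ψ = v.baseChange ℚ_[l] from this _ hmem
    intro ψ hψ
    induction hψ using Submodule.span_induction with
    | mem x hx =>
      obtain ⟨f, hf, rfl⟩ := hx
      exact ⟨1, _, Submodule.subset_span ⟨EndAV.Hom.of f, rfl⟩, one_ne_zero, by rw [PadicInt.coe_one, one_smul]; rfl⟩
    | zero => exact ⟨1, 0, zero_mem _, one_ne_zero, by rw [smul_zero, LinearMap.baseChange_zero]⟩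
    | add x y _ _ hx hy =>
      obtain ⟨c, v, hv, hc, hcv⟩ := hx
      obtain ⟨d, w, hw, hd, hdw⟩ := hy
      refine ⟨c * d, d • v + c • w, add_mem (M.smul_mem d hv) (M.smul_mem c hw), mul_ne_zero hc hd, ?_⟩
      rw [LinearMap.baseChange_add, LinearMap.baseChange_smul, LinearMap.baseChange_smul, ← hcv, ← hdw,
        ← IsScalarTower.algebraMap_smul ℚ_[l] d, ← IsScalarTower.algebraMap_smul ℚ_[l] c, PadicInt.coe_mul,
        smul_add, smul_smul, smul_smul]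
      show ((c : ℚ_[l]) * d) • x + ((c : ℚ_[l]) * d) • y = ((d : ℚ_[l]) * c) • x + ((c : ℚ_[l]) * d) • y
      rw [mul_comm (c : ℚ_[l]) (d : ℚ_[l])]
    | smul a x _ hx =>
      obtain ⟨c, v, hv, hc, hcv⟩ := hx
      obtain ⟨⟨p, ⟨d, hd⟩⟩, hpd⟩ := IsLocalization.surj (nonZeroDivisors ℤ_[l]) a
      change a * (d : ℚ_[l]) = (p : ℚ_[l]) at hpd
      refine ⟨c * d, p • v, M.smul_mem p hv, mul_ne_zero hc (nonZeroDivisors.ne_zero hd), ?_⟩
      rw [LinearMap.baseChange_smul, ← hcv, ← IsScalarTower.algebraMap_smul ℚ_[l] p, PadicInt.coe_mul,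
        smul_smul, smul_smul]
      congr 1
      show (c : ℚ_[l]) * d * a = (p : ℚ_[l]) * c
      rw [← hpd]; ring
  have hcu : c • u = v := baseChange_injective hfin (by
    rw [LinearMap.baseChange_smul, ← IsScalarTower.algebraMap_smul ℚ_[l] c, ← hcv]; rfl)
  refine HomFG.mem_span_of_pow_smul_mem (A := A) (B := B) (Spec.map (CommRingCat.ofHom (algebraMap k Ω))) l hlk
    c.valuation u ?_
  have h2 : (PadicInt.unitCoeff hc)⁻¹.1 • (c • u) ∈ M := M.smul_mem _ (hcu ▸ hv)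
  rw [smul_smul] at h2
  have h3 : ((PadicInt.unitCoeff hc)⁻¹.1 : ℤ_[l]) * c = (l : ℤ_[l]) ^ c.valuation := by
    conv_lhs => arg 2; rw [PadicInt.unitCoeff_spec hc]
    rw [← _root_.mul_assoc, Units.inv_mul, _root_.one_mul]
  rw [h3] at h2
  exact h2

end GrothLib.TateThm
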