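import Groth.Agent.Lib.TateThm.Isogeny
import Groth.Agent.Lib.TateThm.KerPull
import Groth.Agent.Lib.Poincare.KLTorsion
import Groth.Agent.Lib.Poincare.PicDescent

/-!
# Descent of a birigidified class along a quotient by orthogonal points
-/

set_option autoImplicit false
set_option linter.all false
set_option backward.isDefEq.respectTransparency false
set_option maxHeartbeats 1000000

universe u

open CategoryTheory CategoryTheory.Limits AlgebraicGeometry Opposite TopologicalSpace
open MonoidalCategory CartesianMonoidalCategory MonObj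
open GrothLib.Ample GrothLib.Cube

noncomputable section

namespace GrothLib.TateThm

variable {k Ω : Type u} [Field k] [Field Ω] [Algebra k Ω] [IsAlgClosure k Ω]

/-- The isogeny with a given Galois stable kernel, together with its kernel scheme. -/
theorem exists_isogeny_ker {X : Over (Spec (CommRingCat.of k))} [GrpObj X] [IsCommMonObj X] [IsProper X.hom]
    [GeometricallyIntegral X.hom] {n : ℕ} (hn : (n : k) ≠ 0) (G : Subgroup (SGA7.pt Ω ⟶ X))
    (hG : ∀ a ∈ G, a ^ n = 1) (hst : ∀ (τ : Ω ≃ₐ[k] Ω), ∀ a ∈ G, SGA7.galAct τ a ∈ G) :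
    ∃ (N Y : Over (Spec (CommRingCat.of k))) (_ : GrpObj N) (_ : GrpObj Y) (_ : IsCommMonObj Y) (i : N ⟶ X)
      (q : X ⟶ Y) (_ : IsMonHom q) (v : Y ⟶ X) (_ : IsMonHom v), IsFinite N.hom ∧ Etale N.hom ∧ IsProper Y.hom ∧
        GeometricallyIntegral Y.hom ∧ IsFinite q.left ∧ Flat q.left ∧
        Surjective q.left ∧ q ≫ v = (𝟙 X) ^ n ∧ v ≫ q = (𝟙 Y) ^ n ∧
        (∀ a : SGA7.pt Ω ⟶ X, a ≫ q = 1 ↔ a ∈ G) ∧
        (∀ b : SGA7.pt Ω ⟶ N, b ≫ i ∈ G) ∧
        ∀ {T : Over (Spec (CommRingCat.of k))} (a : T ⟶ X), a ≫ q = 1 → ∃ b : T ⟶ N, b ≫ i = a := by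
  obtain ⟨N, strN, i, hi, hfin, het, hmono, hin, hpts⟩ := exists_subgroup_scheme hn G hG hst
  haveI := hi
  haveI := hfin
  haveI := hmono
  obtain ⟨Y, strY, hYc, q, hYp, hYg, hqm, hqf, hqfl, hqs, hker⟩ := exists_quotient X i
  haveI := hYc; haveI := hYp; haveI := hYg; haveI := hqm; haveI := hqf; haveI := hqfl; haveI := hqs
  haveI : LocallyOfFinitePresentation q.left := by
    haveI : IsLocallyNoetherian Y.left := LocallyOfFiniteType.isLocallyNoetherian Y.hom
    infer_instance
  obtain ⟨v, hv⟩ := GrothLib.DiagGrp.exists_desc q ((𝟙 X : X ⟶ X) ^ n) fun T a a' h => by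
    obtain ⟨b, hb⟩ := GrothLib.GrpDeligne.exists_lift_ker hker (a * a'⁻¹)
      (by rw [MonObj.mul_comp, GrpObj.inv_comp, h, _root_.mul_inv_cancel])
    rw [AbTors.pow_comp_eq, AbTors.pow_comp_eq, ← mul_inv_eq_one, ← inv_pow, ← mul_pow, ← hb,
      ← MonObj.comp_pow, hin, MonObj.comp_one]
  haveI : IsMonHom ((𝟙 X : X ⟶ X) ^ n) := GrothLib.GrpDeligne.isMonHom_pow (𝟙 X) n
  haveI : GeometricallyConnected Y.hom := Rigidity.geometricallyConnected_of_geometricallyIrreducible Y.hom
  haveI : Flat Y.hom := GrothLib.DiagGrp.flat_of_field _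
  haveI : IsMonHom v := Rigidity.isMonHom_of_one_comp' v (by
    rw [← IsMonHom.one_hom q, Category.assoc, hv, IsMonHom.one_hom ((𝟙 X : X ⟶ X) ^ n)])
  refine ⟨N, Y, strN, strY, hYc, i, q, inferInstance, v, inferInstance, inferInstance, het, inferInstance,
    inferInstance, inferInstance, inferInstance, inferInstance, hv, ?_, fun a => ?_,
    fun b => (hpts _).2 ⟨b, rfl⟩, fun a ha => GrothLib.GrpDeligne.exists_lift_ker hker a ha⟩
  · haveI : Epi q.left := Flat.epi_of_flat_of_surjective _
    haveI : Epi q := Functor.epi_of_epi_map (Over.forget _) (inferInstanceAs (Epi q.left))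
    rw [← cancel_epi q, ← Category.assoc, hv, MonObj.pow_comp, Category.id_comp, MonObj.comp_pow, Category.comp_id]
  · rw [hpts a]
    constructor
    · exact GrothLib.GrpDeligne.exists_lift_ker hker a
    · rintro ⟨b, rfl⟩
      rw [Category.assoc, GrothLib.GrpDeligne.ker_comp_eq_one hker, MonObj.comp_one]

/-- A birigidified class trivial at the geometric points of an étale scheme is trivial along it. -/
theorem pull_eq_one_of_points {A X N : Over (Spec (CommRingCat.of k))} [GrpObj A] [GrpObj X] [IsProper A.hom]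
    [GeometricallyIntegral A.hom] [IsFinite N.hom] [Etale N.hom] {ξ : Pic (A ⊗ X).left} (hξ : KL.IsBirigid ξ)
    (i : N ⟶ X) (h : ∀ b : SGA7.pt Ω ⟶ N, pull (A ◁ (b ≫ i)).left ξ = 1) : pull (A ◁ i).left ξ = 1 := by
  haveI : IsAlgClosed Ω := IsAlgClosure.isAlgClosed k
  haveI : IsLocallyNoetherian N.left := LocallyOfFiniteType.isLocallyNoetherian N.hom
  haveI : Smooth N.hom := inferInstance
  haveI : IsReduced N.left := RedSmooth.isReduced_of_smooth N.hom
  let p := (snd A N).left
  haveI : IsProper p := isProper_snd_left A N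
  haveI : Flat p := flat_snd_left A N
  haveI : GeometricallyIntegral p := inferInstanceAs (GeometricallyIntegral (pullback.snd A.hom N.hom))
  haveI : GeometricallyConnected p := Rigidity.geometricallyConnected_of_geometricallyIrreducible _
  haveI : Finite ↥N.left := by
    rw [← Set.finite_univ_iff, show (Set.univ : Set ↥N.left) = N.hom ⁻¹' {IsLocalRing.closedPoint k} from
      (Set.eq_univ_of_forall fun x => Subsingleton.elim (α := ↥(Spec (CommRingCat.of k))) _ _).symm]
    exact IsFinite.finite_preimage_singleton N.hom _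
  haveI : JacobsonSpace N.left := LocallyOfFiniteType.jacobsonSpace (Y := Spec _) N.hom
  haveI : DiscreteTopology N.left := inferInstance
  let x := pull (A ◁ i).left ξ
  have hfib : ∀ y : N.left, pull (p.fiberι y) x = 1 := by
    intro y
    obtain ⟨ι'', b, hb⟩ := AbTors.exists_geomPt (X := N) (Spec.map (CommRingCat.ofHom (algebraMap k Ω))) y
      (isClosed_discrete _)
    let T : Over (Spec (CommRingCat.of k)) := Over.mk (N.left.fromSpecResidueField y ≫ N.hom)
    let z : T ⟶ N := Over.homMk (N.left.fromSpecResidueField y) rfl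
    let s : SGA7.pt Ω ⟶ T := Over.homMk (Spec.map ι'') (by
      show Spec.map ι'' ≫ N.left.fromSpecResidueField y ≫ N.hom = _
      rw [← Category.assoc, ← hb]
      exact Over.w b)
    have hs : s ≫ z = b := Over.OverMorphism.ext hb.symm
    have hz : pull (A ◁ z).left x = 1 := by
      letI : Algebra (N.left.residueField y) Ω := ι''.hom.toAlgebra
      haveI : IsProper (snd A T).left := isProper_snd_left A T
      haveI : GeometricallyIntegral (snd A T).left := inferInstanceAs (GeometricallyIntegral (pullback.snd A.hom T.hom))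
      refine KL.eq_one_of_pull_field (K := N.left.residueField y) (K' := Ω) (p := (snd A T).left)
        (g := (A ◁ s).left) (p' := (snd A (SGA7.pt Ω)).left) (Cube.isPullback_whiskerLeft_left A s) _ ?_
      simp only [x]
      rw [pull_pull_over, pull_pull_over, ← MonoidalCategory.whiskerLeft_comp, ← MonoidalCategory.whiskerLeft_comp,
        hs]
      exact h b
    let j : p.fiber y ⟶ (A ⊗ T).left := pullback.lift (p.fiberι y ≫ (fst A N).left)
      (p.fiberToSpecResidueField y) (by
        show (p.fiberι y ≫ (fst A N).left) ≫ A.hom =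
          p.fiberToSpecResidueField y ≫ N.left.fromSpecResidueField y ≫ N.hom
        rw [← Category.assoc (p.fiberToSpecResidueField _), ← p.fiber_fac, Category.assoc, Category.assoc,
          Over.w (fst A N), Over.w (snd A N)])
    have hj : p.fiberι y = j ≫ (A ◁ z).left := by
      apply pullback.hom_ext
      · show p.fiberι y ≫ (fst A N).left = (j ≫ (A ◁ z).left) ≫ (fst A N).left
        rw [Category.assoc, ← Over.comp_left, whiskerLeft_fst]
        exact (pullback.lift_fst _ _ _).symm
      · show p.fiberι y ≫ (snd A N).left = (j ≫ (A ◁ z).left) ≫ (snd A N).left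
        rw [Category.assoc, ← Over.comp_left, whiskerLeft_snd, Over.comp_left, ← Category.assoc]
        erw [pullback.lift_snd]
        exact p.fiber_fac _
    rw [hj, ← pull_comp, hz, map_one]
  obtain ⟨c, hc⟩ := Quotient.exists_rep x
  have hc' : x = cls c := hc.symm
  obtain ⟨M, hM, ⟨e⟩⟩ := Seesaw26.exists_base p (Seesaw26.finrank_fiber_functions_eq_one p) (c.twist 1)
    (c.isInvertible_twist 1) fun y => by
      obtain ⟨g⟩ := c.nonempty_pullback_twist (p.fiberι y) 1
      have h1 := hfib y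
      rw [hc', pull_cls, cls_eq_one_iff] at h1
      obtain ⟨t⟩ := (triv_iff _).1 h1
      exact ⟨g ≪≫ t⟩
  have h2 : x = pull (snd A N).left (clsMod hM) := by
    rw [hc', ← clsMod_eq (c.isInvertible_twist 1) (Iso.refl _), ← clsMod_pullback (snd A N).left hM]
    exact ((clsMod_eq_iff _ _).2 ⟨e⟩).symm
  have h3 : pull (lift (1 : N ⟶ A) (𝟙 N)).left x = 1 := by
    show pull _ (pull (A ◁ i).left ξ) = 1
    rw [pull_pull_over, show lift (1 : N ⟶ A) (𝟙 N) ≫ A ◁ i = i ≫ lift (1 : X ⟶ A) (𝟙 X) by
      apply CartesianMonoidalCategory.hom_ext <;> simp [MonObj.comp_one], ← pull_pull_over, hξ.1, map_one]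
  rw [h2, pull_pull_over, lift_snd, pull_over_id] at h3
  show x = 1
  rw [h2, h3, map_one]

/-- **Descent of a birigidified class along the quotient by orthogonal points.** -/
theorem exists_pair_descend {A X : Over (Spec (CommRingCat.of k))} [GrpObj A] [IsCommMonObj A] [IsProper A.hom]
    [GeometricallyIntegral A.hom] [GrpObj X] [IsCommMonObj X] [IsProper X.hom] [GeometricallyIntegral X.hom]
    {ξ : Pic (A ⊗ X).left} (hξ : KL.IsBirigid ξ) {n : ℕ} (hn : (n : k) ≠ 0) (G : Subgroup (SGA7.pt Ω ⟶ X))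
    (hG : ∀ a ∈ G, a ^ n = 1) (hst : ∀ (τ : Ω ≃ₐ[k] Ω), ∀ a ∈ G, SGA7.galAct τ a ∈ G)
    (hperp : ∀ a ∈ G, pull (A ◁ a).left ξ = 1) :
    ∃ (Y : Over (Spec (CommRingCat.of k))) (_ : GrpObj Y) (_ : IsCommMonObj Y) (q : X ⟶ Y) (_ : IsMonHom q)
      (v : Y ⟶ X) (_ : IsMonHom v) (P : Pic (A ⊗ Y).left), IsProper Y.hom ∧ GeometricallyIntegral Y.hom ∧
        IsFinite q.left ∧ Flat q.left ∧ Surjective q.left ∧ q ≫ v = (𝟙 X) ^ n ∧ v ≫ q = (𝟙 Y) ^ n ∧
        (∀ a : SGA7.pt Ω ⟶ X, a ≫ q = 1 ↔ a ∈ G) ∧ pull (A ◁ q).left P = ξ := by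
  obtain ⟨N, Y, strN, strY, hYc, i, q, hqm, v, hvm, hNf, hNe, hYp, hYg, hqf, hqfl, hqs, h1, h2, hpts, hiG, hfac⟩ :=
    exists_isogeny_ker hn G hG hst
  haveI := hqm; haveI := hNf; haveI := hNe; haveI := hYp; haveI := hYg; haveI := hqf; haveI := hqfl; haveI := hqs
  refine ⟨Y, strY, hYc, q, hqm, v, hvm, ?_⟩
  have hN : pull (A ◁ i).left ξ = 1 := pull_eq_one_of_points hξ i fun b => hperp _ (hiG b)
  have hcongr : ∀ {T : Over (Spec (CommRingCat.of k))} (a b : T ⟶ X), a ≫ q = b ≫ q →
      pull (A ◁ a).left ξ = pull (A ◁ b).left ξ := by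
    intro T a b h
    obtain ⟨c, hc⟩ := hfac (a * b⁻¹) (by rw [MonObj.mul_comp, GrpObj.inv_comp, h, _root_.mul_inv_cancel])
    have e : ∀ a : T ⟶ X, pull (A ◁ a).left ξ = KL.pairing ξ (fst A T) (snd A T ≫ a) := fun a => by
      rw [KL.pairing, show lift (fst A T) (snd A T ≫ a) = A ◁ a by apply CartesianMonoidalCategory.hom_ext <;> simp]
    rw [show a = (c ≫ i) * b by rw [hc, inv_mul_cancel_right], e, MonObj.comp_mul, KL.pairing_mul_right hξ, ← e,
      ← e, MonoidalCategory.whiskerLeft_comp, ← pull_pull_over, hN, map_one, _root_.one_mul]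
  haveI : IsLocallyNoetherian Y.left := LocallyOfFiniteType.isLocallyNoetherian Y.hom
  haveI : LocallyOfFinitePresentation q.left := inferInstance
  haveI : IsProper (snd A Y).left := inferInstanceAs (IsProper (pullback.snd A.hom Y.hom))
  haveI : Flat (snd A Y).left := flat_snd_left A Y
  haveI : GeometricallyIntegral (snd A Y).left :=
    inferInstanceAs (GeometricallyIntegral (pullback.snd A.hom Y.hom))
  haveI : LocallyOfFinitePresentation (snd A Y).left := inferInstance
  let σ : Y ⟶ A ⊗ Y := lift (1 : Y ⟶ A) (𝟙 Y)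
  let σX : X ⟶ A ⊗ X := lift (1 : X ⟶ A) (𝟙 X)
  let f := (snd A Y).left
  have hm : σ.left ≫ f = 𝟙 Y.left := congrArg CategoryTheory.Over.Hom.left (lift_snd (1 : Y ⟶ A) (𝟙 Y))
  have H : IsPullback (A ◁ q).left (snd A X).left f q.left := Cube.isPullback_whiskerLeft_left A q
  have hf : ∀ {T : Scheme.{u}} (g : T ⟶ Y.left),
      Function.Surjective (pullback.snd f g).appTop := fun g =>
    (Seesaw26.bijective_app_baseChange f (Seesaw26.h0_of_geometricallyIntegral f) g ⊤).2
  let e := H.isoPullback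
  have he1 : e.inv ≫ (A ◁ q).left = pullback.fst f q.left := H.isoPullback_inv_fst
  have he2 : e.inv ≫ (snd A X).left = pullback.snd f q.left := H.isoPullback_inv_snd
  have hσX : PicDescent.sec f σ.left hm q.left ≫ e.inv = σX.left := by
    refine H.hom_ext ?_ ?_
    · rw [Category.assoc, he1]
      refine (pullback.lift_fst _ _ _).trans ?_
      show (q ≫ σ).left = (σX ≫ A ◁ q).left
      congr 1
      apply CartesianMonoidalCategory.hom_ext <;> simp [σ, σX, MonObj.comp_one]
    · rw [Category.assoc, he2]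
      exact (pullback.lift_snd _ _ _).trans
        (congrArg CategoryTheory.Over.Hom.left (lift_snd (1 : X ⟶ A) (𝟙 X))).symm
  have hx : pull (PicDescent.sec f σ.left hm q.left) (pull e.inv ξ) = 1 := by
    rw [pull_comp, hσX]
    exact hξ.1
  let r := pullback.fst q.left q.left ≫ q.left
  let T : Over (Spec (CommRingCat.of k)) := Over.mk (r ≫ Y.hom)
  let a : T ⟶ X := Over.homMk (pullback.fst q.left q.left) (by
    show _ = (_ ≫ _) ≫ _
    rw [Category.assoc, Over.w q])
  let b : T ⟶ X := Over.homMk (pullback.snd q.left q.left) (by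
    show _ = (_ ≫ _) ≫ _
    rw [pullback.condition, Category.assoc, Over.w q])
  have hab : a ≫ q = b ≫ q := Over.OverMorphism.ext pullback.condition
  let jT : pullback f r ⟶ (A ⊗ T).left :=
    pullback.lift (f := A.hom) (g := T.hom) (pullback.fst f r ≫ (fst A Y).left) (pullback.snd f r) (by
      rw [Category.assoc, Over.w (fst A Y), ← Over.w (snd A Y), ← Category.assoc, pullback.condition]
      exact Category.assoc _ _ _)
  have hjT1 : jT ≫ (fst A T).left = pullback.fst f r ≫ (fst A Y).left := pullback.lift_fst _ _ _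
  have hjT2 : jT ≫ (snd A T).left = pullback.snd f r := pullback.lift_snd _ _ _
  have key : ∀ (c : T ⟶ X) (q₀ : pullback f r ⟶ pullback f q.left),
      q₀ ≫ pullback.fst f q.left = pullback.fst f r → q₀ ≫ pullback.snd f q.left = pullback.snd f r ≫ c.left →
      q₀ ≫ e.inv = jT ≫ (A ◁ c).left := by
    intro c q₀ hq1 hq2
    refine H.hom_ext ?_ ?_
    · rw [Category.assoc, he1, hq1, Category.assoc]
      show pullback.fst f r = jT ≫ (A ◁ c ≫ A ◁ q).left
      refine pullback.hom_ext (f := A.hom) (g := Y.hom) ?_ ?_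
      · rw [Category.assoc]
        show pullback.fst f r ≫ (fst A Y).left = jT ≫ ((A ◁ c ≫ A ◁ q) ≫ fst A Y).left
        rw [Category.assoc, whiskerLeft_fst, whiskerLeft_fst, hjT1]
      · rw [Category.assoc]
        show pullback.fst f r ≫ (snd A Y).left = jT ≫ ((A ◁ c ≫ A ◁ q) ≫ snd A Y).left
        rw [Category.assoc, whiskerLeft_snd, ← Category.assoc (A ◁ c), whiskerLeft_snd, Over.comp_left,
          Over.comp_left, ← Category.assoc, ← Category.assoc, hjT2, ← hq1, Category.assoc q₀]
        exact (congrArg (q₀ ≫ ·) pullback.condition).trans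
          ((Category.assoc _ _ _).symm.trans (congrArg (· ≫ q.left) hq2))
    · rw [Category.assoc, he2, hq2, Category.assoc]
      show _ = jT ≫ (A ◁ c ≫ snd A X).left
      rw [whiskerLeft_snd, Over.comp_left, ← Category.assoc, hjT2]
  have heq : pull (PicDescent.q₁ f q.left) (pull e.inv ξ) = pull (PicDescent.q₂ f q.left) (pull e.inv ξ) := by
    rw [pull_comp, pull_comp, key a _ (PicDescent.q₁_fst _ _) (pullback.lift_snd _ _ _),
      key b _ (PicDescent.q₂_fst _ _) (pullback.lift_snd _ _ _), ← pull_comp, ← pull_comp,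
      hcongr a b hab]
  obtain ⟨P, hP⟩ := PicDescent.exists_descend f σ.left hm q.left hf _ hx heq
  have hP' : pull (A ◁ q).left P = ξ := by
    have h := congrArg (pull e.hom) hP
    rwa [pull_comp, pull_comp, H.isoPullback_hom_fst, Iso.hom_inv_id, pull_id] at h
  exact ⟨P, hYp, hYg, hqf, hqfl, hqs, h1, h2, hpts, hP'⟩

end GrothLib.TateThm
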