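import Groth.Agent.Lib.TateThm.Quad
import Groth.Agent.Lib.TateThm.PairDescend
import Groth.Agent.Lib.TateThm.Core
import Groth.Agent.Lib.DegPoly.KerCount
import Groth.Agent.Lib.DegPoly.BaseChange
import Groth.Agent.Lib.AbTors.Degree
import Groth.Agent.Lib.EulerPull.Abelian
import Groth.Agent.Lib.Poincare.MumfordEuler
import Groth.Agent.Lib.Poincare.ExactUpTo
import Groth.Agent.Lib.CurveMult.RelNef
import Groth.Agent.Lib.Ample25.FiniteSurjective
import Groth.Agent.Lib.RLpsi8.AmpleExt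
import Mathlib.NumberTheory.SumFourSquares

/-!
# Zarhin's construction
-/

set_option autoImplicit false
set_option linter.all false
set_option backward.isDefEq.respectTransparency false
set_option maxHeartbeats 1000000

universe u

open CategoryTheory CategoryTheory.Limits AlgebraicGeometry Opposite TopologicalSpace
open MonoidalCategory CartesianMonoidalCategory MonObj
open GrothLib.Ample GrothLib.Cube
open GrothLib.MumfordEuler (E E_eq)

noncomputable section

namespace GrothLib.TateThm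

variable {k : Type u} [Field k]

theorem isProper_tensor (A B : Over (Spec (CommRingCat.of k))) [IsProper A.hom] [IsProper B.hom] :
    IsProper (A ⊗ B).hom :=
  inferInstanceAs (IsProper (pullback.fst A.hom B.hom ≫ A.hom))

theorem isProper_P4 (A : Over (Spec (CommRingCat.of k))) [IsProper A.hom] : IsProper (P4 A).hom := by
  haveI := isProper_tensor A A
  exact isProper_tensor (A ⊗ A) (A ⊗ A)

theorem geometricallyIntegral_P4 (A : Over (Spec (CommRingCat.of k))) [IsProper A.hom] [GeometricallyIntegral A.hom] :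
    GeometricallyIntegral (P4 A).hom := by
  haveI := isProper_tensor A A
  haveI := Poincare.geometricallyIntegral_tensor A A
  exact Poincare.geometricallyIntegral_tensor (A ⊗ A) (A ⊗ A)

theorem dim_P4 (A : Over (Spec (CommRingCat.of k))) [IsProper A.hom] [GeometricallyIntegral A.hom] {g : ℕ}
    (hg : topologicalKrullDim A.left = (g : WithBot ℕ∞)) :
    topologicalKrullDim (P4 A).left = ((4 * g : ℕ) : WithBot ℕ∞) := by
  haveI := isProper_tensor A A
  haveI := Poincare.geometricallyIntegral_tensor A A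
  rw [Poincare.dim_tensor (A ⊗ A) (A ⊗ A) (Poincare.dim_tensor A A hg hg) (Poincare.dim_tensor A A hg hg)]
  congr 2
  ring

/-- A homomorphism with an inverse up to a nonzero multiple is finite, flat and surjective. -/
theorem isogeny_props {A B : Over (Spec (CommRingCat.of k))} [GrpObj A] [IsProper A.hom] [GeometricallyIntegral A.hom]
    [GrpObj B] [IsProper B.hom] [GeometricallyIntegral B.hom] {n : ℕ} (hn : n ≠ 0) (f : A ⟶ B) [IsMonHom f]
    (h : B ⟶ A) (h1 : f ≫ h = (𝟙 A) ^ n) (h2 : h ≫ f = (𝟙 B) ^ n) :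
    IsFinite f.left ∧ Flat f.left ∧ Surjective f.left := by
  haveI hf : IsFinite (f.left ≫ h.left) := by rw [← Over.comp_left, h1]; exact isFinite_pow A hn
  haveI : IsSeparated h.left := by
    haveI : IsSeparated (h.left ≫ A.hom) := by rw [Over.w]; infer_instance
    exact IsSeparated.of_comp h.left A.hom
  haveI : IsFinite f.left := IsFinite.of_comp f.left h.left
  haveI hs : Surjective (h.left ≫ f.left) := by rw [← Over.comp_left, h2]; exact surjective_pow B hn
  haveI : Surjective f.left := Surjective.of_comp h.left f.left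
  haveI : IsIntegral B.left := GeometricallyIntegral.isIntegral_of_subsingleton B.hom
  exact ⟨inferInstance, GrpSchField.flat_hom f, inferInstance⟩

/-- A class of an ample module. -/
def AmpleCls {Y : Scheme.{u}} (z : Pic Y) : Prop := ∃ L : Y.Modules, HasCls L z ∧ CohB1.IsAmple L

theorem AmpleCls.box {A B : Over (Spec (CommRingCat.of k))} {x : Pic A.left} {y : Pic B.left} (hx : AmpleCls x)
    (hy : AmpleCls y) : AmpleCls (pull (fst A B).left x * pull (snd A B).left y) := by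
  obtain ⟨L, hL, hLa⟩ := hx
  obtain ⟨N, hN, hNa⟩ := hy
  exact ⟨_, (hL.pullback _).tensor (hN.pullback _), RLpsi8.isAmple_externalTensor A.hom B.hom L N hLa hNa⟩

theorem AmpleCls.pull {Y Y' : Scheme.{u}} {z : Pic Y} (f : Y' ⟶ Y) [IsAffineHom f] (hz : AmpleCls z) :
    AmpleCls (Cube.pull f z) := by
  obtain ⟨L, hL, hLa⟩ := hz
  exact ⟨_, hL.pullback f, Ample.isAmple_pullback_of_isAffineHom f hLa⟩

theorem AmpleCls.of_pull {Y Y' : Scheme.{u}} [IsIntegral Y] {f : Y ⟶ Spec (CommRingCat.of k)} [IsProper f]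
    (p : Y' ⟶ Y) [IsFinite p] [Surjective p] {z : Pic Y} (h : AmpleCls (Cube.pull p z)) : AmpleCls z := by
  obtain ⟨L, hL, hLa⟩ := h
  letI : Y.Over (Spec (CommRingCat.of k)) := ⟨f⟩
  haveI : IsProper (Y ↘ Spec (CommRingCat.of k)) := ‹IsProper f›
  letI : Y'.Over (Spec (CommRingCat.of k)) := ⟨p ≫ f⟩
  obtain ⟨i⟩ := hL.iso ((Index.hasCls_rep z).pullback p) rfl
  exact ⟨_, Index.hasCls_rep z, Ample25.isAmple_of_pullback_finite_surjective k p (Index.hasCls_rep z).choose
    ((Ample.isAmple_iff_of_iso i).1 hLa)⟩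

theorem E_pull {A B : Over (Spec (CommRingCat.of k))} [GrpObj A] [GrpObj B] [IsProper A.hom]
    [GeometricallyIntegral A.hom] [IsProper B.hom] [GeometricallyIntegral B.hom] (f : A ⟶ B) [IsFinite f.left]
    [Flat f.left] (d : ℕ) (hd : ∀ y : B.left, f.left.finrank y = d) (z : Pic B.left) :
    E A (pull f.left z) = (d : ℤ) * E B z := by
  haveI : IsLocallyNoetherian B.left := LocallyOfFiniteType.isLocallyNoetherian B.hom
  have h := Index.hasCls_rep z
  rw [← E_eq (h.pullback f.left), ← E_eq h]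
  exact EulerPull.euler_pullback f d hd _ (Euler.isCoh_of_isInvertible h.choose)

theorem E_pull_iso {A B : Over (Spec (CommRingCat.of k))} (f : A ⟶ B) [IsIso f] [IsProper B.hom] (z : Pic B.left) :
    E A (pull f.left z) = E B z := by
  haveI : IsIso f.left := inferInstanceAs (IsIso ((Over.forget _).map f))
  haveI : IsLocallyNoetherian B.left := LocallyOfFiniteType.isLocallyNoetherian B.hom
  have h := Index.hasCls_rep z
  rw [← E_eq (h.pullback f.left), ← E_eq h]
  haveI := (Euler.isCoh_of_isInvertible h.choose).1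
  letI : A.left.Over (Spec (CommRingCat.of k)) := ⟨A.hom⟩
  letI : B.left.Over (Spec (CommRingCat.of k)) := ⟨B.hom⟩
  exact CurveMult.RelNef.euler_pullback_iso (K := k) f.left (Over.w f) _

variable {X : Over (Spec (CommRingCat.of k))} [GrpObj X] [IsCommMonObj X] [IsProper X.hom]
  [GeometricallyIntegral X.hom]

/-- The coordinates on the eightfold power. -/
def xp (X : Over (Spec (CommRingCat.of k))) (i : Fin 4) : P4 X ⊗ P4 X ⟶ X := fst (P4 X) (P4 X) ≫ pr4 X i

/-- The last four coordinates on the eightfold power. -/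
def yp (X : Over (Spec (CommRingCat.of k))) (i : Fin 4) : P4 X ⊗ P4 X ⟶ X := snd (P4 X) (P4 X) ≫ pr4 X i

/-- The sum of a class over the eight coordinates. -/
def cls8 (z : Pic X.left) : Pic (P4 X ⊗ P4 X).left :=
  (∏ i, pull (xp X i).left z) * ∏ i, pull (yp X i).left z

theorem ampleCls_cls8 {z : Pic X.left} (hz : AmpleCls z) : AmpleCls (cls8 z) := by
  have h := ((hz.box hz).box (hz.box hz)).box ((hz.box hz).box (hz.box hz))
  simp only [map_mul, pull_pull_over] at h
  simp only [cls8, Fin.prod_univ_four, xp, yp]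
  convert h using 1
  simp only [pr4, Matrix.cons_val_zero, Matrix.cons_val_one, Matrix.cons_val_two, Matrix.cons_val_three,
    Matrix.tail_cons, Matrix.head_cons, Category.assoc, _root_.mul_assoc]
  try rfl

/-- The map realising multiplication by `m` on the first half twisted by the matrix on the second. -/
def phi8 (m : ℕ) (a b c d : ℤ) : P4 X ⊗ P4 X ⟶ P4 X ⊗ P4 X :=
  lift (lift4 fun i => xp X i ^ (m : ℤ) * comb (yp X) (quat a b c d i)) (snd (P4 X) (P4 X))

theorem phi8_props {g : ℕ} (hg : topologicalKrullDim X.left = (g : WithBot ℕ∞)) {m : ℕ} (hm : m ≠ 0) (a b c d : ℤ)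
    {z : Pic X.left} (hz : AmpleCls z) :
    AmpleCls (pull (phi8 (X := X) m a b c d).left (cls8 z)) ∧
      E (P4 X ⊗ P4 X) (pull (phi8 (X := X) m a b c d).left (cls8 z)) =
        ((m ^ (8 * g) : ℕ) : ℤ) * E (P4 X ⊗ P4 X) (cls8 z) := by
  haveI := isProper_P4 X
  haveI := geometricallyIntegral_P4 X
  haveI := isProper_tensor (P4 X) (P4 X)
  haveI := Poincare.geometricallyIntegral_tensor (P4 X) (P4 X)
  let μm : P4 X ⟶ P4 X := (𝟙 (P4 X)) ^ m
  let D := μm ▷ P4 X
  let w : Fin 4 → (P4 X ⊗ P4 X ⟶ X) := fun i => comb (yp X) (quat a b c d i)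
  let j : P4 X ⊗ P4 X ⟶ P4 X ⊗ P4 X := lift (fst (P4 X) (P4 X) * lift4 w) (snd (P4 X) (P4 X))
  have hc : ∀ (f : P4 X ⊗ P4 X ⟶ P4 X ⊗ P4 X), f ≫ snd (P4 X) (P4 X) = snd (P4 X) (P4 X) →
      f ≫ lift4 w = lift4 w := fun f hf => by
    refine hom_ext4 fun i => ?_
    rw [Category.assoc, lift4_pr]
    simp only [w, comb, MonObj.comp_mul, GrpObj.comp_zpow, yp, ← Category.assoc f, hf]
  let j' : P4 X ⊗ P4 X ⟶ P4 X ⊗ P4 X := lift (fst (P4 X) (P4 X) * (lift4 w)⁻¹) (snd (P4 X) (P4 X))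
  haveI : IsIso j := ⟨j', by
    constructor <;> apply CartesianMonoidalCategory.hom_ext <;>
      simp [j, j', MonObj.comp_mul, GrpObj.comp_inv, hc _ (lift_snd _ _)]⟩
  haveI : IsIso j.left := inferInstanceAs (IsIso ((Over.forget _).map j))
  have e : phi8 m a b c d = D ≫ j := by
    apply CartesianMonoidalCategory.hom_ext
    · refine hom_ext4 fun i => ?_
      simp only [phi8, j, D, μm, lift_fst, Category.assoc, lift4_pr]
      rw [MonObj.mul_comp, lift4_pr, MonObj.comp_mul, whiskerRight_fst_assoc]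
      congr 1
      · rw [MonObj.pow_comp, Category.id_comp, MonObj.comp_pow, xp, zpow_natCast]
      · rw [← lift4_pr w i, ← Category.assoc, hc (μm ▷ P4 X) (whiskerRight_snd _ _), lift4_pr]
    · simp only [phi8, j, D, lift_snd, Category.assoc, whiskerRight_snd]
  have hpb : IsPullback D.left (fst (P4 X) (P4 X)).left (fst (P4 X) (P4 X)).left μm.left :=
    (GrpSchField.isPullback_whiskerRight μm (P4 X)).map (Over.forget _)
  haveI : IsFinite D.left := MorphismProperty.of_isPullback hpb.flip (isFinite_pow (P4 X) hm)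
  haveI : Flat D.left := MorphismProperty.of_isPullback hpb.flip (flat_pow (P4 X) hm)
  haveI : IsFinite μm.left := isFinite_pow (P4 X) hm
  haveI : Flat μm.left := flat_pow (P4 X) hm
  have hd : ∀ y, D.left.finrank y = m ^ (8 * g) := fun y => by
    rw [Scheme.Hom.finrank_of_isPullback _ _ _ _ hpb.flip y, AbTors.finrank_pow (P4 X) (dim_P4 X hg) hm]
    ring
  rw [e, Over.comp_left, ← pull_comp, E_pull D _ hd, E_pull_iso j]
  exact ⟨((ampleCls_cls8 hz).pull j.left).pull D.left, rfl⟩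

/-- **Zarhin's construction.** -/
theorem exists_zarhin {Ω : Type u} [Field Ω] [Algebra k Ω] [IsAlgClosure k Ω] {g : ℕ}
    (hg : topologicalKrullDim X.left = (g : WithBot ℕ∞)) {z : Pic X.left}
    (hsym : pull ((𝟙 X)⁻¹ : X ⟶ X).left z = z) (hz : AmpleCls z) {m : ℕ} (hm : (m : k) ≠ 0)
    (G : Subgroup (SGA7.pt Ω ⟶ X)) (hG : ∀ a ∈ G, a ^ m = 1) (hst : ∀ (τ : Ω ≃ₐ[k] Ω), ∀ a ∈ G, SGA7.galAct τ a ∈ G) :
    ∃ (Z : Over (Spec (CommRingCat.of k))) (_ : GrpObj Z) (_ : IsCommMonObj Z) (r : P4 X ⊗ P4 X ⟶ Z) (_ : IsMonHom r)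
      (r' : Z ⟶ P4 X ⊗ P4 X) (_ : IsMonHom r') (Y : Over (Spec (CommRingCat.of k))) (_ : GrpObj Y)
      (_ : IsCommMonObj Y) (q : X ⟶ Y) (_ : IsMonHom q) (v : Y ⟶ X) (_ : IsMonHom v)
      (p : Z ⟶ Y) (_ : IsMonHom p) (e : Y ⟶ Z) (_ : IsMonHom e),
      IsProper Z.hom ∧ GeometricallyIntegral Z.hom ∧ topologicalKrullDim Z.left = ((8 * g : ℕ) : WithBot ℕ∞) ∧
      r' ≫ r = (𝟙 Z) ^ m ∧ IsProper Y.hom ∧ GeometricallyIntegral Y.hom ∧
      q ≫ v = (𝟙 X) ^ m ∧ v ≫ q = (𝟙 Y) ^ m ∧ (∀ a : SGA7.pt Ω ⟶ X, a ≫ q = 1 ↔ a ∈ G) ∧ e ≫ p = 𝟙 Y ∧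
      ∃ M : Pic Z.left, AmpleCls M ∧ (E Z M).natAbs ≤ (E (P4 X ⊗ P4 X) (cls8 z)).natAbs := by
  classical
  haveI : IsAlgClosed Ω := IsAlgClosure.isAlgClosed k
  have hm0 : m ≠ 0 := fun h => hm (by rw [h, Nat.cast_zero])
  obtain ⟨Y, strY, hYc, q, hqm, v, hvm, hYp, hYg, hqf, hqfl, hqs, hqv, hvq, hker⟩ := exists_isogeny hm G hG hst
  haveI := hqm; haveI := hvm; haveI := hYp; haveI := hYg
  -- the orthogonal of `G`
  let ξ : Pic (Y ⊗ X).left := pull (v ▷ X).left (MumfordPoincare.lam z)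
  have hξ : KL.IsBirigid ξ := by
    refine ⟨?_, ?_⟩
    · show pull _ (pull _ _) = 1
      rw [pull_pull_over, show lift (1 : X ⟶ Y) (𝟙 X) ≫ v ▷ X = lift (1 : X ⟶ X) (𝟙 X) by
        apply CartesianMonoidalCategory.hom_ext <;> simp [MonObj.one_comp]]
      exact (isBirigid_lam z).1
    · show pull _ (pull _ _) = 1
      rw [pull_pull_over, show lift (𝟙 Y) (1 : Y ⟶ X) ≫ v ▷ X = v ≫ lift (𝟙 X) (1 : X ⟶ X) by
        apply CartesianMonoidalCategory.hom_ext <;> simp [MonObj.comp_one], ← pull_pull_over, (isBirigid_lam z).2,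
        map_one]
  have hξp : ∀ {S : Over (Spec (CommRingCat.of k))} (f : S ⟶ Y) (h : S ⟶ X),
      KL.pairing ξ f h = KL.pairing (MumfordPoincare.lam z) (f ≫ v) h := fun f h => by
    simp only [KL.pairing, ξ]
    rw [pull_pull_over, show lift f h ≫ v ▷ X = lift (f ≫ v) h by apply CartesianMonoidalCategory.hom_ext <;> simp]
  let K : Subgroup (SGA7.pt Ω ⟶ X) := AbDual.torsPts X m (SGA7.pt Ω) ⊓ (sliceHom hξ).ker
  have hK : ∀ a, a ∈ K ↔ a ^ m = 1 ∧ pull (Y ◁ a).left ξ = 1 := fun a => by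
    show a ∈ AbDual.torsPts X m (SGA7.pt Ω) ∧ sliceHom hξ a = 1 ↔ _
    rw [AbDual.mem_torsPts, sliceHom_apply]
  have hKst : ∀ (τ : Ω ≃ₐ[k] Ω), ∀ a ∈ K, SGA7.galAct τ a ∈ K := fun τ a ha => by
    obtain ⟨h1, h2⟩ := (hK a).1 ha
    refine (hK _).2 ⟨?_, ?_⟩
    · show (SGA7.specAut τ ≫ a) ^ m = 1
      rw [← MonObj.comp_pow, h1, MonObj.comp_one]
    · show pull (Y ◁ (SGA7.specAut τ ≫ a)).left ξ = 1
      rw [MonoidalCategory.whiskerLeft_comp, ← pull_pull_over, h2, map_one]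
  obtain ⟨hKfin, hKcard⟩ := le_card_mul_card_orth hg hm q v hqv hvq hξ fun a ha => by
    show pull (q ▷ SGA7.pt Ω).left (sliceHom hξ a) = 1
    show pull _ (KL.pairing ξ _ _) = 1
    rw [KL.pull_pairing, hξp, ← Category.assoc (q ▷ _), whiskerRight_fst, whiskerRight_snd, Category.assoc,
      hqv, MonObj.comp_pow, Category.comp_id]
    refine (map_pow (KL.leftHom (isBirigid_lam z) (snd X (SGA7.pt Ω) ≫ a)) (fst X (SGA7.pt Ω)) m).trans ?_
    rw [← map_pow]
    show KL.pairing _ _ _ = 1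
    rw [show ∀ (f h : X ⊗ SGA7.pt Ω ⟶ X), KL.pairing (MumfordPoincare.lam z) (f ^ m) h =
        KL.pairing (MumfordPoincare.lam z) f (h ^ m) from fun f h =>
        (map_pow (KL.leftHom (isBirigid_lam z) h) f m).trans (map_pow (KL.rightHom (isBirigid_lam z) f) h m).symm,
      ← MonObj.comp_pow, ha, MonObj.comp_one, KL.pairing_one_right (isBirigid_lam z)]
  obtain ⟨Y', strY', hY'c, q', hq'm, v', hv'm, P, hY'p, hY'g, -, -, -, hqv', hvq', hker', hP⟩ :=
    exists_pair_descend hξ hm K (fun a ha => ((hK a).1 ha).1) hKst fun a ha => ((hK a).1 ha).2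
  haveI := hq'm; haveI := hv'm; haveI := hY'p; haveI := hY'g
  haveI := isProper_P4 X; haveI := geometricallyIntegral_P4 X
  haveI := isProper_P4 Y; haveI := geometricallyIntegral_P4 Y
  haveI := isProper_P4 Y'; haveI := geometricallyIntegral_P4 Y'
  haveI := isProper_tensor (P4 X) (P4 X); haveI := Poincare.geometricallyIntegral_tensor (P4 X) (P4 X)
  haveI := isProper_tensor (P4 Y) (P4 Y'); haveI := Poincare.geometricallyIntegral_tensor (P4 Y) (P4 Y')
  let r : P4 X ⊗ P4 X ⟶ P4 Y ⊗ P4 Y' := map4 q ⊗ₘ map4 q'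
  let r' : P4 Y ⊗ P4 Y' ⟶ P4 X ⊗ P4 X := map4 v ⊗ₘ map4 v'
  have h4 : ∀ {A B : Over (Spec (CommRingCat.of k))} [GrpObj A] [GrpObj B] (f : A ⟶ B) (h : B ⟶ A),
      f ≫ h = (𝟙 A) ^ m → map4 f ≫ map4 h = (𝟙 (P4 A)) ^ m := by
    intro A B _ _ f h e
    refine hom_ext4 fun i => ?_
    rw [Category.assoc, map4_pr, ← Category.assoc, map4_pr, Category.assoc, e, MonObj.comp_pow, Category.comp_id,
      MonObj.pow_comp, Category.id_comp]
  have h8 : ∀ {A A' B B' : Over (Spec (CommRingCat.of k))} [GrpObj A] [GrpObj A'] [GrpObj B] [GrpObj B']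
      (f : A ⟶ B) (h : B ⟶ A) (f' : A' ⟶ B') (h' : B' ⟶ A'),
      f ≫ h = (𝟙 A) ^ m → f' ≫ h' = (𝟙 A') ^ m → (f ⊗ₘ f') ≫ (h ⊗ₘ h') = (𝟙 (A ⊗ A')) ^ m := by
    intro A A' B B' _ _ _ _ f h f' h' e e'
    apply CartesianMonoidalCategory.hom_ext
    · rw [Category.assoc, tensorHom_fst, ← Category.assoc, tensorHom_fst, Category.assoc, e, MonObj.comp_pow,
        Category.comp_id, MonObj.pow_comp, Category.id_comp]
    · rw [Category.assoc, tensorHom_snd, ← Category.assoc, tensorHom_snd, Category.assoc, e', MonObj.comp_pow,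
        Category.comp_id, MonObj.pow_comp, Category.id_comp]
  have hrr' : r ≫ r' = (𝟙 _) ^ m := h8 _ _ _ _ (h4 q v hqv) (h4 q' v' hqv')
  have hr'r : r' ≫ r = (𝟙 _) ^ m := h8 _ _ _ _ (h4 v q hvq) (h4 v' q' hvq')
  obtain ⟨hrf, hrfl, hrs⟩ := isogeny_props hm0 r r' hrr' hr'r
  haveI := hrf; haveI := hrfl; haveI := hrs
  obtain ⟨d, hd0, hd⟩ := Index.exists_degree r
  -- the class on `Z`
  obtain ⟨na, nb, nc, nd, hsq⟩ := Nat.sum_four_squares (m ^ 2 - 1)
  have hquat : ((m : ℤ)) ^ 2 = 1 + ((na : ℤ) ^ 2 + (nb : ℤ) ^ 2 + (nc : ℤ) ^ 2 + (nd : ℤ) ^ 2) := by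
    have : 1 ≤ m ^ 2 := Nat.one_le_pow _ _ (Nat.pos_of_ne_zero hm0)
    have h' : m ^ 2 = 1 + (na ^ 2 + nb ^ 2 + nc ^ 2 + nd ^ 2) := by omega
    exact_mod_cast h'
  let A := quat (na : ℤ) nb nc nd
  let p1 : Fin 4 → (P4 Y ⊗ P4 Y' ⟶ Y) := fun i => fst _ _ ≫ pr4 Y i
  let p2 : Fin 4 → (P4 Y ⊗ P4 Y' ⟶ Y') := fun i => snd _ _ ≫ pr4 Y' i
  let M : Pic (P4 Y ⊗ P4 Y').left :=
    (∏ i, pull (p1 i ≫ v).left z) * (∏ i, pull (p2 i ≫ v').left z) *
      ∏ i, ∏ j, KL.pairing P (p1 i) (p2 j) ^ A i j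
  have hr1 : ∀ i, r ≫ p1 i = xp X i ≫ q := fun i => by
    simp only [r, p1, xp, ← Category.assoc, tensorHom_fst]
    rw [Category.assoc, map4_pr, Category.assoc]
  have hr2 : ∀ i, r ≫ p2 i = yp X i ≫ q' := fun i => by
    simp only [r, p2, yp, ← Category.assoc, tensorHom_snd]
    rw [Category.assoc, map4_pr, Category.assoc]
  have hM : pull r.left M = pull (phi8 (X := X) m na nb nc nd).left (cls8 z) := by
    refine Additive.ofMul.injective ?_
    have hL : Additive.ofMul (pull r.left M) = (∑ i, Q z (xp X i ^ (m : ℤ))) + (∑ i, Q z (yp X i ^ (m : ℤ))) +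
        ∑ i, ∑ j, A i j • Bil z (xp X i ^ (m : ℤ)) (yp X j) := by
      simp only [M, map_mul, map_prod, map_zpow, ofMul_mul, ofMul_prod, ofMul_zpow, pull_pull_over, KL.pull_pairing]
      congr 1
      · congr 1
        · refine Finset.sum_congr rfl fun i _ => ?_
          rw [← Category.assoc, hr1, Category.assoc, hqv, MonObj.comp_pow, Category.comp_id, zpow_natCast]
          rfl
        · refine Finset.sum_congr rfl fun i _ => ?_
          rw [← Category.assoc, hr2, Category.assoc, hqv', MonObj.comp_pow, Category.comp_id, zpow_natCast]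
          rfl
      · refine Finset.sum_congr rfl fun i _ => Finset.sum_congr rfl fun j _ => ?_
        rw [hr1, hr2]
        show _ = _ • Additive.ofMul _
        congr 2
        rw [show KL.pairing P (xp X i ≫ q) (yp X j ≫ q') = KL.pairing ξ (xp X i ≫ q) (yp X j) by
          rw [← hP]
          simp only [KL.pairing]
          rw [pull_pull_over, show lift (xp X i ≫ q) (yp X j) ≫ Y ◁ q' = lift (xp X i ≫ q) (yp X j ≫ q') by
            apply CartesianMonoidalCategory.hom_ext <;> simp],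
          hξp, Category.assoc, hqv, MonObj.comp_pow, Category.comp_id, zpow_natCast]
    have hR : Additive.ofMul (pull (phi8 (X := X) m na nb nc nd).left (cls8 z)) =
        ∑ i, Q z (xp X i ^ (m : ℤ) * comb (yp X) (A i)) + ∑ i, Q z (yp X i) := by
      simp only [cls8, map_mul, map_prod, ofMul_mul, ofMul_prod, pull_pull_over]
      congr 1
      · refine Finset.sum_congr rfl fun i _ => ?_
        show Q z (phi8 (X := X) m na nb nc nd ≫ xp X i) = _
        rw [phi8, xp, lift_fst_assoc, lift4_pr]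
        rfl
      · refine Finset.sum_congr rfl fun i _ => ?_
        show Q z (phi8 (X := X) m na nb nc nd ≫ yp X i) = _
        rw [phi8, yp, lift_snd_assoc]
    rw [hL, hR, quad_identity hsym (xp X) (yp X) hquat]
    simp only [Q_zpow hsym, Bil_zpow_left, Finset.smul_sum, smul_smul, A, _root_.mul_comm]
  obtain ⟨hamp, hE⟩ := phi8_props hg hm0 (na : ℤ) nb nc nd hz
  rw [← hM] at hamp hE
  rw [E_pull r d hd] at hE
  have hMamp : AmpleCls M := by
    haveI : IsIntegral (P4 Y ⊗ P4 Y').left := GeometricallyIntegral.isIntegral_of_subsingleton (P4 Y ⊗ P4 Y').hom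
    exact AmpleCls.of_pull (f := (P4 Y ⊗ P4 Y').hom) r.left hamp
  -- the degree is large
  let σ := Spec.map (CommRingCat.ofHom (algebraMap k Ω))
  haveI : IsFinite (DegPoly.bcMap σ r).left := (DegPoly.isFinite_bcMap_iff σ r).2 hrf
  haveI : Flat (DegPoly.bcMap σ r).left := MorphismProperty.of_isPullback (DegPoly.isPullback_bcMap σ r) hrfl
  haveI : IsProper (DegPoly.bc σ (P4 Y ⊗ P4 Y')).hom :=
    inferInstanceAs (IsProper (pullback.snd (P4 Y ⊗ P4 Y').hom σ))
  haveI : IsLocallyNoetherian (DegPoly.bc σ (P4 Y ⊗ P4 Y')).left :=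
    LocallyOfFiniteType.isLocallyNoetherian (DegPoly.bc σ (P4 Y ⊗ P4 Y')).hom
  haveI : LocallyOfFinitePresentation (DegPoly.bcMap σ r).left := inferInstance
  have hdvd := DegPoly.card_ker_dvd (DegPoly.bcMap σ r)
  rw [Scheme.Hom.finrank_of_isPullback _ _ _ _ (DegPoly.isPullback_bcMap σ r), hd] at hdvd
  let Gq := {a : SGA7.pt Ω ⟶ X // a ≫ q = 1}
  let Gq' := {a : SGA7.pt Ω ⟶ X // a ≫ q' = 1}
  let Gr := {a : Over.mk (𝟙 (Spec (CommRingCat.of Ω))) ⟶ DegPoly.bc σ (P4 X ⊗ P4 X) // a ≫ DegPoly.bcMap σ r = 1}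
  let φ : (Fin 4 → Gq) × (Fin 4 → Gq') → Gr := fun t =>
    ⟨DegPoly.ptsEquiv σ (lift (lift4 fun i => (t.1 i).1) (lift4 fun i => (t.2 i).1)), by
      rw [← DegPoly.ptsEquiv_comp, EmbeddingLike.map_eq_one_iff]
      apply CartesianMonoidalCategory.hom_ext
      · rw [Category.assoc, tensorHom_fst, lift_fst_assoc, MonObj.one_comp]
        refine hom_ext4 fun i => ?_
        rw [Category.assoc, map4_pr, ← Category.assoc, lift4_pr, (t.1 i).2, MonObj.one_comp]
      · rw [Category.assoc, tensorHom_snd, lift_snd_assoc, MonObj.one_comp]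
        refine hom_ext4 fun i => ?_
        rw [Category.assoc, map4_pr, ← Category.assoc, lift4_pr, (t.2 i).2, MonObj.one_comp]⟩
  have hφ : Function.Injective φ := fun t t' h => by
    have h1 := (DegPoly.ptsEquiv σ).injective (Subtype.ext_iff.1 h)
    refine Prod.ext (funext fun i => Subtype.ext ?_) (funext fun i => Subtype.ext ?_)
    · simpa [lift4_pr, xp, yp] using congrArg (fun u => u ≫ xp X i) h1
    · simpa [lift4_pr, xp, yp] using congrArg (fun u => u ≫ yp X i) h1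
  have hfinr : Finite Gr := Nat.finite_of_card_ne_zero fun h0 => hd0.ne' (zero_dvd_iff.1 (h0 ▸ hdvd))
  have hge : m ^ (8 * g) ≤ d := by
    refine le_trans ?_ (Nat.le_of_dvd hd0 hdvd)
    refine le_trans ?_ (Nat.card_le_card_of_injective φ hφ)
    rw [Nat.card_prod, Nat.card_fun, Nat.card_fun, Nat.card_fin, ← mul_pow,
      show 8 * g = (2 * g) * 4 by ring, pow_mul]
    refine Nat.pow_le_pow_left (hKcard.trans (Nat.mul_le_mul le_rfl (le_of_eq ?_))) 4
    exact Nat.card_congr (Equiv.subtypeEquivRight fun a => ((hker' a).trans (hK a)).symm)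
  refine ⟨P4 Y ⊗ P4 Y', inferInstance, inferInstance, r, inferInstance, r', inferInstance, Y, strY, hYc, q,
    hqm, v, hvm, p1 0, inferInstanceAs (IsMonHom (fst _ _ ≫ pr4 Y 0)),
    lift (lift4 ![𝟙 Y, 1, 1, 1]) 1, ?_, inferInstance, inferInstance, ?_, hr'r, hYp, hYg, hqv, hvq, hker, ?_, M,
    hMamp, ?_⟩
  · haveI : IsMonHom (1 : Y ⟶ Y) := inferInstance
    exact inferInstanceAs (IsMonHom (lift (lift (lift (𝟙 Y) (1 : Y ⟶ Y)) (lift (1 : Y ⟶ Y) (1 : Y ⟶ Y))) (1 : Y ⟶ P4 Y')))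
  · obtain ⟨gy, hgy⟩ := AbTors.exists_dim Y
    obtain ⟨gy', hgy'⟩ := AbTors.exists_dim Y'
    obtain ⟨-, -, hqs0⟩ := isogeny_props hm0 q v hqv hvq
    obtain ⟨-, -, hvs0⟩ := isogeny_props hm0 v q hvq hqv
    obtain ⟨-, -, hqs'⟩ := isogeny_props hm0 q' v' hqv' hvq'
    obtain ⟨-, -, hvs'⟩ := isogeny_props hm0 v' q' hvq' hqv'
    haveI := hqs0; haveI := hvs0; haveI := hqs'; haveI := hvs'
    have e1 : gy = g := le_antisymm (Poincare.dim_le_of_surjective q hg hgy) (Poincare.dim_le_of_surjective v hgy hg)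
    have e2 : gy' = g :=
      le_antisymm (Poincare.dim_le_of_surjective q' hg hgy') (Poincare.dim_le_of_surjective v' hgy' hg)
    rw [Poincare.dim_tensor (P4 Y) (P4 Y') (dim_P4 Y hgy) (dim_P4 Y' hgy'), e1, e2]
    congr 2
    ring
  · simp [p1, lift4_pr]
  · have h := congrArg Int.natAbs hE
    rw [Int.natAbs_mul, Int.natAbs_mul, Int.natAbs_natCast, Int.natAbs_natCast] at h
    refine Nat.le_of_mul_le_mul_left ?_ hd0
    rw [h]
    exact Nat.mul_le_mul_right _ hge

end GrothLib.TateThm
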