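import Groth.Agent.Lib.TateThm.MinLatticeHom
import Groth.Agent.Lib.TateThm.Isog
import Groth.Agent.Lib.TateThm.Zarhin
import Groth.Agent.Lib.GrpDeligne.AbVar

/-!
# Isogenies seen on the lattices of homomorphisms
-/

set_option autoImplicit false
set_option linter.all false
set_option backward.isDefEq.respectTransparency false
set_option maxHeartbeats 1000000

universe u v w

open CategoryTheory MonoidalCategory CartesianMonoidalCategory MonObj GrpObj AlgebraicGeometry AbDual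
open Polynomial
open scoped TensorProduct

noncomputable section

namespace GrothLib.TateThm

section General

variable {k Ω : Type u} [Field k] [Field Ω] [Algebra k Ω] [IsAlgClosure k Ω] {l : ℕ} [hl : Fact l.Prime]
variable {A B : Over (Spec (CommRingCat.of k))} [GrpObj A] [IsCommMonObj A] [IsProper A.hom]
  [GeometricallyIntegral A.hom] [GrpObj B] [IsCommMonObj B] [IsProper B.hom] [GeometricallyIntegral B.hom]

/-- A homomorphism bijective on rational Tate modules, with one backwards, is finite and surjective. -/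
theorem isFinite_surjective_of_bijective (hlk : (l : k) ≠ 0) (φ : EndAV.Hom A B) (ψ : EndAV.Hom B A)
    (hφ : Function.Bijective (tateQ l Ω A B φ)) (hψ : Function.Bijective (tateQ l Ω B A ψ)) :
    IsFinite φ.toHom.left ∧ Surjective φ.toHom.left := by
  have hα : Function.Bijective (tateQ l Ω A A (φ ≫ ψ)) := by
    rw [tateQ_comp]
    exact hψ.comp hφ
  obtain ⟨β, n, hn, -, h2⟩ := exists_inverse Ω l hlk (φ ≫ ψ) hα
  let v : EndAV.Hom B A := ψ ≫ β
  have hu : φ ≫ v = ((n : EndAV.End A) : EndAV.Hom A A) := by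
    rw [← h2]
    exact (Category.assoc _ _ _).symm
  have hv : v ≫ φ = ((n : EndAV.End B) : EndAV.Hom B B) := by
    refine tateQ_injective (Ω := Ω) hlk (LinearMap.ext fun x => ?_)
    obtain ⟨y, rfl⟩ := hφ.2 x
    have h3 := LinearMap.congr_fun (congrArg (tateQ l Ω A A) hu) y
    rw [tateQ_comp] at h3 ⊢
    show tateQ l Ω A B φ (tateQ l Ω B A v (tateQ l Ω A B φ y)) = _
    rw [show tateQ l Ω B A v (tateQ l Ω A B φ y) = tateQ l Ω A A ((n : EndAV.End A) : EndAV.Hom A A) y from h3,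
      show ((n : EndAV.End A) : EndAV.Hom A A) = n • (1 : EndAV.End A) from (nsmul_one n).symm,
      show ((n : EndAV.End B) : EndAV.Hom B B) = n • (1 : EndAV.End B) from (nsmul_one n).symm,
      map_nsmul, map_nsmul, tateQ_one, tateQ_one, LinearMap.smul_apply, LinearMap.smul_apply,
      Module.End.one_apply, Module.End.one_apply, map_nsmul]
  obtain ⟨h, -, h'⟩ := isogeny_props hn.ne' φ.toHom v.toHom
    ((congrArg EndAV.Hom.toHom hu).trans (EndAV.End.toHom_natCast n))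
    ((congrArg EndAV.Hom.toHom hv).trans (EndAV.End.toHom_natCast n))
  exact ⟨h, h'⟩

omit [IsProper A.hom] [GeometricallyIntegral A.hom] [IsProper B.hom] [GeometricallyIntegral B.hom] in
theorem natCast_comp {C : Over (Spec (CommRingCat.of k))} [GrpObj C] [IsCommMonObj C] (n : ℕ) (φ : EndAV.Hom A C) :
    ((n : EndAV.End A) : EndAV.Hom A A) ≫ φ = n • φ := by
  rw [show ((n : EndAV.End A) : EndAV.Hom A A) = n • (1 : EndAV.End A) from (nsmul_one n).symm]
  exact (Preadditive.nsmul_comp _ _ n).trans (congrArg (n • ·) (Category.id_comp φ))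

/-- Precomposition with an isogeny is injective with torsion cokernel. -/
theorem precomp_of_isogeny {C : Over (Spec (CommRingCat.of k))} [GrpObj C] [IsCommMonObj C] [IsProper C.hom]
    [GeometricallyIntegral C.hom] (f : EndAV.Hom B A) [IsFinite f.toHom.left] [Surjective f.toHom.left] :
    (∀ φ : EndAV.Hom A C, f ≫ φ = 0 → φ = 0) ∧ ∃ n : ℕ, 0 < n ∧ ∀ ψ : EndAV.Hom B C, ∃ φ, f ≫ φ = n • ψ := by
  obtain ⟨n, g, hn, hg, h1, h2⟩ := GrpDeligne.exists_dual_hom_of_surjective B A f.toHom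
  have e1 : f ≫ EndAV.Hom.of g = ((n : EndAV.End B) : EndAV.Hom B B) :=
    EndAV.Hom.ext (h1.trans (EndAV.End.toHom_natCast n).symm)
  have e2 : EndAV.Hom.of g ≫ f = ((n : EndAV.End A) : EndAV.Hom A A) :=
    EndAV.Hom.ext (h2.trans (EndAV.End.toHom_natCast n).symm)
  refine ⟨fun φ hφ => ?_, n, hn, fun ψ => ⟨EndAV.Hom.of g ≫ ψ, ?_⟩⟩
  · haveI := HomFG.free_hom (A := A) (B := C)
    have h : (n : ℤ) • φ = 0 := by
      rw [natCast_zsmul, ← natCast_comp, ← e2, Category.assoc, hφ, Limits.comp_zero]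
    exact (smul_eq_zero.1 h).resolve_left (Int.natCast_ne_zero.2 hn.ne')
  · rw [← Category.assoc, e1, natCast_comp]

omit [IsAlgClosure k Ω] in
/-- The rank of the Tate module. -/
theorem finrank_tate [IsAlgClosed Ω] (hlk : (l : k) ≠ 0) (πA : A ⟶ A) [IsMonHom πA]
    [Module.Free ℤ_[l] (TateMod A l (SGA7.pt Ω))] [Module.Finite ℤ_[l] (TateMod A l (SGA7.pt Ω))]
    {g : ℕ} (hg : topologicalKrullDim A.left = (g : WithBot ℕ∞)) :
    Module.finrank ℤ_[l] (TateMod A l (SGA7.pt Ω)) = 2 * g := by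
  obtain ⟨P, hPm, hPd, -, hPc⟩ := DegPoly.exists_int_charpoly_hom (Spec.map (CommRingCat.ofHom (algebraMap k Ω))) hg πA
  rw [← LinearMap.charpoly_natDegree (tateMapₗ (l := l) (T := SGA7.pt Ω) πA)]
  exact (congrArg Polynomial.natDegree (hPc l hlk)).trans ((hPm.natDegree_map _).trans hPd)

end General

variable {k Ω : Type u} [Field k] [Finite k] [Field Ω] [Algebra k Ω] [IsAlgClosure k Ω] {l : ℕ} [hl : Fact l.Prime]
variable (hlk : (l : k) ≠ 0)
variable {J : Type v} [Fintype J] {F : J → Type w} [∀ j, Field (F j)] [∀ j, CharZero (F j)] {ϖ : ∀ j, F j}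
  (hint : ∀ j, IsIntegral ℤ (ϖ j)) (hinj : ∀ i j, minpoly ℤ (ϖ i) = minpoly ℤ (ϖ j) → i = j)
variable {p : ℕ} (hpu : IsUnit (p : ℤ_[l])) (hne : ∀ j, ϖ j ≠ 0)
variable {Aw : Over (Spec (CommRingCat.of k))} [GrpObj Aw] [IsCommMonObj Aw] [IsProper Aw.hom]
  [GeometricallyIntegral Aw.hom] (πw : Aw ⟶ Aw) [IsMonHom πw] (hwle : ∀ U : Aw.left.Opens, U ≤ πw.left ⁻¹ᵁ U)
  (hwapp : ∀ (U : Aw.left.Opens) (s : Γ(Aw.left, U)), (πw.left.appLE U U (hwle U)).hom s = s ^ Nat.card k)
  (ρ : minOrder ϖ p ≃+* EndAV.End Aw) (hρ : ρ ⟨ϖ, mem_minOrder ϖ p⟩ = EndAV.End.of πw)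
variable [Module.Free ℤ_[l] (TateMod Aw l (SGA7.pt Ω))] [Module.Finite ℤ_[l] (TateMod Aw l (SGA7.pt Ω))]
variable {A : Over (Spec (CommRingCat.of k))} [GrpObj A] [IsCommMonObj A] [IsProper A.hom] [GeometricallyIntegral A.hom]
  (πA : A ⟶ A) [IsMonHom πA] (hAle : ∀ U : A.left.Opens, U ≤ πA.left ⁻¹ᵁ U)
  (hAapp : ∀ (U : A.left.Opens) (s : Γ(A.left, U)), (πA.left.appLE U U (hAle U)).hom s = s ^ Nat.card k)
  [Module.Free ℤ_[l] (TateMod A l (SGA7.pt Ω))] [Module.Finite ℤ_[l] (TateMod A l (SGA7.pt Ω))]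
  (hPA : aeval (EndAV.End.of πA) (weilPoly ϖ) = 0)
variable {B : Over (Spec (CommRingCat.of k))} [GrpObj B] [IsCommMonObj B] [IsProper B.hom] [GeometricallyIntegral B.hom]
  (πB : B ⟶ B) [IsMonHom πB] (hBle : ∀ U : B.left.Opens, U ≤ πB.left ⁻¹ᵁ U)
  (hBapp : ∀ (U : B.left.Opens) (s : Γ(B.left, U)), (πB.left.appLE U U (hBle U)).hom s = s ^ Nat.card k)
  [Module.Free ℤ_[l] (TateMod B l (SGA7.pt Ω))] [Module.Finite ℤ_[l] (TateMod B l (SGA7.pt Ω))]
  (hPB : aeval (EndAV.End.of πB) (weilPoly ϖ) = 0)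

variable (Ω) in
include Ω hlk hint hinj hwle hwapp hρ hpu hne hAle hAapp hPA hBle hBapp hPB in
/-- **A homomorphism with injective precomposition and finite cokernel is an isogeny.** -/
theorem isogeny_of_precomp (f : EndAV.Hom B A) (hf : ∀ φ : EndAV.Hom A Aw, f ≫ φ = 0 → φ = 0)
    (hN : ∃ N : ℕ, 0 < N ∧ ∀ ψ : EndAV.Hom B Aw, ∃ φ, f ≫ φ = N • ψ) :
    IsFinite f.toHom.left ∧ Surjective f.toHom.left := by
  haveI : IsAlgClosed Ω := IsAlgClosure.isAlgClosed k
  let σ := Spec.map (CommRingCat.ofHom (algebraMap k Ω))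
  haveI : IsIntegral B.left := GeometricallyIntegral.isIntegral_of_subsingleton B.hom
  obtain ⟨N, hN0, hN⟩ := hN
  haveI : Module.IsTorsionFree ℤ_[l] (TateMod Aw l (SGA7.pt Ω)) := AbTors.instIsTorsionFree (A := Aw) (σ := σ) (l := l)
  -- injective on the Tate module
  have hinjT : ∀ z : TateMod B l (SGA7.pt Ω), EndAV.Hom.tateMap l (SGA7.pt Ω) f z = 0 → z = 0 := fun z hz => by
    refine (tateMod_to_homs_bijective (Ω := Ω) hlk hint hinj hpu hne πw hwle hwapp ρ hρ πB hBle hBapp hPB).1 z 0 fun ψ => ?_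
    obtain ⟨φ, hφ⟩ := hN ψ
    rw [map_zero]
    have h1 : (N : ℤ_[l]) • EndAV.Hom.tateMap l (SGA7.pt Ω) ψ z = 0 := by
      rw [Nat.cast_smul_eq_nsmul, ← LinearMap.smul_apply, ← map_nsmul, ← hφ]
      show tateMapₗ (l := l) (T := SGA7.pt Ω) (f.toHom ≫ EndAV.Hom.toHom φ) z = 0
      rw [← tateMapₗ_comp, LinearMap.comp_apply]
      exact (congrArg _ hz).trans (map_zero _)
    exact (smul_eq_zero.1 h1).resolve_left (Nat.cast_ne_zero.2 hN0.ne')
  -- the ranks agree
  obtain ⟨gA, hgA⟩ := AbTors.exists_dim A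
  obtain ⟨gB, hgB⟩ := AbTors.exists_dim B
  have hR := mem_minOrder ϖ p
  have rA := finrank_hom_weil (Ω := Ω) hlk hint hinj πw hwle hwapp hR ρ hρ πA hAle hAapp hPA hgA
  have rB := finrank_hom_weil (Ω := Ω) hlk hint hinj πw hwle hwapp hR ρ hρ πB hBle hBapp hPB hgB
  have hrk : Module.finrank ℤ (EndAV.Hom A Aw) = Module.finrank ℤ (EndAV.Hom B Aw) := by
    haveI := HomFG.free_hom (A := A) (B := Aw)
    haveI := HomFG.finite_hom (A := A) (B := Aw)
    haveI := HomFG.free_hom (A := B) (B := Aw)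
    haveI := HomFG.finite_hom (A := B) (B := Aw)
    let L : EndAV.Hom A Aw →ₗ[ℤ] EndAV.Hom B Aw :=
      (Preadditive.leftComp (CommGrp.mk Aw) f).toIntLinearMap
    refine le_antisymm (LinearMap.finrank_le_finrank_of_injective (f := L)
      ((injective_iff_map_eq_zero L).2 fun φ hφ => hf φ hφ)) ?_
    have hq : ∀ ψ : EndAV.Hom B Aw, (N : ℤ) • ψ ∈ LinearMap.range L := fun ψ => by
      obtain ⟨φ, hφ⟩ := hN ψ
      exact ⟨φ, hφ.trans (natCast_zsmul ψ N).symm⟩
    let m : EndAV.Hom B Aw →ₗ[ℤ] LinearMap.range L := LinearMap.codRestrict _ ((N : ℤ) • LinearMap.id) hq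
    refine (LinearMap.finrank_le_finrank_of_injective (f := m) ?_).trans (LinearMap.finrank_range_le L)
    intro x y hxy
    exact smul_right_injective _ (Int.natCast_ne_zero.2 hN0.ne') (congrArg Subtype.val hxy)
  rw [rA, rB] at hrk
  have hbij : Function.Bijective (tateQ l Ω B A f) := by
    have hinjQ : Function.Injective (tateQ l Ω B A f) := by
      have h0 : Function.Injective ((tateMapₗ (l := l) (T := SGA7.pt Ω) f.toHom).baseChange ℚ_[l]) := by
        rw [LinearMap.baseChange_eq_ltensor]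
        exact Module.Flat.lTensor_preserves_injective_linearMap _
          ((injective_iff_map_eq_zero _).2 hinjT)
      rw [tateQ_apply]
      exact h0
    refine ⟨hinjQ, (LinearMap.injective_iff_surjective_of_finrank_eq_finrank ?_).1 hinjQ⟩
    rw [Module.finrank_baseChange, Module.finrank_baseChange, finrank_tate hlk πA hgA, finrank_tate hlk πB hgB, hrk]
  let e := LinearEquiv.ofBijective _ hbij
  have he : ∀ τ : Ω ≃ₐ[k] Ω, e.toLinearMap ∘ₗ galV B l τ = galV A l τ ∘ₗ e.toLinearMap :=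
    fun τ => homSpan_comm (tateQ_mem f) τ
  have he' : ∀ τ : Ω ≃ₐ[k] Ω, e.symm.toLinearMap ∘ₗ galV A l τ = galV B l τ ∘ₗ e.symm.toLinearMap := fun τ =>
    LinearMap.ext fun x => e.injective (by
      have h := LinearMap.congr_fun (he τ) (e.symm x)
      simp only [LinearMap.comp_apply, LinearEquiv.coe_coe, LinearEquiv.apply_symm_apply] at h ⊢
      exact h.symm)
  obtain ⟨ψ, hψ⟩ := exists_bijective_hom e.symm hlk (mem_homSpan_of_comm hlk _ he')
  exact isFinite_surjective_of_bijective (Ω := Ω) hlk f ψ hbij hψ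

end GrothLib.TateThm
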