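import Mathlib.RingTheory.AdjoinRoot
import Mathlib.RingTheory.Ideal.IdempotentFG
import Mathlib.RingTheory.Ideal.GoingUp
import Mathlib.RingTheory.Artinian.Ring
import Mathlib.NumberTheory.Padics.RingHoms
import Mathlib.RingTheory.OrzechProperty
import Mathlib.RingTheory.HopkinsLevitzki

/-!
# Duality over a monogenic algebra
-/

set_option autoImplicit false
set_option linter.all false
set_option backward.isDefEq.respectTransparency false

universe u v

open Polynomial
open scoped Classical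

noncomputable section

namespace GrothLib.Monogenic

section Duality

variable {O : Type u} [CommRing O] [Nontrivial O] {h : O[X]} (hm : h.Monic)

/-- The top coefficient. -/
def tau : AdjoinRoot h →ₗ[O] O := (lcoeff O (h.natDegree - 1)).comp (AdjoinRoot.modByMonicHom hm)

theorem tau_root_pow {i : ℕ} (hi : i < h.natDegree) :
    tau hm (AdjoinRoot.root h ^ i) = if i = h.natDegree - 1 then 1 else 0 := by
  rw [← AdjoinRoot.mk_X, ← map_pow, tau, LinearMap.comp_apply, AdjoinRoot.modByMonicHom_mk, lcoeff_apply,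
    (modByMonic_eq_self_iff hm).2 (by rw [degree_X_pow, degree_eq_natDegree hm.ne_zero]; exact_mod_cast hi),
    coeff_X_pow]
  simp only [eq_comm]

/-- The trace pairing as a map to the dual. -/
def pairing : AdjoinRoot h →ₗ[O] (AdjoinRoot h →ₗ[O] O) where
  toFun a := (tau hm).comp (LinearMap.mulLeft O a)
  map_add' a b := LinearMap.ext fun x => by simp [add_mul]
  map_smul' c a := LinearMap.ext fun x => by simp

@[simp] theorem pairing_apply (a b : AdjoinRoot h) : pairing hm a b = tau hm (a * b) := rfl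

theorem pairing_bijective : Function.Bijective (pairing hm) := by
  let pb := AdjoinRoot.powerBasis' hm
  have hdim : pb.dim = h.natDegree := rfl
  have key : ∀ (f : AdjoinRoot h →ₗ[O] O) (m : ℕ), m ≤ h.natDegree →
      ∃ a, ∀ i < m, tau hm (a * AdjoinRoot.root h ^ i) = f (AdjoinRoot.root h ^ i) := by
    intro f m hm'
    induction m with
    | zero => exact ⟨0, fun i hi => absurd hi (Nat.not_lt_zero i)⟩
    | succ m ih =>
      obtain ⟨a, ha⟩ := ih (by omega)
      refine ⟨a + (f (AdjoinRoot.root h ^ m) - tau hm (a * AdjoinRoot.root h ^ m)) •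
        AdjoinRoot.root h ^ (h.natDegree - 1 - m), fun i hi => ?_⟩
      rw [add_mul, map_add, smul_mul_assoc, map_smul, ← pow_add, tau_root_pow hm (by omega)]
      rcases lt_or_eq_of_le (Nat.lt_succ_iff.1 hi) with hi' | rfl
      · rw [ha i hi', if_neg (by omega), smul_zero, add_zero]
      · rw [if_pos (by omega), smul_eq_mul, mul_one, add_sub_cancel]
  have hsurj : Function.Surjective (pairing hm) := fun f => by
    obtain ⟨a, ha⟩ := key f h.natDegree le_rfl
    refine ⟨a, pb.basis.ext fun i => ?_⟩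
    rw [pb.coe_basis, pairing_apply]
    exact ha i i.2
  haveI := hm.finite_adjoinRoot
  let e : (AdjoinRoot h →ₗ[O] O) ≃ₗ[O] AdjoinRoot h := (pb.basis.constr O).symm.trans pb.basis.equivFun.symm
  have h2 := OrzechProperty.injective_of_surjective_endomorphism (e.toLinearMap.comp (pairing hm))
    (e.surjective.comp hsurj)
  exact ⟨fun x y hxy => h2 (by simp [hxy]), hsurj⟩

theorem eq_of_tau_mul {x y : AdjoinRoot h} (hxy : ∀ a, tau hm (a * x) = tau hm (a * y)) : x = y :=
  (pairing_bijective hm).1 (LinearMap.ext fun a => by rw [pairing_apply, pairing_apply, mul_comm x, mul_comm y, hxy])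

variable {M : Type v} [AddCommGroup M] [Module O M] (Θ : AdjoinRoot h →ₐ[O] Module.End O M)

/-- The equivariant map attached to a linear form. -/
def dualLift (f : M →ₗ[O] O) : M →ₗ[O] AdjoinRoot h :=
  (LinearEquiv.ofBijective (pairing hm) (pairing_bijective hm)).symm.toLinearMap.comp
    ((LinearMap.llcomp O (AdjoinRoot h) M O f).comp Θ.toLinearMap.flip)

theorem tau_mul_dualLift (f : M →ₗ[O] O) (a : AdjoinRoot h) (x : M) :
    tau hm (a * dualLift hm Θ f x) = f (Θ a x) := by
  obtain ⟨y, hy⟩ := (pairing_bijective hm).2 ((LinearMap.llcomp O (AdjoinRoot h) M O f) (Θ.toLinearMap.flip x))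
  have h1 : dualLift hm Θ f x = y := by
    simp only [dualLift, LinearMap.comp_apply, LinearEquiv.coe_coe]
    rw [LinearEquiv.symm_apply_eq, LinearEquiv.ofBijective_apply, hy]
  rw [h1, mul_comm, ← pairing_apply, hy]
  simp

theorem dualLift_apply (f : M →ₗ[O] O) (a : AdjoinRoot h) (x : M) :
    dualLift hm Θ f (Θ a x) = a * dualLift hm Θ f x :=
  eq_of_tau_mul hm fun b => by
    rw [tau_mul_dualLift, ← mul_assoc, tau_mul_dualLift, map_mul, Module.End.mul_apply]

theorem dualLift_add (f f' : M →ₗ[O] O) : dualLift hm Θ (f + f') = dualLift hm Θ f + dualLift hm Θ f' :=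
  LinearMap.ext fun x => eq_of_tau_mul hm fun b => by
    rw [LinearMap.add_apply, mul_add, map_add, tau_mul_dualLift, tau_mul_dualLift, tau_mul_dualLift,
      LinearMap.add_apply]

theorem dualLift_smul (c : O) (f : M →ₗ[O] O) : dualLift hm Θ (c • f) = c • dualLift hm Θ f :=
  LinearMap.ext fun x => eq_of_tau_mul hm fun b => by
    rw [LinearMap.smul_apply, mul_smul_comm, map_smul, tau_mul_dualLift, tau_mul_dualLift, LinearMap.smul_apply]

/-- An equivariant map is the lift of its top coefficient. -/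
theorem dualLift_tau_comp (a : AdjoinRoot h) (ψ : M →ₗ[O] AdjoinRoot h) (hψ : ∀ b x, ψ (Θ b x) = b * ψ x) :
    dualLift hm Θ ((tau hm).comp ((LinearMap.mulLeft O a).comp ψ)) = (LinearMap.mulLeft O a).comp ψ :=
  LinearMap.ext fun x => eq_of_tau_mul hm fun b => by
    rw [tau_mul_dualLift]
    simp only [LinearMap.comp_apply, LinearMap.mulLeft_apply, hψ, mul_left_comm]

end Duality

theorem exists_mul_eq_zero_of_pow {R : Type*} [CommRing R] (m : Ideal R) :
    ∀ k : ℕ, (∃ b : R, b ≠ 0 ∧ ∀ c ∈ m ^ k, b * c = 0) → ∃ a : R, a ≠ 0 ∧ ∀ c ∈ m, a * c = 0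
  | 0, ⟨b, hb, hbc⟩ => absurd (by simpa using hbc 1 (by simp)) hb
  | k + 1, ⟨b, hb, hbc⟩ => by
    by_cases hall : ∀ c ∈ m ^ k, b * c = 0
    · exact exists_mul_eq_zero_of_pow m k ⟨b, hb, hall⟩
    push Not at hall
    obtain ⟨c, hc, hbc'⟩ := hall
    exact ⟨b * c, hbc', fun d hd => by
      rw [mul_assoc]; exact hbc _ (by rw [pow_succ]; exact Ideal.mul_mem_mul hc hd)⟩

/-- In an artinian ring every maximal ideal kills a nonzero element. -/
theorem exists_mul_eq_zero_of_mem {R : Type*} [CommRing R] [IsArtinianRing R] (m : Ideal R) [hm : m.IsMaximal] :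
    ∃ a : R, a ≠ 0 ∧ ∀ c ∈ m, a * c = 0 := by
  obtain ⟨n, hn⟩ := IsArtinian.monotone_stabilizes (R := R) (M := R)
    ⟨fun j => OrderDual.toDual (m ^ j), fun i j hij => Ideal.pow_le_pow_right hij⟩
  have hidem : IsIdempotentElem (m ^ (n + 1)) := by
    rw [IsIdempotentElem, ← pow_add]
    exact (hn (n + 1 + (n + 1)) (by omega)).symm.trans (hn (n + 1) (by omega))
  haveI : IsNoetherianRing R := inferInstance
  obtain ⟨e, he, hIe⟩ := (Ideal.isIdempotentElem_iff_of_fg _ (IsNoetherian.noetherian _)).1 hidem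
  refine exists_mul_eq_zero_of_pow m (n + 1) ⟨1 - e, fun h0 => hm.ne_top ?_, fun c hc => ?_⟩
  · rw [Ideal.eq_top_iff_one]
    have h1 : (1 : R) ∈ m ^ (n + 1) := by rw [hIe, sub_eq_zero.1 h0]; exact Submodule.mem_span_singleton_self e
    exact Ideal.pow_le_self (by omega) h1
  · rw [hIe] at hc
    obtain ⟨d, rfl⟩ := Submodule.mem_span_singleton.1 hc
    rw [smul_eq_mul, sub_mul, one_mul, mul_left_comm, he.eq, sub_self]

variable {l : ℕ} [hl : Fact l.Prime]

/-- The reduction of a monogenic algebra is finite. -/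
theorem finite_quotient {h : ℤ_[l][X]} (hm : h.Monic) :
    Finite (AdjoinRoot h ⧸ Ideal.span {(l : AdjoinRoot h)}) := by
  let pb := AdjoinRoot.powerBasis' hm
  refine Finite.of_surjective
    (fun v : Fin pb.dim → ZMod l => Ideal.Quotient.mk _ (∑ i, ((v i).val : AdjoinRoot h) * pb.basis i)) fun y => ?_
  obtain ⟨x, rfl⟩ := Ideal.Quotient.mk_surjective y
  choose w hw using fun i => Ideal.mem_span_singleton.1 (PadicInt.appr_spec 1 (pb.basis.repr x i))
  refine ⟨fun i => ((pb.basis.repr x i).appr 1 : ZMod l), Ideal.Quotient.eq.2 (Ideal.mem_span_singleton.2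
    ⟨-∑ i, algebraMap ℤ_[l] _ (w i) * pb.basis i, ?_⟩)⟩
  conv_lhs => arg 2; rw [← pb.basis.sum_repr x]
  rw [mul_neg, Finset.mul_sum, ← Finset.sum_neg_distrib, ← Finset.sum_sub_distrib]
  refine Finset.sum_congr rfl fun i _ => ?_
  have hlt : (pb.basis.repr x i).appr 1 < l := by simpa using PadicInt.appr_lt (pb.basis.repr x i) 1
  rw [ZMod.val_cast_of_lt hlt, Algebra.smul_def, ← sub_mul, ← mul_assoc, ← neg_mul,
    ← map_natCast (algebraMap ℤ_[l] (AdjoinRoot h)) ((pb.basis.repr x i).appr 1),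
    ← map_natCast (algebraMap ℤ_[l] (AdjoinRoot h)) l, ← map_mul, ← map_sub, ← map_neg]
  congr 2
  have h1 := hw i
  rw [pow_one] at h1
  rw [← h1, neg_sub]

variable {M : Type v} [AddCommGroup M] [Module ℤ_[l] M] [Module.Free ℤ_[l] M] [Module.Finite ℤ_[l] M]

/-- **A lattice whose commutant is the algebra is free of rank one.** -/
theorem exists_equiv {h : ℤ_[l][X]} (hm : h.Monic) (Θ : AdjoinRoot h →ₐ[ℤ_[l]] Module.End ℤ_[l] M)
    (hΘ : Function.Injective Θ) (hrk : Module.finrank ℤ_[l] M = h.natDegree)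
    (hcomm : ∀ u : Module.End ℤ_[l] M, (∀ a, u * Θ a = Θ a * u) → ∃ a, Θ a = u) :
    ∃ e : M ≃ₗ[ℤ_[l]] AdjoinRoot h, ∀ a x, e (Θ a x) = a * e x := by
  haveI := hm.finite_adjoinRoot
  haveI : Finite (AdjoinRoot h ⧸ Ideal.span {(l : AdjoinRoot h)}) := finite_quotient hm
  have hlM : Function.Injective (fun x : M => (l : ℤ_[l]) • x) :=
    smul_right_injective M (Nat.cast_ne_zero.2 hl.out.ne_zero)
  -- maximal ideals contain `l`
  have hlmem : ∀ m : Ideal (AdjoinRoot h), m.IsMaximal → (l : AdjoinRoot h) ∈ m := fun m hmax => by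
    haveI := hmax
    have h1 := IsLocalRing.eq_maximalIdeal (Ideal.isMaximal_comap_of_isIntegral_of_isMaximal (R := ℤ_[l]) m)
    have h2 : (l : ℤ_[l]) ∈ m.comap (algebraMap ℤ_[l] (AdjoinRoot h)) := by
      rw [h1, PadicInt.maximalIdeal_eq_span_p]; exact Ideal.mem_span_singleton_self _
    rwa [Ideal.mem_comap, map_natCast] at h2
  -- some lift is a unit at every maximal ideal
  have hstep : ∀ m : Ideal (AdjoinRoot h), m.IsMaximal → ∃ (f : M →ₗ[ℤ_[l]] ℤ_[l]) (x : M),
      dualLift hm Θ f x ∉ m := by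
    intro m hmax
    by_contra hc
    push Not at hc
    let π := Ideal.Quotient.mk (Ideal.span {(l : AdjoinRoot h)})
    haveI : IsArtinianRing (AdjoinRoot h ⧸ Ideal.span {(l : AdjoinRoot h)}) := inferInstance
    haveI := hmax
    haveI : (m.map π).IsMaximal :=
      (Ideal.map_eq_top_or_isMaximal_of_surjective π Ideal.Quotient.mk_surjective ‹m.IsMaximal›).resolve_left fun htop => by
        have h1 : m ⊔ Ideal.span {(l : AdjoinRoot h)} = ⊤ := by
          have := congrArg (Ideal.comap π) htop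
          rwa [Ideal.comap_map_of_surjective π Ideal.Quotient.mk_surjective, Ideal.comap_top, ← RingHom.ker_eq_comap_bot,
            Ideal.mk_ker] at this
        exact ‹m.IsMaximal›.ne_top (by rwa [sup_eq_left.2 ((Ideal.span_singleton_le_iff_mem m).2 (hlmem m hmax))] at h1)
    obtain ⟨abar, habar, hkill⟩ := exists_mul_eq_zero_of_mem (m.map π)
    obtain ⟨a, rfl⟩ := Ideal.Quotient.mk_surjective abar
    have hdiv : ∀ (f : M →ₗ[ℤ_[l]] ℤ_[l]) (x : M), ∃ c : ℤ_[l], f (Θ a x) = (l : ℤ_[l]) * c := fun f x => by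
      have h1 := hkill _ (Ideal.mem_map_of_mem π (hc f x))
      rw [← map_mul, Ideal.Quotient.eq_zero_iff_mem, Ideal.mem_span_singleton] at h1
      obtain ⟨b, hb⟩ := h1
      refine ⟨tau hm b, ?_⟩
      rw [← tau_mul_dualLift hm Θ f a x, hb, ← map_natCast (algebraMap ℤ_[l] (AdjoinRoot h)), ← Algebra.smul_def,
        map_smul, smul_eq_mul]
    let b := Module.Free.chooseBasis ℤ_[l] M
    have hrange : ∀ x, Θ a x ∈ LinearMap.range (LinearMap.lsmul ℤ_[l] M (l : ℤ_[l])) := fun x => by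
      choose c hc' using fun i => hdiv (b.coord i) x
      refine ⟨∑ i, c i • b i, ?_⟩
      conv_rhs => rw [← b.sum_repr (Θ a x)]
      rw [LinearMap.lsmul_apply, Finset.smul_sum]
      refine Finset.sum_congr rfl fun i _ => ?_
      rw [smul_smul, ← hc', Module.Basis.coord_apply]
    let u : Module.End ℤ_[l] M := (LinearEquiv.ofInjective (LinearMap.lsmul ℤ_[l] M (l : ℤ_[l])) hlM).symm.toLinearMap.comp
      (LinearMap.codRestrict _ (Θ a) hrange)
    have hu : ∀ x, (l : ℤ_[l]) • u x = Θ a x := fun x => by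
      show (LinearMap.lsmul ℤ_[l] M (l : ℤ_[l]))
        ((LinearEquiv.ofInjective (LinearMap.lsmul ℤ_[l] M (l : ℤ_[l])) hlM).symm ⟨Θ a x, hrange x⟩) = _
      exact congrArg Subtype.val
        ((LinearEquiv.ofInjective (LinearMap.lsmul ℤ_[l] M (l : ℤ_[l])) hlM).apply_symm_apply ⟨Θ a x, hrange x⟩)
    obtain ⟨c, hc'⟩ := hcomm u fun d => LinearMap.ext fun x => hlM (by
      show (l : ℤ_[l]) • u (Θ d x) = (l : ℤ_[l]) • Θ d (u x)
      rw [hu, ← map_smul, hu, ← Module.End.mul_apply, ← Module.End.mul_apply, ← map_mul, ← map_mul, mul_comm])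
    refine habar (Ideal.Quotient.eq_zero_iff_mem.2 (Ideal.mem_span_singleton.2 ⟨c, hΘ ?_⟩))
    refine LinearMap.ext fun x => ?_
    rw [← map_natCast (algebraMap ℤ_[l] (AdjoinRoot h)), ← Algebra.smul_def, map_smul, LinearMap.smul_apply, hc', hu]
  -- combine over the finitely many maximal ideals
  have hfin : {m : Ideal (AdjoinRoot h) | m.IsMaximal}.Finite := by
    haveI : Finite (Ideal (AdjoinRoot h ⧸ Ideal.span {(l : AdjoinRoot h)})) :=
      Finite.of_injective (fun I => (I : Set (AdjoinRoot h ⧸ Ideal.span {(l : AdjoinRoot h)}))) SetLike.coe_injective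
    refine (Set.finite_range (Ideal.comap (Ideal.Quotient.mk (Ideal.span {(l : AdjoinRoot h)})))).subset fun m hmax =>
      ⟨m.map (Ideal.Quotient.mk _), ?_⟩
    rw [Ideal.comap_map_of_surjective _ Ideal.Quotient.mk_surjective, ← RingHom.ker_eq_comap_bot, Ideal.mk_ker]
    exact sup_eq_left.2 ((Ideal.span_singleton_le_iff_mem m).2 (hlmem m hmax))
  let s := hfin.toFinset
  have he : ∀ m ∈ s, ∃ e : AdjoinRoot h, (∀ m' ∈ s, m' ≠ m → e ∈ m') ∧ e ∉ m := fun m hms => by
    by_contra hc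
    push Not at hc
    have hmax : m.IsMaximal := hfin.mem_toFinset.1 hms
    obtain ⟨m', hm', hle⟩ := hmax.isPrime.inf_le'.1 (show (s.erase m).inf id ≤ m from fun e he => hc e fun m' h1 h2 =>
      (Finset.inf_le (f := id) (Finset.mem_erase.2 ⟨h2, h1⟩)) he)
    rw [Finset.mem_erase] at hm'
    exact hm'.1 ((hfin.mem_toFinset.1 hm'.2 : m'.IsMaximal).eq_of_le hmax.ne_top hle)
  choose e he hne using he
  choose F Z hFZ using fun m (hms : m ∈ s) => hstep m (hfin.mem_toFinset.1 hms)
  let ψ : M →ₗ[ℤ_[l]] AdjoinRoot h :=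
    ∑ m ∈ s.attach, (LinearMap.mulLeft ℤ_[l] (e m.1 m.2)).comp (dualLift hm Θ (F m.1 m.2))
  have hψ : ∀ a x, ψ (Θ a x) = a * ψ x := fun a x => by
    simp only [ψ, LinearMap.sum_apply, LinearMap.comp_apply, LinearMap.mulLeft_apply, dualLift_apply, Finset.mul_sum,
      mul_left_comm]
  let x₀ : M := ∑ m ∈ s.attach, Θ (e m.1 m.2) (Z m.1 m.2)
  have hunit : IsUnit (ψ x₀) := by
    by_contra hnu
    obtain ⟨m, hmax, hmem⟩ := exists_max_ideal_of_mem_nonunits hnu
    have hms : m ∈ s := hfin.mem_toFinset.2 hmax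
    refine (hmax.isPrime.mul_notMem (hne m hms) (hmax.isPrime.mul_notMem (hne m hms) (hFZ m hms))) ?_
    rw [← Ideal.Quotient.eq_zero_iff_mem] at hmem ⊢
    rw [← hmem]
    have hexp : ψ x₀ = ∑ p ∈ s.attach, ∑ q ∈ s.attach,
        e p.1 p.2 * (e q.1 q.2 * dualLift hm Θ (F p.1 p.2) (Z q.1 q.2)) := by
      simp only [ψ, x₀, LinearMap.sum_apply, LinearMap.comp_apply, LinearMap.mulLeft_apply, map_sum, dualLift_apply,
        Finset.mul_sum]
      first
        | rfl
        | exact Finset.sum_comm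
    have hterm : ∀ p q : {y // y ∈ s}, p ≠ ⟨m, hms⟩ ∨ q ≠ ⟨m, hms⟩ →
        Ideal.Quotient.mk m (e p.1 p.2 * (e q.1 q.2 * dualLift hm Θ (F p.1 p.2) (Z q.1 q.2))) = 0 := by
      rintro ⟨p, hp⟩ ⟨q, hq⟩ hpq
      rw [Ideal.Quotient.eq_zero_iff_mem]
      rcases hpq with hne' | hne'
      · exact Ideal.mul_mem_right _ _ (he p hp m hms fun h => hne' (Subtype.ext h.symm))
      · exact Ideal.mul_mem_left _ _ (Ideal.mul_mem_right _ _ (he q hq m hms fun h => hne' (Subtype.ext h.symm)))
    rw [hexp, map_sum, Finset.sum_eq_single_of_mem (⟨m, hms⟩ : {y // y ∈ s}) (Finset.mem_attach _ _)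
        (fun p _ hp => by rw [map_sum]; exact Finset.sum_eq_zero fun q _ => hterm p q (Or.inl hp)),
      map_sum, Finset.sum_eq_single_of_mem (⟨m, hms⟩ : {y // y ∈ s}) (Finset.mem_attach _ _)
        (fun q _ hq => hterm _ q (Or.inr hq))]
  obtain ⟨w, hw⟩ := hunit
  have hsurj : Function.Surjective ψ := fun y => ⟨Θ (y * ↑w⁻¹) x₀, by rw [hψ, ← hw, mul_assoc, Units.inv_mul, mul_one]⟩
  let eL : AdjoinRoot h ≃ₗ[ℤ_[l]] M :=
    (AdjoinRoot.powerBasis' hm).basis.equiv (Module.finBasis ℤ_[l] M) (finCongr hrk.symm)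
  have hinj : Function.Injective ψ := fun x y hxy =>
    OrzechProperty.injective_of_surjective_endomorphism (eL.toLinearMap.comp ψ) (eL.surjective.comp hsurj)
      (by simp [hxy])
  exact ⟨LinearEquiv.ofBijective ψ ⟨hinj, hsurj⟩, hψ⟩

end GrothLib.Monogenic
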