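import Groth.Agent.Lib.TateThm.MinOrder
import Groth.Agent.Lib.TateThm.Monogenic
import Groth.Agent.Lib.TateThm.FrobGal
import Groth.Agent.Lib.HomFG.TateInj

/-!
# Tate modules over the minimal order
-/

set_option autoImplicit false
set_option linter.all false
set_option backward.isDefEq.respectTransparency false
set_option maxHeartbeats 1000000

universe u v w

open CategoryTheory MonoidalCategory CartesianMonoidalCategory MonObj GrpObj AlgebraicGeometry AbDual
open Polynomial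
open scoped TensorProduct Classical

noncomputable section

namespace GrothLib.TateThm

section LiftEnd

variable {O : Type u} [CommRing O] {h : O[X]} {M : Type v} [AddCommGroup M] [Module O M]

/-- The action of a monogenic algebra given by one endomorphism. -/
def liftEnd (T : Module.End O M) (hT : aeval T h = 0) : AdjoinRoot h →ₐ[O] Module.End O M :=
  Ideal.Quotient.liftₐ (Ideal.span {h}) (aeval T) fun a ha => by
    obtain ⟨c, rfl⟩ := Ideal.mem_span_singleton.1 ha
    rw [map_mul, hT, zero_mul]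

theorem liftEnd_mk (T : Module.End O M) (hT : aeval T h = 0) (Q : O[X]) :
    liftEnd T hT (AdjoinRoot.mk h Q) = aeval T Q := rfl

theorem liftEnd_root (T : Module.End O M) (hT : aeval T h = 0) : liftEnd T hT (AdjoinRoot.root h) = T := by
  rw [← AdjoinRoot.mk_X, liftEnd_mk, aeval_X]

theorem liftEnd_comm {N : Type w} [AddCommGroup N] [Module O N] (T : Module.End O M) (hT : aeval T h = 0)
    (U : Module.End O N) (hU : aeval U h = 0) (f : M →ₗ[O] N) (hf : f ∘ₗ T = U ∘ₗ f) (a : AdjoinRoot h) :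
    f ∘ₗ liftEnd T hT a = liftEnd U hU a ∘ₗ f := by
  obtain ⟨Q, rfl⟩ := AdjoinRoot.mk_surjective a
  rw [liftEnd_mk, liftEnd_mk]
  induction Q using Polynomial.induction_on' with
  | add p q hp hq => rw [map_add, map_add, LinearMap.comp_add, LinearMap.add_comp, hp, hq]
  | monomial n c =>
    rw [aeval_monomial, aeval_monomial, ← Algebra.smul_def, ← Algebra.smul_def, LinearMap.comp_smul,
      LinearMap.smul_comp]
    congr 1
    induction n with
    | zero => rfl
    | succ n ih =>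
      rw [pow_succ, pow_succ, Module.End.mul_eq_comp, Module.End.mul_eq_comp, ← LinearMap.comp_assoc, ih,
        LinearMap.comp_assoc, hf, LinearMap.comp_assoc]

end LiftEnd

section

variable {J : Type v} [Fintype J] {F : J → Type w} [∀ j, Field (F j)] [∀ j, CharZero (F j)] (ϖ : ∀ j, F j)

/-- The minimal central order. -/
abbrev minOrder (p : ℕ) : Subalgebra ℤ (∀ j, F j) :=
  (MvPolynomial.aeval ![fun j => ϖ j, fun j => (p : F j) / ϖ j] : MvPolynomial (Fin 2) ℤ →ₐ[ℤ] (∀ j, F j)).range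

theorem mem_minOrder (p : ℕ) : ϖ ∈ minOrder ϖ p := ⟨MvPolynomial.X 0, by simp⟩

omit [Fintype J] in
/-- A Weil number is nonzero. -/
theorem ne_zero_of_weil {p : ℕ} (hp : p ≠ 0)
    (hweil : ∀ j, ∀ z ∈ (minpoly ℤ (ϖ j)).aroots ℂ, ‖z‖ = Real.sqrt p) (j : J) : ϖ j ≠ 0 := fun h0 => by
  have hz : (0 : ℂ) ∈ (minpoly ℤ (ϖ j)).aroots ℂ := by
    have h1 := minpoly.aeval ℤ (ϖ j)
    nth_rw 1 [h0] at h1
    rw [← Polynomial.coeff_zero_eq_aeval_zero', map_eq_zero_iff _ (algebraMap ℤ (F j)).injective_int] at h1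
    refine Polynomial.mem_aroots.2 ⟨fun h2 => ?_, ?_⟩
    · have h3 := hweil j
      rcases em (IsIntegral ℤ (ϖ j)) with hi | hi
      · exact minpoly.ne_zero hi h2
      · exact hi (by rw [h0]; exact isIntegral_zero)
    · rw [← Polynomial.coeff_zero_eq_aeval_zero', h1, map_zero]
  have h := hweil j 0 hz
  rw [norm_zero] at h
  exact absurd h.symm (Real.sqrt_ne_zero'.2 (by exact_mod_cast Nat.pos_of_ne_zero hp))

/-- The Weil polynomial over the `l`-adic integers. -/
abbrev weilPolyL (l : ℕ) [Fact l.Prime] : ℤ_[l][X] := (weilPoly ϖ).map (Int.castRingHom ℤ_[l])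

end

variable {k Ω : Type u} [Field k] [Finite k] [Field Ω] [Algebra k Ω] [IsAlgClosure k Ω] {l : ℕ} [hl : Fact l.Prime]
variable (hlk : (l : k) ≠ 0)
variable {J : Type v} [Fintype J] {F : J → Type w} [∀ j, Field (F j)] [∀ j, CharZero (F j)] {ϖ : ∀ j, F j}
  (hint : ∀ j, IsIntegral ℤ (ϖ j)) (hinj : ∀ i j, minpoly ℤ (ϖ i) = minpoly ℤ (ϖ j) → i = j)

omit [Finite k] [IsAlgClosure k Ω] [∀ j, CharZero (F j)] in
theorem aeval_tate_weilPolyL {A : Over (Spec (CommRingCat.of k))} [GrpObj A] [IsCommMonObj A] (πA : A ⟶ A)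
    [IsMonHom πA] (hPA : aeval (EndAV.End.of πA) (weilPoly ϖ) = 0) :
    aeval (tateMapₗ (l := l) (T := SGA7.pt Ω) πA) (weilPolyL ϖ l) = 0 := by
  have h1 := congrArg (EndAV.End.tateRep l (SGA7.pt Ω)) hPA
  rw [map_zero, aeval_def, Polynomial.hom_eval₂] at h1
  rw [weilPolyL, aeval_def, Polynomial.eval₂_map,
    Subsingleton.elim ((algebraMap ℤ_[l] (Module.End ℤ_[l] (TateMod A l (SGA7.pt Ω)))).comp (Int.castRingHom ℤ_[l]))
      ((EndAV.End.tateRep l (SGA7.pt Ω)).comp (algebraMap ℤ (EndAV.End A)))]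
  exact h1

variable {p : ℕ} (hpu : IsUnit (p : ℤ_[l])) (hne : ∀ j, ϖ j ≠ 0)
variable {Aw : Over (Spec (CommRingCat.of k))} [GrpObj Aw] [IsCommMonObj Aw] [IsProper Aw.hom]
  [GeometricallyIntegral Aw.hom] (πw : Aw ⟶ Aw) [IsMonHom πw] (hwle : ∀ U : Aw.left.Opens, U ≤ πw.left ⁻¹ᵁ U)
  (hwapp : ∀ (U : Aw.left.Opens) (s : Γ(Aw.left, U)), (πw.left.appLE U U (hwle U)).hom s = s ^ Nat.card k)
  (ρ : minOrder ϖ p ≃+* EndAV.End Aw) (hρ : ρ ⟨ϖ, mem_minOrder ϖ p⟩ = EndAV.End.of πw)
variable [Module.Free ℤ_[l] (TateMod Aw l (SGA7.pt Ω))] [Module.Finite ℤ_[l] (TateMod Aw l (SGA7.pt Ω))]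

include hlk hint hinj hwle hwapp hρ hpu hne in
/-- **The Tate module is free of rank one over the monogenic algebra, which is the whole endomorphism algebra.** -/
theorem exists_lattice_equiv :
    ∃ (hT : aeval (tateMapₗ (l := l) (T := SGA7.pt Ω) πw) (weilPolyL ϖ l) = 0)
      (e : TateMod Aw l (SGA7.pt Ω) ≃ₗ[ℤ_[l]] AdjoinRoot (weilPolyL ϖ l)),
      (∀ a x, e (liftEnd _ hT a x) = a * e x) ∧
      (∀ φ : EndAV.End Aw, ∃ a, liftEnd _ hT a = EndAV.End.tateRep l (SGA7.pt Ω) φ) ∧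
      (∀ a, liftEnd _ hT a ∈ Submodule.span ℤ_[l] (Set.range (EndAV.End.tateRep (A := Aw) l (SGA7.pt Ω)))) := by
  haveI : IsAlgClosed Ω := IsAlgClosure.isAlgClosed k
  let σ := Spec.map (CommRingCat.ofHom (algebraMap k Ω))
  have hR := mem_minOrder ϖ p
  obtain ⟨hchar, -⟩ := charpoly_frob_eq_weilPoly (Ω := Ω) hlk hint hinj πw hwle hwapp hR ρ hρ
  have hm : (weilPolyL ϖ l).Monic := (monic_weilPoly ϖ hint).map _
  have hT : aeval (tateMapₗ (l := l) (T := SGA7.pt Ω) πw) (weilPolyL ϖ l) = 0 := by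
    rw [weilPolyL, ← hchar]; exact LinearMap.aeval_self_charpoly _
  let T := tateMapₗ (l := l) (T := SGA7.pt Ω) πw
  let Θ := liftEnd T hT
  have hTrep : ∀ i : ℕ, T ^ i = EndAV.End.tateRep l (SGA7.pt Ω) (EndAV.End.of πw ^ i) := fun i => by
    rw [map_pow]; rfl
  let pb := AdjoinRoot.powerBasis' hm
  have hgen : pb.gen = AdjoinRoot.root (weilPolyL ϖ l) := rfl
  have hΘb : ∀ i, Θ (pb.basis i) = T ^ (i : ℕ) := fun i => by
    rw [pb.coe_basis, map_pow, hgen, liftEnd_root]
  -- injectivity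
  have hli : LinearIndependent ℤ fun i : Fin pb.dim => (EndAV.End.of πw ^ (i : ℕ) : EndAV.End Aw) := by
    have h1 : LinearIndependent ℤ fun i : Fin (weilPoly ϖ).natDegree => (⟨ϖ, hR⟩ : minOrder ϖ p) ^ (i : ℕ) :=
      Fintype.linearIndependent_iff.2 fun a ha => Fintype.linearIndependent_iff.1
        (linearIndependent_pow_weil ϖ hint hinj) a (by
          have h := congrArg (minOrder ϖ p).val ha
          rw [map_sum, map_zero] at h
          refine Eq.trans (Finset.sum_congr rfl fun i _ => ?_) h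
          rw [map_zsmul, map_pow]
          rfl)
    have h2 := (h1.map' ρ.toAddEquiv.toIntLinearEquiv.toLinearMap (LinearEquiv.ker _)).comp
      (Fin.cast (show pb.dim = (weilPoly ϖ).natDegree from (monic_weilPoly ϖ hint).natDegree_map _)) (Fin.cast_injective _)
    refine Fintype.linearIndependent_iff.2 fun a ha i => Fintype.linearIndependent_iff.1 h2 a ?_ i
    refine Eq.trans (Finset.sum_congr rfl fun i _ => ?_) ha
    show a i • ρ ((⟨ϖ, hR⟩ : minOrder ϖ p) ^ (i : ℕ)) = _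
    rw [map_pow, hρ]
  have hliT := HomFG.linearIndependent_tate (A := Aw) (B := Aw) σ l hlk (e := fun i : Fin pb.dim =>
    (EndAV.End.of πw ^ (i : ℕ) : EndAV.End Aw)) hli
  have hΘ : Function.Injective Θ := by
    refine (injective_iff_map_eq_zero Θ).2 fun a ha => ?_
    have h0 : ∑ i, pb.basis.repr a i • T ^ (i : ℕ) = 0 := by
      rw [← ha]
      conv_rhs => rw [← pb.basis.sum_repr a]
      simp only [map_sum, map_smul, hΘb]
    have h1 := Fintype.linearIndependent_iff.1 hliT (fun i => pb.basis.repr a i) (by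
      refine Eq.trans (Finset.sum_congr rfl fun i _ => ?_) h0
      rw [hTrep]; rfl)
    exact pb.basis.ext_elem fun i => by rw [h1 i, map_zero, Finsupp.zero_apply]
  have hrk : Module.finrank ℤ_[l] (TateMod Aw l (SGA7.pt Ω)) = (weilPolyL ϖ l).natDegree := by
    rw [weilPolyL, ← hchar, LinearMap.charpoly_natDegree]
  -- every endomorphism lies in the algebra
  let r : MvPolynomial (Fin 2) ℤ →+* Module.End ℤ_[l] (TateMod Aw l (SGA7.pt Ω)) :=
    (EndAV.End.tateRep (A := Aw) l (SGA7.pt Ω)).comp (ρ.toRingHom.comp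
      (MvPolynomial.aeval ![fun j => ϖ j, fun j => (p : F j) / ϖ j] :
        MvPolynomial (Fin 2) ℤ →ₐ[ℤ] (∀ j, F j)).rangeRestrict.toRingHom)
  have hr0 : r (MvPolynomial.X 0) = T := by
    have : ((MvPolynomial.aeval ![fun j => ϖ j, fun j => (p : F j) / ϖ j] :
        MvPolynomial (Fin 2) ℤ →ₐ[ℤ] (∀ j, F j)).rangeRestrict (MvPolynomial.X 0)) = ⟨ϖ, hR⟩ := Subtype.ext (by simp)
    show EndAV.End.tateRep (A := Aw) l (SGA7.pt Ω) (ρ _) = _
    erw [this, hρ]
    rfl
  have hr01 : r (MvPolynomial.X 0) * r (MvPolynomial.X 1) = (p : Module.End ℤ_[l] (TateMod Aw l (SGA7.pt Ω))) := by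
    rw [← map_mul]
    have : ((MvPolynomial.aeval ![fun j => ϖ j, fun j => (p : F j) / ϖ j] :
        MvPolynomial (Fin 2) ℤ →ₐ[ℤ] (∀ j, F j)).rangeRestrict (MvPolynomial.X 0 * MvPolynomial.X 1)) = (p : minOrder ϖ p) :=
      Subtype.ext (funext fun j => by simp [mul_div_cancel₀ _ (hne j)])
    show EndAV.End.tateRep (A := Aw) l (SGA7.pt Ω) (ρ _) = _
    erw [this, map_natCast, map_natCast]
  have hc : IsUnit ((weilPolyL ϖ l).coeff 0) := by
    have hd : IsUnit (LinearMap.det T) := by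
      have h := congrArg LinearMap.det hr01
      rw [map_mul, hr0, show (p : Module.End ℤ_[l] (TateMod Aw l (SGA7.pt Ω))) = (p : ℤ_[l]) • LinearMap.id from
        LinearMap.ext fun x => by simp [← Nat.cast_smul_eq_nsmul ℤ_[l]], LinearMap.det_smul, LinearMap.det_id, _root_.mul_one] at h
      exact isUnit_of_mul_isUnit_left (h ▸ hpu.pow _)
    rw [LinearMap.det_eq_sign_charpoly_coeff, hchar] at hd
    exact isUnit_of_mul_isUnit_right hd
  obtain ⟨c, hc⟩ := hc
  let y : AdjoinRoot (weilPolyL ϖ l) := algebraMap ℤ_[l] _ (-(↑c⁻¹ : ℤ_[l]) * (p : ℤ_[l])) * AdjoinRoot.mk _ (weilPolyL ϖ l).divX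
  have hy : AdjoinRoot.root _ * y = algebraMap ℤ_[l] _ (p : ℤ_[l]) := by
    have h1 : AdjoinRoot.root (weilPolyL ϖ l) * AdjoinRoot.mk _ (weilPolyL ϖ l).divX = -algebraMap ℤ_[l] _ ((weilPolyL ϖ l).coeff 0) := by
      rw [← AdjoinRoot.mk_X, ← map_mul, eq_neg_iff_add_eq_zero, AdjoinRoot.algebraMap_eq, ← AdjoinRoot.mk_C, ← map_add,
        X_mul_divX_add, AdjoinRoot.mk_self]
    rw [_root_.mul_left_comm, h1, ← map_neg, ← map_mul, ← hc]
    congr 1
    rw [neg_mul, neg_mul_neg, _root_.mul_assoc, _root_.mul_comm (p : ℤ_[l]), ← _root_.mul_assoc, Units.inv_mul, _root_.one_mul]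
  have hall : ∀ Q, r Q ∈ Set.range Θ := fun Q => by
    induction Q using MvPolynomial.induction_on with
    | C a => exact ⟨(a : AdjoinRoot (weilPolyL ϖ l)), by rw [map_intCast, eq_intCast MvPolynomial.C a, map_intCast]⟩
    | add P Q hP hQ =>
      obtain ⟨a, ha⟩ := hP
      obtain ⟨b, hb⟩ := hQ
      exact ⟨a + b, by rw [map_add, ha, hb, map_add]⟩
    | mul_X P i hP =>
      obtain ⟨a, ha⟩ := hP
      suffices hX : ∀ i : Fin 2, r (MvPolynomial.X i) ∈ Set.range Θ by
        obtain ⟨b, hb⟩ := hX i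
        exact ⟨a * b, by rw [map_mul, ha, hb, map_mul]⟩
      intro i
      fin_cases i
      · exact ⟨AdjoinRoot.root _, (liftEnd_root T hT).trans hr0.symm⟩
      · refine ⟨y, LinearMap.ext fun x => ?_⟩
        skip
        have h1 : Θ y * T = (p : Module.End ℤ_[l] (TateMod Aw l (SGA7.pt Ω))) := by
          rw [← liftEnd_root T hT, ← map_mul, _root_.mul_comm y, hy, AlgHom.commutes, map_natCast]
        have h2 := congrArg (Θ y * ·) hr01
        simp only [hr0, ← _root_.mul_assoc, h1] at h2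
        have h3 := LinearMap.congr_fun h2 x
        simp only [Module.End.mul_apply, Module.End.natCast_apply] at h3
        rw [map_nsmul, ← Nat.cast_smul_eq_nsmul ℤ_[l], ← Nat.cast_smul_eq_nsmul ℤ_[l]] at h3
        exact (smul_right_injective _ hpu.ne_zero h3).symm
  have hmem : ∀ φ : EndAV.End Aw, ∃ a, Θ a = EndAV.End.tateRep l (SGA7.pt Ω) φ := fun φ => by
    obtain ⟨⟨x, Q, hQ⟩, rfl⟩ := ρ.surjective φ
    obtain ⟨a, ha⟩ := hall Q
    refine ⟨a, ha.trans ?_⟩
    show EndAV.End.tateRep (A := Aw) l (SGA7.pt Ω) (ρ _) = _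
    congr 2
    exact Subtype.ext hQ
  obtain ⟨e, he⟩ := Monogenic.exists_equiv hm Θ hΘ hrk fun u hu => by
    have hu' : u ∘ₗ T = T ∘ₗ u := by
      have := hu (AdjoinRoot.root _)
      rwa [liftEnd_root] at this
    have h := mem_span_tateMap hlk u fun τ => galT_comm_of_frob (Ω := Ω) πw hwle hwapp πw hwle hwapp hlk u hu' τ
    show u ∈ LinearMap.range Θ.toLinearMap
    refine Submodule.span_le.2 ?_ h
    rintro _ ⟨φ, rfl⟩
    obtain ⟨a, ha⟩ := hmem φ
    exact ⟨a, ha⟩
  refine ⟨hT, e, he, hmem, fun a => ?_⟩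
  rw [← pb.basis.sum_repr a, map_sum]
  refine Submodule.sum_mem _ fun i _ => ?_
  rw [map_smul, hΘb, hTrep]
  exact Submodule.smul_mem _ _ (Submodule.subset_span ⟨_, rfl⟩)

end GrothLib.TateThm
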