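import Groth.Agent.Lib.TateThm.MinLattice

/-!
# The lattice functor and Tate modules
-/

set_option autoImplicit false
set_option linter.all false
set_option backward.isDefEq.respectTransparency false
set_option maxHeartbeats 1000000

universe u v w

open CategoryTheory MonoidalCategory CartesianMonoidalCategory MonObj GrpObj AlgebraicGeometry AbDual
open Polynomial
open scoped TensorProduct Classical

noncomputable section

namespace GrothLib.TateThm

variable {k Ω : Type u} [Field k] [Finite k] [Field Ω] [Algebra k Ω] [IsAlgClosure k Ω] {l : ℕ} [hl : Fact l.Prime]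
variable (hlk : (l : k) ≠ 0)
variable {J : Type v} [Fintype J] {F : J → Type w} [∀ j, Field (F j)] [∀ j, CharZero (F j)] {ϖ : ∀ j, F j}
  (hint : ∀ j, IsIntegral ℤ (ϖ j)) (hinj : ∀ i j, minpoly ℤ (ϖ i) = minpoly ℤ (ϖ j) → i = j)
variable {p : ℕ} (hpu : IsUnit (p : ℤ_[l])) (hne : ∀ j, ϖ j ≠ 0)
variable {Aw : Over (Spec (CommRingCat.of k))} [GrpObj Aw] [IsCommMonObj Aw] [IsProper Aw.hom]
  [GeometricallyIntegral Aw.hom] (πw : Aw ⟶ Aw) [IsMonHom πw] (hwle : ∀ U : Aw.left.Opens, U ≤ πw.left ⁻¹ᵁ U)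
  (hwapp : ∀ (U : Aw.left.Opens) (s : Γ(Aw.left, U)), (πw.left.appLE U U (hwle U)).hom s = s ^ Nat.card k)
  (ρ : minOrder ϖ p ≃+* EndAV.End Aw) (hρ : ρ ⟨ϖ, mem_minOrder ϖ p⟩ = EndAV.End.of πw)
variable [Module.Free ℤ_[l] (TateMod Aw l (SGA7.pt Ω))] [Module.Finite ℤ_[l] (TateMod Aw l (SGA7.pt Ω))]

omit [Finite k] [IsAlgClosure k Ω] [IsProper Aw.hom] [GeometricallyIntegral Aw.hom] [Module.Free ℤ_[l] (TateMod Aw l (SGA7.pt Ω))]
  [Module.Finite ℤ_[l] (TateMod Aw l (SGA7.pt Ω))] in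
theorem span_range_basis {A : Over (Spec (CommRingCat.of k))} [GrpObj A] [IsCommMonObj A] {n : ℕ}
    (b : Module.Basis (Fin n) ℤ (EndAV.Hom A Aw)) :
    Submodule.span ℤ_[l] (Set.range fun i => EndAV.Hom.tateMap l (SGA7.pt Ω) (b i)) =
      Submodule.span ℤ_[l] (Set.range (EndAV.Hom.tateMap (A := A) (B := Aw) l (SGA7.pt Ω))) := by
  refine le_antisymm (Submodule.span_mono (Set.range_comp_subset_range (fun i => b i) _)) (Submodule.span_le.2 ?_)
  rintro _ ⟨φ, rfl⟩
  rw [← b.sum_repr φ, map_sum]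
  refine Submodule.sum_mem _ fun i _ => ?_
  rw [map_zsmul, ← Int.cast_smul_eq_zsmul ℤ_[l]]
  exact Submodule.smul_mem _ _ (Submodule.subset_span ⟨i, rfl⟩)

include hlk hint hinj hwle hwapp hρ hpu hne in
/-- **A generator of the Tate module.** -/
theorem exists_generator :
    ∃ x : TateMod Aw l (SGA7.pt Ω), ∀ (n : ℕ) (b : Module.Basis (Fin n) ℤ (EndAV.End Aw)),
      LinearIndependent ℤ_[l] (fun i => EndAV.End.tateRep l (SGA7.pt Ω) (b i) x) ∧
        Submodule.span ℤ_[l] (Set.range fun i => EndAV.End.tateRep l (SGA7.pt Ω) (b i) x) = ⊤ := by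
  haveI : IsAlgClosed Ω := IsAlgClosure.isAlgClosed k
  let σ := Spec.map (CommRingCat.ofHom (algebraMap k Ω))
  obtain ⟨hT, e, he, hmem, hspan⟩ := exists_lattice_equiv (Ω := Ω) hlk hint hinj hpu hne πw hwle hwapp ρ hρ
  refine ⟨e.symm 1, fun n b => ⟨?_, ?_⟩⟩
  · refine Fintype.linearIndependent_iff.2 fun c hc => ?_
    have hli := HomFG.linearIndependent_tate (A := Aw) (B := Aw) σ l hlk (e := fun i => (b i : EndAV.End Aw))
      b.linearIndependent
    choose a ha using hmem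
    have h0 : liftEnd _ hT (∑ i, c i • a (b i)) (e.symm 1) = 0 := by
      refine Eq.trans ?_ hc
      rw [map_sum, LinearMap.sum_apply]
      exact Finset.sum_congr rfl fun i _ => by rw [map_smul, LinearMap.smul_apply, ha]
    have h1 := congrArg e h0
    rw [he, e.apply_symm_apply, _root_.mul_one, map_zero] at h1
    have h2 := congrArg (liftEnd _ hT) h1
    rw [map_sum, map_zero] at h2
    refine Fintype.linearIndependent_iff.1 hli c (Eq.trans (Finset.sum_congr rfl fun i _ => ?_) h2)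
    rw [map_smul, ha]
    rfl
  · refine eq_top_iff.2 fun y _ => ?_
    have hy : y = liftEnd _ hT (e y) (e.symm 1) := e.injective (by rw [he, e.apply_symm_apply, _root_.mul_one])
    rw [hy]
    have h := hspan (e y)
    rw [show Submodule.span ℤ_[l] (Set.range (EndAV.End.tateRep (A := Aw) l (SGA7.pt Ω))) =
      Submodule.span ℤ_[l] (Set.range fun i => EndAV.End.tateRep l (SGA7.pt Ω) (b i)) from
      (span_range_basis (A := Aw) (Aw := Aw) b).symm] at h
    obtain ⟨c, hc⟩ := (Submodule.mem_span_range_iff_exists_fun _).1 h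
    rw [← hc, LinearMap.sum_apply]
    exact Submodule.sum_mem _ fun i _ => Submodule.smul_mem _ _ (Submodule.subset_span ⟨i, rfl⟩)

variable {A : Over (Spec (CommRingCat.of k))} [GrpObj A] [IsCommMonObj A] [IsProper A.hom] [GeometricallyIntegral A.hom]
  (πA : A ⟶ A) [IsMonHom πA] (hAle : ∀ U : A.left.Opens, U ≤ πA.left ⁻¹ᵁ U)
  (hAapp : ∀ (U : A.left.Opens) (s : Γ(A.left, U)), (πA.left.appLE U U (hAle U)).hom s = s ^ Nat.card k)
  [Module.Free ℤ_[l] (TateMod A l (SGA7.pt Ω))] [Module.Finite ℤ_[l] (TateMod A l (SGA7.pt Ω))]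
  (hPA : aeval (EndAV.End.of πA) (weilPoly ϖ) = 0)

include hlk hint hinj hwle hwapp hρ hpu hne hAle hAapp hPA in
/-- **The Tate module is the dual of the lattice of homomorphisms.** -/
theorem tateMod_to_homs_bijective :
    (∀ x y : TateMod A l (SGA7.pt Ω),
        (∀ φ : EndAV.Hom A Aw, EndAV.Hom.tateMap l (SGA7.pt Ω) φ x = EndAV.Hom.tateMap l (SGA7.pt Ω) φ y) → x = y) ∧
      (∀ g : EndAV.Hom A Aw →+ TateMod Aw l (SGA7.pt Ω),
        (∀ (φ : EndAV.Hom A Aw) (s : EndAV.End Aw), g (φ ≫ s) = EndAV.End.tateRep l (SGA7.pt Ω) s (g φ)) →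
          ∃ x : TateMod A l (SGA7.pt Ω), ∀ φ : EndAV.Hom A Aw, g φ = EndAV.Hom.tateMap l (SGA7.pt Ω) φ x) := by
  haveI : IsAlgClosed Ω := IsAlgClosure.isAlgClosed k
  haveI : IsIntegral A.left := GeometricallyIntegral.isIntegral_of_subsingleton A.hom
  let σ := Spec.map (CommRingCat.ofHom (algebraMap k Ω))
  have hm : (weilPolyL ϖ l).Monic := (monic_weilPoly ϖ hint).map _
  obtain ⟨hT, e, he, hmem, hspan⟩ := exists_lattice_equiv (Ω := Ω) hlk hint hinj hpu hne πw hwle hwapp ρ hρ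
  have hTA := aeval_tate_weilPolyL (Ω := Ω) (l := l) (ϖ := ϖ) πA hPA
  let Θ := liftEnd _ hT
  let ΘA := liftEnd _ hTA
  let S := Submodule.span ℤ_[l] (Set.range (EndAV.Hom.tateMap (A := A) (B := Aw) l (SGA7.pt Ω)))
  have hesymm : ∀ a y, e.symm (a * y) = Θ a (e.symm y) := fun a y =>
    e.injective (by rw [e.apply_symm_apply, he, e.apply_symm_apply])
  have hlift : ∀ f : TateMod A l (SGA7.pt Ω) →ₗ[ℤ_[l]] ℤ_[l],
      e.symm.toLinearMap ∘ₗ Monogenic.dualLift hm ΘA f ∈ S := fun f =>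
    mem_span_tateMap hlk _ fun τ => galT_comm_of_frob (Ω := Ω) πA hAle hAapp πw hwle hwapp hlk _
      (LinearMap.ext fun x => by
        show e.symm (Monogenic.dualLift hm ΘA f (tateMapₗ (l := l) (T := SGA7.pt Ω) πA x)) = _
        rw [← liftEnd_root (tateMapₗ (l := l) (T := SGA7.pt Ω) πA) hTA, Monogenic.dualLift_apply, hesymm, liftEnd_root]
        rfl) τ
  have hψ : ∀ (φ : EndAV.Hom A Aw) (b : AdjoinRoot (weilPolyL ϖ l)) (x : TateMod A l (SGA7.pt Ω)),
      e (EndAV.Hom.tateMap l (SGA7.pt Ω) φ (ΘA b x)) = b * e (EndAV.Hom.tateMap l (SGA7.pt Ω) φ x) := fun φ b x => by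
    have h := LinearMap.congr_fun (liftEnd_comm (tateMapₗ (l := l) (T := SGA7.pt Ω) πA) hTA
      (tateMapₗ (l := l) (T := SGA7.pt Ω) πw) hT (EndAV.Hom.tateMap l (SGA7.pt Ω) φ) (by
        rw [EndAV.Hom.tateMap_apply, tateMapₗ_comp, tateMapₗ_comp]
        exact LinearMap.ext fun z => TateMod.ext fun i =>
          congrArg Additive.ofMul (congrArg (_ ≫ ·) (Poincare.comm_frob πA πw hAle hAapp hwle hwapp φ.toHom).symm)) b) x
    simp only [LinearMap.comp_apply] at h
    rw [h, he]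
  refine ⟨fun x y hxy => ?_, fun g hg => ?_⟩
  · refine (Module.bijective_dual_eval ℤ_[l] (TateMod A l (SGA7.pt Ω))).1 (LinearMap.ext fun f => ?_)
    have hz : ∀ u ∈ S, u x = u y := fun u hu => by
      induction hu using Submodule.span_induction with
      | mem u hu => obtain ⟨φ, rfl⟩ := hu; exact hxy φ
      | zero => rfl
      | add u v _ _ h1 h2 => rw [LinearMap.add_apply, LinearMap.add_apply, h1, h2]
      | smul c u _ h1 => rw [LinearMap.smul_apply, LinearMap.smul_apply, h1]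
    have h := e.symm.injective (hz _ (hlift f))
    have h2 := congrArg (fun z => Monogenic.tau hm (1 * z)) h
    simp only [Monogenic.tau_mul_dualLift, map_one, Module.End.one_apply] at h2
    exact h2
  · haveI := HomFG.free_hom (A := A) (B := Aw)
    haveI := HomFG.finite_hom (A := A) (B := Aw)
    let b := Module.finBasis ℤ (EndAV.Hom A Aw)
    have hli := HomFG.linearIndependent_tate (A := A) (B := Aw) σ l hlk b.linearIndependent
    have hS : S = Submodule.span ℤ_[l] (Set.range fun i => EndAV.Hom.tateMap l (SGA7.pt Ω) (b i)) :=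
      (span_range_basis b).symm
    let bb := (Module.Basis.span hli).map (LinearEquiv.ofEq _ _ hS.symm)
    let G : S →ₗ[ℤ_[l]] TateMod Aw l (SGA7.pt Ω) := bb.constr ℤ_[l] fun i => g (b i)
    have hGφ : ∀ φ, G ⟨EndAV.Hom.tateMap l (SGA7.pt Ω) φ, Submodule.subset_span ⟨φ, rfl⟩⟩ = g φ := fun φ => by
      let G' : EndAV.Hom A Aw →+ TateMod Aw l (SGA7.pt Ω) :=
        { toFun := fun φ => G ⟨EndAV.Hom.tateMap l (SGA7.pt Ω) φ, Submodule.subset_span ⟨φ, rfl⟩⟩
          map_zero' := by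
            refine Eq.trans (congrArg G (Subtype.ext ?_)) (map_zero G)
            exact map_zero _
          map_add' := fun φ ψ => by
            refine Eq.trans (congrArg G (Subtype.ext ?_)) (map_add G _ _)
            exact map_add _ φ ψ }
      show G'.toIntLinearMap φ = g.toIntLinearMap φ
      refine LinearMap.congr_fun (b.ext fun i => ?_) φ
      show G _ = g (b i)
      refine Eq.trans (congrArg G (Subtype.ext ?_)) (bb.constr_basis ℤ_[l] (fun i => g (b i)) i)
      simp [bb, Module.Basis.span_apply]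
    have hGsmul : ∀ (a : AdjoinRoot (weilPolyL ϖ l)) (φ : EndAV.Hom A Aw),
        ∃ hu : Θ a ∘ₗ EndAV.Hom.tateMap l (SGA7.pt Ω) φ ∈ S, G ⟨_, hu⟩ = Θ a (g φ) := fun a φ => by
      suffices ∀ U ∈ Submodule.span ℤ_[l] (Set.range (EndAV.End.tateRep (A := Aw) l (SGA7.pt Ω))),
          ∃ hu : U ∘ₗ EndAV.Hom.tateMap l (SGA7.pt Ω) φ ∈ S, G ⟨_, hu⟩ = U (g φ) from this _ (hspan a)
      intro U hU
      induction hU using Submodule.span_induction with
      | mem U hU =>
        obtain ⟨s, rfl⟩ := hU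
        have h : EndAV.End.tateRep l (SGA7.pt Ω) s ∘ₗ EndAV.Hom.tateMap l (SGA7.pt Ω) φ =
            EndAV.Hom.tateMap l (SGA7.pt Ω) (φ ≫ s) := tateMapₗ_comp φ.toHom s.toHom
        refine ⟨h ▸ Submodule.subset_span ⟨_, rfl⟩, ?_⟩
        refine Eq.trans (congrArg G (Subtype.ext h)) ((hGφ _).trans (hg φ s))
      | zero => exact ⟨by simp, Eq.trans (congrArg G (Subtype.ext (LinearMap.zero_comp _))) (map_zero G)⟩
      | add U V _ _ h1 h2 =>
        obtain ⟨h1, e1⟩ := h1
        obtain ⟨h2, e2⟩ := h2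
        refine ⟨by rw [LinearMap.add_comp]; exact add_mem h1 h2, ?_⟩
        rw [LinearMap.add_apply, ← e1, ← e2, ← map_add]
        exact congrArg G (Subtype.ext (LinearMap.add_comp _ _ _))
      | smul c U _ h1 =>
        obtain ⟨h1, e1⟩ := h1
        refine ⟨by rw [LinearMap.smul_comp]; exact Submodule.smul_mem _ c h1, ?_⟩
        rw [LinearMap.smul_apply, ← e1, ← map_smul]
        exact congrArg G (Subtype.ext (LinearMap.smul_comp _ _ _))
    let Fn : Module.Dual ℤ_[l] (TateMod A l (SGA7.pt Ω)) →ₗ[ℤ_[l]] ℤ_[l] :=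
      { toFun := fun f => Monogenic.tau hm (e (G ⟨_, hlift f⟩))
        map_add' := fun f f' => by
          rw [← map_add, ← map_add, ← map_add]
          exact congrArg (fun z => Monogenic.tau hm (e (G z)))
            (Subtype.ext ((congrArg (e.symm.toLinearMap ∘ₗ ·) (Monogenic.dualLift_add hm ΘA f f')).trans
              (LinearMap.comp_add _ _ _)))
        map_smul' := fun c f => by
          rw [RingHom.id_apply, ← map_smul, ← map_smul, ← map_smul]
          exact congrArg (fun z => Monogenic.tau hm (e (G z)))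
            (Subtype.ext ((congrArg (e.symm.toLinearMap ∘ₗ ·) (Monogenic.dualLift_smul hm ΘA c f)).trans
              (LinearMap.comp_smul _ _ _))) }
    obtain ⟨x, hx⟩ := (Module.bijective_dual_eval ℤ_[l] (TateMod A l (SGA7.pt Ω))).2 Fn
    refine ⟨x, fun φ => e.injective (Monogenic.eq_of_tau_mul hm fun a => ?_)⟩
    let f : TateMod A l (SGA7.pt Ω) →ₗ[ℤ_[l]] ℤ_[l] := (Monogenic.tau hm).comp
      ((LinearMap.mulLeft ℤ_[l] a).comp (e.toLinearMap ∘ₗ EndAV.Hom.tateMap l (SGA7.pt Ω) φ))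
    have h1 : f x = Fn f := LinearMap.congr_fun hx f
    have h2 : Fn f = Monogenic.tau hm (a * e (g φ)) := by
      obtain ⟨hu, hGu⟩ := hGsmul a φ
      have h3 : e.symm.toLinearMap ∘ₗ Monogenic.dualLift hm ΘA f = Θ a ∘ₗ EndAV.Hom.tateMap l (SGA7.pt Ω) φ := by
        rw [Monogenic.dualLift_tau_comp hm ΘA a _ (hψ φ)]
        refine LinearMap.ext fun z => ?_
        show e.symm (a * e (EndAV.Hom.tateMap l (SGA7.pt Ω) φ z)) = _
        rw [hesymm, e.symm_apply_apply]
        rfl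
      show Monogenic.tau hm (e (G ⟨_, hlift f⟩)) = _
      rw [congrArg G (Subtype.ext h3 : (⟨_, hlift f⟩ : S) = ⟨_, hu⟩), hGu, he]
    exact (h1.trans h2).symm

end GrothLib.TateThm
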