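import Groth.Agent.Lib.TateThm.Structure
import Groth.Agent.Lib.DegPoly.MinpolyPow

/-!
# Abelian varieties with endomorphism ring generated by Weil numbers
-/

set_option autoImplicit false
set_option linter.all false
set_option backward.isDefEq.respectTransparency false
set_option maxHeartbeats 1000000

universe u v w

open CategoryTheory MonoidalCategory CartesianMonoidalCategory MonObj GrpObj AlgebraicGeometry AbDual
open Polynomial UniqueFactorizationMonoid
open scoped TensorProduct Classical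

noncomputable section

namespace GrothLib.TateThm

section WeilPoly

variable {J : Type v} [Fintype J] {F : J → Type w} [∀ j, Field (F j)] [∀ j, CharZero (F j)] (ϖ : ∀ j, F j)
  (hint : ∀ j, IsIntegral ℤ (ϖ j)) (hinj : ∀ i j, minpoly ℤ (ϖ i) = minpoly ℤ (ϖ j) → i = j)

/-- The product of the minimal polynomials of a family. -/
def weilPoly : ℤ[X] := ∏ j, minpoly ℤ (ϖ j)

include hint in
theorem monic_weilPoly : (weilPoly ϖ).Monic := monic_prod_of_monic _ _ fun j _ => minpoly.monic (hint j)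

omit [∀ j, CharZero (F j)] in
theorem aeval_weilPoly : aeval ϖ (weilPoly ϖ) = 0 := by
  funext j
  rw [show (aeval ϖ (weilPoly ϖ)) j = Pi.evalAlgHom ℤ F j (aeval ϖ (weilPoly ϖ)) from rfl, Pi.zero_apply,
    ← aeval_algHom_apply, weilPoly, map_prod]
  exact Finset.prod_eq_zero (Finset.mem_univ j) (minpoly.aeval ℤ (ϖ j))

include hint in
theorem irreducible_map_minpoly (j : J) : Irreducible ((minpoly ℤ (ϖ j)).map (Int.castRingHom ℚ)) :=
  ((minpoly.monic (hint j)).irreducible_iff_irreducible_map_fraction_map (K := ℚ)).1 (minpoly.irreducible (hint j))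

include hint hinj in
theorem isCoprime_map_minpoly {i j : J} (hij : i ≠ j) :
    IsCoprime ((minpoly ℤ (ϖ i)).map (Int.castRingHom ℚ)) ((minpoly ℤ (ϖ j)).map (Int.castRingHom ℚ)) := by
  refine ((irreducible_map_minpoly ϖ hint i).coprime_iff_not_dvd).2 fun h => hij (hinj i j ?_)
  exact Polynomial.map_injective _ (RingHom.injective_int _)
    (eq_of_monic_of_associated ((minpoly.monic (hint i)).map _) ((minpoly.monic (hint j)).map _)
      ((irreducible_map_minpoly ϖ hint i).associated_of_dvd (irreducible_map_minpoly ϖ hint j) h))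

include hint hinj in
theorem squarefree_weilPoly : Squarefree ((weilPoly ϖ).map (Int.castRingHom ℚ)) := by
  rw [weilPoly, Polynomial.map_prod]
  exact Finset.squarefree_prod_of_pairwise_isCoprime (fun i _ j _ hij => (isCoprime_map_minpoly ϖ hint hinj hij).isRelPrime)
    fun j _ => (irreducible_map_minpoly ϖ hint j).squarefree

include hint hinj in
/-- A polynomial vanishing on the family is divisible, over `ℚ`, by the product. -/
theorem weilPoly_dvd {Q : ℤ[X]} (hQ : aeval ϖ Q = 0) :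
    (weilPoly ϖ).map (Int.castRingHom ℚ) ∣ Q.map (Int.castRingHom ℚ) := by
  rw [weilPoly, Polynomial.map_prod]
  refine Fintype.prod_dvd_of_coprime (fun i j hij => isCoprime_map_minpoly ϖ hint hinj hij) fun j => ?_
  refine Polynomial.map_dvd _ (minpoly.isIntegrallyClosed_dvd (hint j) ?_)
  rw [← Pi.evalAlgHom_apply (R := ℤ) (A := F) j ϖ, aeval_algHom_apply, hQ, map_zero]

include hint hinj in
/-- The powers below the degree are independent. -/
theorem linearIndependent_pow_weil :
    LinearIndependent ℤ fun i : Fin (weilPoly ϖ).natDegree => ϖ ^ (i : ℕ) := by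
  refine Fintype.linearIndependent_iff.2 fun a ha i => ?_
  let Q : ℤ[X] := ∑ i : Fin (weilPoly ϖ).natDegree, Polynomial.C (a i) * X ^ (i : ℕ)
  have hQ : aeval ϖ Q = 0 := by
    rw [map_sum]
    refine Eq.trans (Finset.sum_congr rfl fun i _ => ?_) ha
    rw [map_mul, aeval_C, map_pow, aeval_X, ← Algebra.smul_def]
  have hQ0 : Q = 0 := by
    refine Polynomial.map_injective (Int.castRingHom ℚ) (RingHom.injective_int _) ?_
    rw [Polynomial.map_zero]
    by_contra hne
    have h1 := natDegree_le_of_dvd (weilPoly_dvd ϖ hint hinj hQ) hne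
    rw [(monic_weilPoly ϖ hint).natDegree_map] at h1
    have hdeg : Q.degree < (weilPoly ϖ).natDegree := by
      refine lt_of_le_of_lt (degree_sum_le _ _) ((Finset.sup_lt_iff (WithBot.bot_lt_coe _)).2 fun i _ => ?_)
      exact lt_of_le_of_lt (degree_C_mul_X_pow_le _ _) (WithBot.coe_lt_coe.2 i.2)
    have hQne : Q ≠ 0 := fun h => hne (by rw [h, Polynomial.map_zero])
    rw [degree_eq_natDegree hQne, Nat.cast_lt] at hdeg
    exact absurd (h1.trans natDegree_map_le) (not_le.2 hdeg)
  have h := congrArg (fun p => p.coeff (i : ℕ)) hQ0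
  simpa [Q, finset_sum_coeff, coeff_C_mul, coeff_X_pow, Fin.val_inj] using h

end WeilPoly

variable {k Ω : Type u} [Field k] [Finite k] [Field Ω] [Algebra k Ω] [IsAlgClosure k Ω] {l : ℕ} [hl : Fact l.Prime]
variable (hlk : (l : k) ≠ 0)
variable {J : Type v} [Fintype J] {F : J → Type w} [∀ j, Field (F j)] [∀ j, CharZero (F j)] {ϖ : ∀ j, F j}
  (hint : ∀ j, IsIntegral ℤ (ϖ j)) (hinj : ∀ i j, minpoly ℤ (ϖ i) = minpoly ℤ (ϖ j) → i = j)
variable {Aw : Over (Spec (CommRingCat.of k))} [GrpObj Aw] [IsCommMonObj Aw] [IsProper Aw.hom]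
  [GeometricallyIntegral Aw.hom] (πw : Aw ⟶ Aw) [IsMonHom πw] (hwle : ∀ U : Aw.left.Opens, U ≤ πw.left ⁻¹ᵁ U)
  (hwapp : ∀ (U : Aw.left.Opens) (s : Γ(Aw.left, U)), (πw.left.appLE U U (hwle U)).hom s = s ^ Nat.card k)
variable {R : Subalgebra ℤ (∀ j, F j)} (hR : ϖ ∈ R) (ρ : R ≃+* EndAV.End Aw) (hρ : ρ ⟨ϖ, hR⟩ = EndAV.End.of πw)

section

omit [Finite k]

include hρ in
omit [∀ j, CharZero (F j)] [IsProper Aw.hom] [GeometricallyIntegral Aw.hom] in
theorem aeval_frob_weilPoly : aeval (EndAV.End.of πw) (weilPoly ϖ) = 0 := by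
  have h : aeval (⟨ϖ, hR⟩ : R) (weilPoly ϖ) = 0 := Subtype.ext (by
    rw [← Subalgebra.coe_val, ← aeval_algHom_apply]
    exact aeval_weilPoly ϖ)
  have h2 := congrArg ρ.toRingHom h
  rw [map_zero, aeval_def, Polynomial.hom_eval₂,
    Subsingleton.elim (ρ.toRingHom.comp (algebraMap ℤ R)) (algebraMap ℤ (EndAV.End Aw))] at h2
  rw [← hρ]
  exact h2

omit [∀ j, CharZero (F j)] [IsProper Aw.hom] [GeometricallyIntegral Aw.hom] in
include ρ in
theorem commute_end (a b : EndAV.End Aw) : a * b = b * a := by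
  obtain ⟨x, rfl⟩ := ρ.surjective a
  obtain ⟨y, rfl⟩ := ρ.surjective b
  rw [← map_mul, ← map_mul, mul_comm]

include hint hinj hρ in
/-- The rank of the endomorphism ring is at least the degree. -/
theorem natDegree_weilPoly_le : (weilPoly ϖ).natDegree ≤ Module.finrank ℤ (EndAV.End Aw) := by
  haveI : Module.Finite ℤ (EndAV.End Aw) := HomFG.finite_hom (A := Aw) (B := Aw)
  have hli : LinearIndependent ℤ fun i : Fin (weilPoly ϖ).natDegree => (⟨ϖ, hR⟩ : R) ^ (i : ℕ) :=
    Fintype.linearIndependent_iff.2 fun a ha => Fintype.linearIndependent_iff.1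
      (linearIndependent_pow_weil ϖ hint hinj) a (by
        have h := congrArg R.val ha
        rw [map_sum, map_zero] at h
        refine Eq.trans (Finset.sum_congr rfl fun i _ => ?_) h
        rw [map_zsmul, map_pow]
        rfl)
  have h := (hli.map' ρ.toAddEquiv.toIntLinearEquiv.toLinearMap (LinearEquiv.ker _)).fintype_card_le_finrank
  rwa [Fintype.card_fin] at h

end

variable [Module.Free ℤ_[l] (TateMod Aw l (SGA7.pt Ω))] [Module.Finite ℤ_[l] (TateMod Aw l (SGA7.pt Ω))]

include hlk hint hinj hwle hwapp hρ in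
/-- **The characteristic polynomial of Frobenius is the product of the minimal polynomials.** -/
theorem charpoly_frob_eq_weilPoly :
    (tateMapₗ (l := l) (T := SGA7.pt Ω) πw).charpoly = (weilPoly ϖ).map (Int.castRingHom ℤ_[l]) ∧
      ∀ g : ℕ, topologicalKrullDim Aw.left = (g : WithBot ℕ∞) → (weilPoly ϖ).natDegree = 2 * g ∧
        Module.finrank ℤ (EndAV.End Aw) = 2 * g := by
  haveI : IsAlgClosed Ω := IsAlgClosure.isAlgClosed k
  haveI : Module.Finite ℤ (EndAV.End Aw) := HomFG.finite_hom (A := Aw) (B := Aw)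
  haveI : Module.Free ℤ (EndAV.End Aw) := HomFG.free_hom (A := Aw) (B := Aw)
  let σ := Spec.map (CommRingCat.ofHom (algebraMap k Ω))
  obtain ⟨g, hg⟩ := AbTors.exists_dim Aw
  obtain ⟨P, hPm, hPd, -, hPc⟩ := DegPoly.exists_int_charpoly_hom σ hg πw
  have hP : (tateMapₗ (l := l) (T := SGA7.pt Ω) πw).charpoly = P.map (Int.castRingHom ℤ_[l]) := hPc l hlk
  have hsq := (commutative_iff (Ω := Ω) hlk hg πw hwle hwapp P hP).1 (commute_end ρ)
  have hrk := (squarefree_iff_finrank (Ω := Ω) hlk hg πw hwle hwapp P hP).1 hsq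
  rw [Module.finrank_baseChange] at hrk
  have hh := monic_weilPoly ϖ hint
  obtain ⟨n, hn⟩ := DegPoly.map_dvd_pow_of_aeval_eq_zero σ l hlk (EndAV.End.of πw) hP (aeval_frob_weilPoly πw hR ρ hρ)
  have hdvd : P.map (Int.castRingHom ℚ) ∣ (weilPoly ϖ).map (Int.castRingHom ℚ) := by
    rcases eq_or_ne n 0 with rfl | hn0
    · exact hn.trans (by rw [pow_zero]; exact one_dvd _)
    · exact (hsq.dvd_pow_iff_dvd hn0).1 hn
  have hle := natDegree_weilPoly_le hint hinj πw hR ρ hρ
  rw [hrk] at hle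
  have heq : P = weilPoly ϖ := Polynomial.map_injective _ (RingHom.injective_int (Int.castRingHom ℚ))
    (Polynomial.eq_of_monic_of_dvd_of_natDegree_le (hPm.map _) (hh.map _) hdvd
      (by rw [hh.natDegree_map, hPm.natDegree_map, hPd]; exact hle)).symm
  refine ⟨heq ▸ hP, fun g' hg' => ?_⟩
  obtain rfl : g = g' := by exact_mod_cast hg.symm.trans hg'
  exact ⟨heq ▸ hPd, hrk⟩

include hlk hint hinj hwle hwapp hρ in
/-- **The rank of `Hom(A, Aw)` is `2 dim A`.** -/
theorem finrank_hom_weil {A : Over (Spec (CommRingCat.of k))} [GrpObj A] [IsCommMonObj A] [IsProper A.hom]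
    [GeometricallyIntegral A.hom] (πA : A ⟶ A) [IsMonHom πA] (hAle : ∀ U : A.left.Opens, U ≤ πA.left ⁻¹ᵁ U)
    (hAapp : ∀ (U : A.left.Opens) (s : Γ(A.left, U)), (πA.left.appLE U U (hAle U)).hom s = s ^ Nat.card k)
    [Module.Free ℤ_[l] (TateMod A l (SGA7.pt Ω))] [Module.Finite ℤ_[l] (TateMod A l (SGA7.pt Ω))]
    (hPA : aeval (EndAV.End.of πA) (weilPoly ϖ) = 0) {g : ℕ} (hg : topologicalKrullDim A.left = (g : WithBot ℕ∞)) :
    Module.finrank ℤ (EndAV.Hom A Aw) = 2 * g := by
  haveI : IsAlgClosed Ω := IsAlgClosure.isAlgClosed k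
  let σ := Spec.map (CommRingCat.ofHom (algebraMap k Ω))
  obtain ⟨P, hPm, hPd, -, hPc⟩ := DegPoly.exists_int_charpoly_hom σ hg πA
  have hP : (tateMapₗ (l := l) (T := SGA7.pt Ω) πA).charpoly = P.map (Int.castRingHom ℤ_[l]) := hPc l hlk
  obtain ⟨hPw, -⟩ := charpoly_frob_eq_weilPoly (Ω := Ω) hlk hint hinj πw hwle hwapp hR ρ hρ
  obtain ⟨n, hn⟩ := DegPoly.map_dvd_pow_of_aeval_eq_zero σ l hlk (EndAV.End.of πA) hP hPA
  rw [finrank_hom_eq_sum (Ω := Ω) hlk πA hAle hAapp πw hwle hwapp, charpoly_baseChange_eq πA P hP,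
    charpoly_baseChange_eq πw (weilPoly ϖ) hPw]
  have hne : P.map (Int.castRingHom ℚ) ≠ 0 := (hPm.map _).ne_zero
  have hneW : (weilPoly ϖ).map (Int.castRingHom ℚ) ≠ 0 := ((monic_weilPoly ϖ hint).map _).ne_zero
  refine (sum_count_map (L := ℚ_[l]) _ _ hne hneW).trans ?_
  have hdeg : ∑ Q ∈ (normalizedFactors (P.map (Int.castRingHom ℚ))).toFinset,
      (normalizedFactors (P.map (Int.castRingHom ℚ))).count Q * Q.natDegree = 2 * g := by
    obtain ⟨w, hw⟩ := prod_normalizedFactors hne
    have hd := congrArg Polynomial.natDegree hw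
    rw [Polynomial.natDegree_mul (left_ne_zero_of_mul (hw ▸ hne)) w.ne_zero, Polynomial.natDegree_coe_units, add_zero,
      Polynomial.natDegree_multiset_prod _ (zero_notMem_normalizedFactors _), hPm.natDegree_map, hPd,
      Finset.sum_multiset_map_count] at hd
    simpa only [smul_eq_mul] using hd
  refine Eq.trans (Finset.sum_congr rfl fun Q hQ => ?_) hdeg
  have hQP := Multiset.mem_toFinset.1 hQ
  have h1 : Q ∈ normalizedFactors (((weilPoly ϖ).map (Int.castRingHom ℚ)) ^ n) :=
    Multiset.mem_of_le ((dvd_iff_normalizedFactors_le_normalizedFactors hne (pow_ne_zero _ hneW)).1 hn) hQP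
  rw [normalizedFactors_pow] at h1
  have hnd := (squarefree_iff_nodup_normalizedFactors hneW).1 (squarefree_weilPoly ϖ hint hinj)
  rw [Multiset.count_eq_one_of_mem hnd (Multiset.mem_of_mem_nsmul h1), Nat.mul_one]

end GrothLib.TateThm
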