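import Groth.Agent.Lib.Poincare.Biext
import Groth.Agent.Lib.Poincare.MumfordPoincare
import Mathlib.Algebra.BigOperators.Fin
import Mathlib.Data.Fin.VecNotation
import Mathlib.Tactic.Module

/-!
# The quadratic form of a symmetric class and Zarhin's identity
-/

set_option autoImplicit false
set_option linter.all false
set_option backward.isDefEq.respectTransparency false
set_option maxHeartbeats 1000000

universe u

open CategoryTheory CategoryTheory.Limits AlgebraicGeometry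
open MonoidalCategory CartesianMonoidalCategory MonObj
open GrothLib.Ample GrothLib.Cube

noncomputable section

namespace GrothLib.TateThm

/-- The fourfold power. -/
abbrev P4 {k : Type u} [Field k] (A : Over (Spec (CommRingCat.of k))) : Over (Spec (CommRingCat.of k)) :=
  (A ⊗ A) ⊗ (A ⊗ A)

variable {k : Type u} [Field k] {A B S : Over (Spec (CommRingCat.of k))}

/-- The projections of the fourfold power. -/
def pr4 (A : Over (Spec (CommRingCat.of k))) : Fin 4 → (P4 A ⟶ A) :=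
  ![fst (A ⊗ A) (A ⊗ A) ≫ fst A A, fst (A ⊗ A) (A ⊗ A) ≫ snd A A,
    snd (A ⊗ A) (A ⊗ A) ≫ fst A A, snd (A ⊗ A) (A ⊗ A) ≫ snd A A]

/-- A point of the fourfold power. -/
def lift4 (f : Fin 4 → (S ⟶ A)) : S ⟶ P4 A := lift (lift (f 0) (f 1)) (lift (f 2) (f 3))

/-- The fourfold power of a map. -/
def map4 (f : A ⟶ B) : P4 A ⟶ P4 B := (f ⊗ₘ f) ⊗ₘ (f ⊗ₘ f)

theorem lift4_pr (f : Fin 4 → (S ⟶ A)) (i : Fin 4) : lift4 f ≫ pr4 A i = f i := by
  fin_cases i <;> simp [lift4, pr4]

theorem map4_pr (f : A ⟶ B) (i : Fin 4) : map4 f ≫ pr4 B i = pr4 A i ≫ f := by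
  fin_cases i <;> simp [map4, pr4]

theorem hom_ext4 {f g : S ⟶ P4 A} (h : ∀ i, f ≫ pr4 A i = g ≫ pr4 A i) : f = g := by
  refine CartesianMonoidalCategory.hom_ext _ _ (CartesianMonoidalCategory.hom_ext _ _ ?_ ?_)
    (CartesianMonoidalCategory.hom_ext _ _ ?_ ?_)
  · simpa [pr4] using h 0
  · simpa [pr4] using h 1
  · simpa [pr4] using h 2
  · simpa [pr4] using h 3

instance isMonHom_pr4 [GrpObj A] (i : Fin 4) : IsMonHom (pr4 A i) := by
  fin_cases i <;> (simp only [pr4]; exact inferInstanceAs (IsMonHom (_ ≫ _)))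

instance isMonHom_map4 [GrpObj A] [GrpObj B] (f : A ⟶ B) [IsMonHom f] : IsMonHom (map4 f) :=
  inferInstanceAs (IsMonHom ((f ⊗ₘ f) ⊗ₘ (f ⊗ₘ f)))

variable {X : Over (Spec (CommRingCat.of k))} [GrpObj X] [IsProper X.hom] [GeometricallyIntegral X.hom]

/-- The value of a class along a map, written additively. -/
def Q (z : Pic X.left) (f : S ⟶ X) : Additive (Pic S.left) := Additive.ofMul (pull f.left z)

/-- The bilinear form of a class, written additively. -/
def Bil (z : Pic X.left) (f g : S ⟶ X) : Additive (Pic S.left) :=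
  Additive.ofMul (KL.pairing (MumfordPoincare.lam z) f g)

omit [IsProper X.hom] [GeometricallyIntegral X.hom] in
theorem pairing_lam (z : Pic X.left) (f g : S ⟶ X) : KL.pairing (MumfordPoincare.lam z) f g = addClass f g z := by
  rw [KL.pairing, MumfordPoincare.lam, KL.mc, pull_addClass, lift_fst, Category.comp_id, lift_snd]

omit [IsProper X.hom] [GeometricallyIntegral X.hom] in
theorem isBirigid_lam (z : Pic X.left) : KL.IsBirigid (MumfordPoincare.lam z) := by
  refine ⟨KL.pull_sec_mc z (𝟙 X), ?_⟩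
  show KL.pairing (MumfordPoincare.lam z) (𝟙 X) 1 = 1
  rw [pairing_lam, addClass, _root_.mul_one, pull_one_hom, _root_.mul_one, mul_inv_cancel]

omit [IsProper X.hom] [GeometricallyIntegral X.hom] in
theorem Q_mul (z : Pic X.left) (f g : S ⟶ X) : Q z (f * g) = Q z f + Q z g + Bil z f g := by
  simp only [Q, Bil, ← ofMul_mul, pairing_lam, addClass]
  congr 1
  rw [_root_.mul_comm (pull (f * g).left z), mul_inv_cancel_left]

theorem Bil_mul_left (z : Pic X.left) (f f' g : S ⟶ X) : Bil z (f * f') g = Bil z f g + Bil z f' g :=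
  congrArg Additive.ofMul (KL.pairing_mul_left (isBirigid_lam z) f f' g)

theorem Bil_mul_right (z : Pic X.left) (f g g' : S ⟶ X) : Bil z f (g * g') = Bil z f g + Bil z f g' :=
  congrArg Additive.ofMul (KL.pairing_mul_right (isBirigid_lam z) f g g')

theorem Bil_zpow_left (z : Pic X.left) (f g : S ⟶ X) (a : ℤ) : Bil z (f ^ a) g = a • Bil z f g :=
  congrArg Additive.ofMul (map_zpow (KL.leftHom (isBirigid_lam z) g) f a)

theorem Bil_zpow_right (z : Pic X.left) (f g : S ⟶ X) (a : ℤ) : Bil z f (g ^ a) = a • Bil z f g :=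
  congrArg Additive.ofMul (map_zpow (KL.rightHom (isBirigid_lam z) f) g a)

theorem Q_zpow [IsCommMonObj X] {z : Pic X.left} (hz : pull ((𝟙 X)⁻¹ : X ⟶ X).left z = z) (f : S ⟶ X) (a : ℤ) :
    Q z (f ^ a) = (a ^ 2) • Q z f := by
  have hnat : ∀ n : ℕ, pull (f ^ n).left z = pull f.left z ^ (n ^ 2) := fun n => by
    rw [show f ^ n = f ≫ (𝟙 X : X ⟶ X) ^ n by rw [MonObj.comp_pow, Category.comp_id], ← pull_pull_over,
      pull_pow_of_symmetric hz n, map_pow]
  have hinv : ∀ h : S ⟶ X, pull h⁻¹.left z = pull h.left z := fun h => by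
    rw [show h⁻¹ = h ≫ (𝟙 X : X ⟶ X)⁻¹ by rw [GrpObj.comp_inv, Category.comp_id], ← pull_pull_over, hz]
  have key : pull (f ^ a).left z = pull f.left z ^ (a ^ 2) := by
    obtain ⟨n, rfl | rfl⟩ := a.eq_nat_or_neg
    · rw [zpow_natCast, hnat, ← zpow_natCast, Nat.cast_pow]
    · rw [zpow_neg, zpow_natCast, hinv, hnat, ← zpow_natCast, Nat.cast_pow, neg_sq]
  exact congrArg Additive.ofMul key

/-- The matrix of multiplication by a quaternion. -/
def quat (a b c d : ℤ) : Fin 4 → Fin 4 → ℤ :=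
  ![![a, -b, -c, -d], ![b, a, -d, c], ![c, d, a, -b], ![d, -c, b, a]]

/-- The combination of four maps by a row. -/
def comb (y : Fin 4 → (S ⟶ X)) (r : Fin 4 → ℤ) : S ⟶ X := y 0 ^ r 0 * y 1 ^ r 1 * y 2 ^ r 2 * y 3 ^ r 3

/-- **Zarhin's identity.** -/
theorem quad_identity [IsCommMonObj X] {z : Pic X.left} (hz : pull ((𝟙 X)⁻¹ : X ⟶ X).left z = z)
    (x y : Fin 4 → (S ⟶ X)) {m a b c d : ℤ} (h : m ^ 2 = 1 + (a ^ 2 + b ^ 2 + c ^ 2 + d ^ 2)) :
    ∑ i, Q z (x i ^ m * comb y (quat a b c d i)) + ∑ i, Q z (y i) =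
      m ^ 2 • ∑ i, Q z (x i) + m ^ 2 • ∑ i, Q z (y i) + m • ∑ i, ∑ j, quat a b c d i j • Bil z (x i) (y j) := by
  simp only [Fin.sum_univ_four, comb, quat, Q_mul, Q_zpow hz, Bil_mul_left, Bil_mul_right, Bil_zpow_left,
    Bil_zpow_right, Matrix.cons_val_zero, Matrix.cons_val_one, Matrix.cons_val_two, Matrix.cons_val_three,
    Matrix.tail_cons, Matrix.head_cons]
  simp only [h]
  module

end GrothLib.TateThm
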