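import Groth.Agent.Lib.TateThm.FrobGal
import Groth.Agent.Lib.TateThm.LinAlg
import Groth.Agent.Lib.Poincare.RHyp

/-!
# Ranks of homomorphism groups over finite fields
-/

set_option autoImplicit false
set_option linter.all false
set_option backward.isDefEq.respectTransparency false
set_option maxHeartbeats 1000000

universe u

open CategoryTheory MonoidalCategory CartesianMonoidalCategory MonObj GrpObj AlgebraicGeometry AbDual
open Polynomial UniqueFactorizationMonoid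
open scoped TensorProduct Classical

noncomputable section

namespace GrothLib.TateThm

section General

variable {k Ω : Type u} [Field k] [Field Ω] [Algebra k Ω] [IsAlgClosure k Ω] {l : ℕ} [hl : Fact l.Prime]
variable {A B : Over (Spec (CommRingCat.of k))} [GrpObj A] [IsCommMonObj A] [IsProper A.hom]
  [GeometricallyIntegral A.hom] [GrpObj B] [IsCommMonObj B] [IsProper B.hom] [GeometricallyIntegral B.hom]

/-- The rational Tate map on homomorphisms. -/
def tateQ (l : ℕ) [Fact l.Prime] (Ω : Type u) [Field Ω] [Algebra k Ω] (A B : Over (Spec (CommRingCat.of k)))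
    [GrpObj A] [IsCommMonObj A] [GrpObj B] [IsCommMonObj B] :
    EndAV.Hom A B →ₗ[ℤ] ((ℚ_[l] ⊗[ℤ_[l]] TateMod A l (SGA7.pt Ω)) →ₗ[ℚ_[l]] (ℚ_[l] ⊗[ℤ_[l]] TateMod B l (SGA7.pt Ω))) :=
  (((LinearMap.baseChangeHom ℤ_[l] ℚ_[l] (TateMod A l (SGA7.pt Ω)) (TateMod B l (SGA7.pt Ω))).toAddMonoidHom).comp
    (EndAV.Hom.tateMap l (SGA7.pt Ω))).toIntLinearMap

theorem tateQ_apply (φ : EndAV.Hom A B) :
    tateQ l Ω A B φ = (tateMapₗ (l := l) (T := SGA7.pt Ω) φ.toHom).baseChange ℚ_[l] := rfl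

theorem tateQ_mem (φ : EndAV.Hom A B) : tateQ l Ω A B φ ∈ homSpan l Ω A B := mem_homSpan φ.toHom

/-- Independent homomorphisms stay independent. -/
theorem linearIndependent_tateQ (hlk : (l : k) ≠ 0) {n : ℕ} {e : Fin n → EndAV.Hom A B} (he : LinearIndependent ℤ e) :
    LinearIndependent ℚ_[l] fun i => tateQ l Ω A B (e i) := by
  haveI : IsAlgClosed Ω := IsAlgClosure.isAlgClosed k
  let σ := Spec.map (CommRingCat.ofHom (algebraMap k Ω))
  have hfin : Module.Finite ℤ_[l] (TateMod B l (SGA7.pt Ω)) := AbTors.module_finite B σ l hlk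
  have h := (HomFG.linearIndependent_tate σ l hlk he).map'
    (LinearMap.baseChangeHom ℤ_[l] ℚ_[l] (TateMod A l (SGA7.pt Ω)) (TateMod B l (SGA7.pt Ω)))
    (LinearMap.ker_eq_bot.2 fun u v huv => baseChange_injective hfin huv)
  exact (LinearIndependent.iff_fractionRing ℤ_[l] ℚ_[l]).1 h

/-- A basis of the homomorphisms. -/
theorem exists_basis : ∃ (r : ℕ) (e : Fin r → EndAV.Hom A B), r = Module.finrank ℤ (EndAV.Hom A B) ∧
    LinearIndependent ℤ e ∧ Submodule.span ℤ (Set.range e) = ⊤ := by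
  haveI := HomFG.finite_hom (A := A) (B := B)
  haveI := HomFG.free_hom (A := A) (B := B)
  let b := Module.finBasis ℤ (EndAV.Hom A B)
  exact ⟨_, b, rfl, b.linearIndependent, b.span_eq⟩

theorem homSpan_eq_span {r : ℕ} {e : Fin r → EndAV.Hom A B} (he : Submodule.span ℤ (Set.range e) = ⊤) :
    homSpan l Ω A B = Submodule.span ℚ_[l] (Set.range fun i => tateQ l Ω A B (e i)) := by
  refine le_antisymm (Submodule.span_le.2 ?_) (Submodule.span_le.2 ?_)
  · rintro _ ⟨f, hf, rfl⟩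
    have hmem : tateQ l Ω A B (EndAV.Hom.of f) ∈ (Submodule.span ℤ (Set.range e)).map (tateQ l Ω A B) :=
      ⟨_, he.symm ▸ trivial, rfl⟩
    rw [Submodule.map_span, ← Set.range_comp] at hmem
    exact Submodule.span_le_restrictScalars ℤ ℚ_[l] _ hmem
  · rintro _ ⟨i, rfl⟩
    exact tateQ_mem _

theorem finrank_homSpan (hlk : (l : k) ≠ 0) :
    Module.finrank ℚ_[l] (homSpan l Ω A B) = Module.finrank ℤ (EndAV.Hom A B) := by
  obtain ⟨r, e, hr, hli, hspan⟩ := exists_basis (A := A) (B := B)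
  rw [homSpan_eq_span hspan, finrank_span_eq_card (linearIndependent_tateQ hlk hli), Fintype.card_fin, hr]

end General

variable {k Ω : Type u} [Field k] [Finite k] [Field Ω] [Algebra k Ω] [IsAlgClosure k Ω] {l : ℕ} [hl : Fact l.Prime]
variable (hlk : (l : k) ≠ 0)
variable {A B : Over (Spec (CommRingCat.of k))} [GrpObj A] [IsCommMonObj A] [IsProper A.hom]
  [GeometricallyIntegral A.hom] [GrpObj B] [IsCommMonObj B] [IsProper B.hom] [GeometricallyIntegral B.hom]
variable (πA : A ⟶ A) [IsMonHom πA] (hAle : ∀ U : A.left.Opens, U ≤ πA.left ⁻¹ᵁ U)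
  (hAapp : ∀ (U : A.left.Opens) (s : Γ(A.left, U)), (πA.left.appLE U U (hAle U)).hom s = s ^ Nat.card k)
variable (πB : B ⟶ B) [IsMonHom πB] (hBle : ∀ U : B.left.Opens, U ≤ πB.left ⁻¹ᵁ U)
  (hBapp : ∀ (U : B.left.Opens) (s : Γ(B.left, U)), (πB.left.appLE U U (hBle U)).hom s = s ^ Nat.card k)

include hlk hAle hAapp hBle hBapp

theorem ker_eq_homSpan :
    LinearMap.ker (LinearMap.lcomp ℚ_[l] _ ((tateMapₗ (l := l) (T := SGA7.pt Ω) πA).baseChange ℚ_[l]) -
        LinearMap.llcomp ℚ_[l] _ _ _ ((tateMapₗ (l := l) (T := SGA7.pt Ω) πB).baseChange ℚ_[l]) :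
      ((ℚ_[l] ⊗[ℤ_[l]] TateMod A l (SGA7.pt Ω)) →ₗ[ℚ_[l]] (ℚ_[l] ⊗[ℤ_[l]] TateMod B l (SGA7.pt Ω))) →ₗ[ℚ_[l]]
        ((ℚ_[l] ⊗[ℤ_[l]] TateMod A l (SGA7.pt Ω)) →ₗ[ℚ_[l]] (ℚ_[l] ⊗[ℤ_[l]] TateMod B l (SGA7.pt Ω)))) =
      homSpan l Ω A B := by
  rw [ker_lcomp_sub_llcomp]
  ext φ
  exact ⟨fun h => mem_homSpan_of_frob πA hAle hAapp πB hBle hBapp hlk φ (LinearMap.ext (mem_comm.1 h)),
    fun h => mem_comm.2 fun x => LinearMap.congr_fun (frob_comm_of_mem_homSpan πA hAle hAapp πB hBle hBapp h) x⟩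

/-- **The rank of the group of homomorphisms.** -/
theorem finrank_hom_eq_sum [Module.Free ℤ_[l] (TateMod A l (SGA7.pt Ω))] [Module.Finite ℤ_[l] (TateMod A l (SGA7.pt Ω))]
    [Module.Free ℤ_[l] (TateMod B l (SGA7.pt Ω))] [Module.Finite ℤ_[l] (TateMod B l (SGA7.pt Ω))] :
    Module.finrank ℤ (EndAV.Hom A B) =
      ∑ P ∈ (normalizedFactors ((tateMapₗ (l := l) (T := SGA7.pt Ω) πA).baseChange ℚ_[l]).charpoly).toFinset,
        (normalizedFactors ((tateMapₗ (l := l) (T := SGA7.pt Ω) πA).baseChange ℚ_[l]).charpoly).count P *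
          (normalizedFactors ((tateMapₗ (l := l) (T := SGA7.pt Ω) πB).baseChange ℚ_[l]).charpoly).count P *
            P.natDegree := by
  classical
  haveI : IsAlgClosed Ω := IsAlgClosure.isAlgClosed k
  let σ := Spec.map (CommRingCat.ofHom (algebraMap k Ω))
  have h := finrank_intertwiners ((tateMapₗ (l := l) (T := SGA7.pt Ω) πA).baseChange ℚ_[l])
    ((tateMapₗ (l := l) (T := SGA7.pt Ω) πB).baseChange ℚ_[l])
    (Poincare.isSemisimple_frob_tate σ l hlk A πA hAle hAapp)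
    (Poincare.isSemisimple_frob_tate σ l hlk B πB hBle hBapp)
  rw [ker_eq_homSpan hlk πA hAle hAapp πB hBle hBapp, finrank_homSpan hlk] at h
  convert h using 3

end GrothLib.TateThm
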