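import Groth.Agent.Lib.Poincare.RHypRoot
import Groth.Agent.Lib.DegPoly.Apps
import Groth.Agent.Lib.TateThm.Counts
import Mathlib.RingTheory.Polynomial.Resultant.Basic
import Mathlib.Analysis.SpecialFunctions.Log.Basic

/-!
# The Frobenius roots come in conjugate pairs, and consequences
-/

set_option autoImplicit false
set_option linter.all false
set_option backward.isDefEq.respectTransparency false
set_option maxHeartbeats 1000000

universe u

open CategoryTheory AlgebraicGeometry Polynomial MonoidalCategory CartesianMonoidalCategory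
open scoped Classical ComplexConjugate MonObj CategoryTheory.Obj

noncomputable section

namespace GrothLib.TateThm

/-! ### Multisets of complex numbers on a circle -/

theorem count_map_conj (s : Multiset ℂ) (z : ℂ) : (s.map conj).count z = s.count (conj z) := by
  conv_lhs => rw [← Complex.conj_conj z]
  exact Multiset.count_map_eq_count' _ s (starRingEnd ℂ).injective (conj z)

theorem exists_half {r : ℝ} (hr : 0 < r) (s : Multiset ℂ) (hs : ∀ w ∈ s, ‖w‖ = r) (hconj : s.map conj = s)
    (hcard : Even (Multiset.card s)) (hprod : s.prod = (r : ℂ) ^ Multiset.card s) :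
    Even (s.count (r : ℂ)) ∧ Even (s.count (-r : ℂ)) ∧ ∃ T : Multiset ℂ, s = T + T.map conj := by
  have hr0 : (r : ℂ) ≠ 0 := Complex.ofReal_ne_zero.2 hr.ne'
  have hne : (r : ℂ) ≠ -r := fun h => hr0 (by linear_combination h / 2)
  set a := s.count (r : ℂ) with ha
  set b := s.count (-r : ℂ) with hb
  set u := s.filter fun z => 0 < z.im with hu
  have hdec : s = Multiset.replicate a (r : ℂ) + Multiset.replicate b (-r : ℂ) + (u + u.map conj) := by
    refine Multiset.ext.2 fun z => ?_
    have hc : s.count (conj z) = s.count z := by rw [← count_map_conj, hconj]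
    simp only [Multiset.count_add, Multiset.count_replicate, count_map_conj, hu, Multiset.count_filter, Complex.conj_im, hc]
    rcases lt_trichotomy z.im 0 with h | h | h
    · have h1 : (r : ℂ) ≠ z := fun e => h.ne (by rw [← e, Complex.ofReal_im])
      have h2 : -(r : ℂ) ≠ z := fun e => h.ne (by rw [← e, Complex.neg_im, Complex.ofReal_im, neg_zero])
      rw [if_neg h1, if_neg h2, if_neg h.not_gt, if_pos (neg_pos.2 h)]
      simp
    · rw [if_neg (show ¬ (0 < z.im) from not_lt.2 h.le), if_neg (show ¬ (0 < -z.im) by rw [h, neg_zero]; exact lt_irrefl 0)]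
      by_cases h1 : (r : ℂ) = z
      · rw [if_pos h1, if_neg (fun h2 => hne (h1.trans h2.symm)), ha, h1]; simp
      by_cases h2 : -(r : ℂ) = z
      · rw [if_neg h1, if_pos h2, hb, h2]; simp
      rw [if_neg h1, if_neg h2]
      refine (Multiset.count_eq_zero.2 fun hz => ?_).trans (by simp)
      have hn := hs z hz
      have hz2 : z = (z.re : ℂ) := Complex.ext (by simp) (by simp [h])
      rw [hz2, Complex.norm_real, Real.norm_eq_abs] at hn
      rcases eq_or_eq_neg_of_abs_eq hn with e | e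
      · exact h1 (by rw [hz2, e])
      · exact h2 (by rw [hz2, e, Complex.ofReal_neg])
    · have h1 : (r : ℂ) ≠ z := fun e => h.ne' (by rw [← e, Complex.ofReal_im])
      have h2 : -(r : ℂ) ≠ z := fun e => h.ne' (by rw [← e, Complex.neg_im, Complex.ofReal_im, neg_zero])
      rw [if_neg h1, if_neg h2, if_pos h, if_neg (show ¬ (0 < -z.im) by linarith)]
      simp
  have hun : ∀ w ∈ u, ‖w‖ = r := fun w hw => hs w (Multiset.mem_of_mem_filter hw)
  have hup : u.prod * (u.map conj).prod = (r : ℂ) ^ (2 * Multiset.card u) := by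
    rw [← map_multiset_prod, Complex.mul_conj', norm_prod_of_forall hun, ← Complex.ofReal_pow, ← pow_mul,
      mul_comm (Multiset.card u), Complex.ofReal_pow]
  have hN : Multiset.card s = a + b + 2 * Multiset.card u := by
    conv_lhs => rw [hdec]
    simp only [Multiset.card_add, Multiset.card_replicate, Multiset.card_map]
    ring
  have hP : (r : ℂ) ^ (a + b + 2 * Multiset.card u) =
      (r : ℂ) ^ (a + b + 2 * Multiset.card u) * (-1) ^ b := by
    conv_lhs => rw [← hN, ← hprod, hdec]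
    rw [Multiset.prod_add, Multiset.prod_add, Multiset.prod_add, Multiset.prod_replicate, Multiset.prod_replicate, hup,
      neg_pow (r : ℂ)]
    ring
  have hbe : Even b := (neg_one_pow_eq_one_iff_even (by norm_num : (-1 : ℂ) ≠ 1)).1
    (mul_left_cancel₀ (pow_ne_zero _ hr0) (hP.symm.trans (mul_one _).symm))
  have hae : Even a := by
    rw [hN, Nat.even_add, Nat.even_add] at hcard
    exact ((hcard.2 (even_two_mul _))).2 hbe
  refine ⟨hae, hbe, Multiset.replicate (a / 2) (r : ℂ) + Multiset.replicate (b / 2) (-r : ℂ) + u, ?_⟩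
  rw [Multiset.map_add, Multiset.map_add, Multiset.map_replicate, Multiset.map_replicate, map_neg, Complex.conj_ofReal]
  conv_lhs => rw [hdec, ← Nat.two_mul_div_two_of_even hae, ← Nat.two_mul_div_two_of_even hbe, two_mul (a / 2),
    two_mul (b / 2), Multiset.replicate_add, Multiset.replicate_add]
  abel

theorem eq_one_of_prod_ge_one (x : Multiset ℝ) (hpos : ∀ y ∈ x, 0 < y) (hprod : 1 ≤ x.prod) :
    (Multiset.card x : ℝ) ≤ x.sum ∧ (x.sum = Multiset.card x → ∀ y ∈ x, y = 1) := by
  have hlog : 0 ≤ (x.map Real.log).sum := by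
    rw [← Real.log_multiset_prod fun y hy => (hpos y hy).ne']
    exact Real.log_nonneg hprod
  have key : ∀ x : Multiset ℝ, (∀ y ∈ x, 0 < y) →
      (x.map Real.log).sum ≤ x.sum - Multiset.card x ∧
        ((x.map Real.log).sum = x.sum - Multiset.card x → ∀ y ∈ x, y = 1) := by
    intro x hx
    induction x using Multiset.induction_on with
    | empty => simp
    | cons a t ih =>
      obtain ⟨h1, h2⟩ := ih fun y hy => hx y (Multiset.mem_cons_of_mem hy)
      have ha := hx a (Multiset.mem_cons_self a t)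
      have hl := Real.log_le_sub_one_of_pos ha
      rw [Multiset.map_cons, Multiset.sum_cons, Multiset.sum_cons, Multiset.card_cons, Nat.cast_succ]
      refine ⟨by linarith, fun he => ?_⟩
      intro y hy
      rcases Multiset.mem_cons.1 hy with rfl | hy
      · by_contra hne
        linarith [Real.log_lt_sub_one_of_pos ha hne]
      · exact h2 (by linarith) y hy
  obtain ⟨h1, h2⟩ := key x hpos
  exact ⟨by linarith, fun he => h2 (by linarith)⟩

/-! ### The roots of the Frobenius polynomial -/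

variable {k Ω : Type u} [Field k] [Finite k] [Field Ω] [Algebra k Ω] [IsAlgClosure k Ω] {l : ℕ} [hl : Fact l.Prime]
variable (hlk : (l : k) ≠ 0)
variable {A : Over (Spec (CommRingCat.of k))} [GrpObj A] [IsCommMonObj A] [IsProper A.hom]
  [GeometricallyIntegral A.hom] {g : ℕ} (hg : topologicalKrullDim A.left = (g : WithBot ℕ∞))
variable (πA : A ⟶ A) [IsMonHom πA] (hπb : πA.left.base = 𝟙 _) (hAle : ∀ U : A.left.Opens, U ≤ πA.left ⁻¹ᵁ U)
  (hAapp : ∀ (U : A.left.Opens) (s : Γ(A.left, U)), (πA.left.appLE U U (hAle U)).hom s = s ^ Nat.card k)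
variable [Module.Free ℤ_[l] (AbDual.TateMod A l (SGA7.pt Ω))] [Module.Finite ℤ_[l] (AbDual.TateMod A l (SGA7.pt Ω))]
variable (P : ℤ[X])
  (hP : (AbDual.tateMapₗ (l := l) (T := SGA7.pt Ω) πA).charpoly = P.map (Int.castRingHom ℤ_[l]))

omit [Finite k] in
include hlk hg hP in
theorem monic_natDegree_eval_zero : P.Monic ∧ P.natDegree = 2 * g ∧ 0 ≤ P.eval 0 := by
  haveI : IsAlgClosed Ω := IsAlgClosure.isAlgClosed k
  obtain ⟨Q, hQm, hQd, hQv, hQc⟩ :=
    DegPoly.exists_int_charpoly_hom (Spec.map (CommRingCat.ofHom (algebraMap k Ω))) hg πA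
  have h : P = Q := Polynomial.map_injective (Int.castRingHom ℤ_[l]) (RingHom.injective_int _)
    (hP.symm.trans (hQc l hlk))
  subst h
  refine ⟨hQm, hQd, ?_⟩
  by_cases hf : IsFinite (πA * 𝟙 A ^ (-(0 : ℤ))).left
  · obtain ⟨a⟩ : Nonempty A.left := ⟨(MonObj.one (X := A)).left.base (IsLocalRing.closedPoint k)⟩
    rw [← (hQv 0).1 hf a]
    exact Int.natCast_nonneg _
  · exact ((hQv 0).2 hf).ge

include hlk hg hπb hAle hAapp hP in
/-- The roots: `2g` of them, of absolute value `√q`, in `g` conjugate pairs. -/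
theorem exists_root_pairs :
    (∀ w ∈ (P.map (Int.castRingHom ℂ)).roots, ‖w‖ = Real.sqrt (Nat.card k)) ∧
      (P.map (Int.castRingHom ℂ)).roots.prod = (Nat.card k : ℂ) ^ g ∧
      Even ((P.map (Int.castRingHom ℂ)).roots.count (Real.sqrt (Nat.card k) : ℂ)) ∧
      Even ((P.map (Int.castRingHom ℂ)).roots.count (-Real.sqrt (Nat.card k) : ℂ)) ∧
      ∃ T : Multiset ℂ, Multiset.card T = g ∧ (P.map (Int.castRingHom ℂ)).roots = T + T.map conj := by
  obtain ⟨hm, hd, h0⟩ := monic_natDegree_eval_zero hlk hg πA P hP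
  set Q := P.map (Int.castRingHom ℂ) with hQ
  set r := Real.sqrt (Nat.card k) with hr
  have hrpos : 0 < r := Real.sqrt_pos.2 (Nat.cast_pos.2 Nat.card_pos)
  have hs : ∀ w ∈ Q.roots, ‖w‖ = r := fun w hw =>
    RHyp.norm_root_charpoly πA hπb hAle hAapp l hlk P hP (Polynomial.isRoot_of_mem_roots hw)
  have hsp : Q.Splits := IsAlgClosed.splits Q
  have hcard : Multiset.card Q.roots = 2 * g := by
    rw [← hsp.natDegree_eq_card_roots, hm.natDegree_map, hd]
  have hconj : Q.roots.map conj = Q.roots := by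
    rw [← hsp.roots_map (starRingEnd ℂ), hQ, Polynomial.map_map,
      Subsingleton.elim ((starRingEnd ℂ).comp (Int.castRingHom ℂ)) (Int.castRingHom ℂ)]
  have hev : Q.roots.prod = ((P.eval 0 : ℤ) : ℂ) := by
    have h1 := hsp.eq_prod_roots_of_monic (hm.map _)
    have h2 : Q.eval 0 = (Q.roots.map fun a => ((X : ℂ[X]) - C a).eval 0).prod := by
      conv_lhs => rw [h1, eval_multiset_prod, Multiset.map_map]
      rfl
    simp only [eval_sub, eval_X, eval_C, zero_sub] at h2
    rw [Multiset.prod_map_neg, hcard, pow_mul, neg_one_sq, one_pow, one_mul, hQ, ← map_zero (Int.castRingHom ℂ),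
      Polynomial.eval_map_apply] at h2
    exact h2.symm
  have hprod : Q.roots.prod = (r : ℂ) ^ Multiset.card Q.roots := by
    have h1 := norm_prod_of_forall hs
    rw [hev, Complex.norm_intCast, abs_of_nonneg (Int.cast_nonneg h0)] at h1
    rw [hev, ← Complex.ofReal_pow, ← h1, Complex.ofReal_intCast]
  obtain ⟨ha, hb, T, hT⟩ := exists_half hrpos Q.roots hs hconj ⟨g, by rw [hcard, two_mul]⟩ hprod
  refine ⟨hs, ?_, ha, hb, T, ?_, hT⟩
  · rw [hprod, hcard, pow_mul, ← Complex.ofReal_pow, Real.sq_sqrt (Nat.cast_nonneg _), Complex.ofReal_natCast]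
  · have := congrArg Multiset.card hT
    rw [hcard, Multiset.card_add, Multiset.card_map] at this
    omega

include hlk hg hπb hAle hAapp hP in
/-- The product of `c - 2 Re w` over the pairs has absolute value at least one. -/
theorem one_le_abs_prod_sub (c : ℤ) (T : Multiset ℂ) (hT : (P.map (Int.castRingHom ℂ)).roots = T + T.map conj)
    (hc : ∀ w ∈ T, (c : ℝ) - 2 * w.re ≠ 0) : 1 ≤ |(T.map fun w => (c : ℝ) - 2 * w.re).prod| := by
  obtain ⟨hs, hprod, -, -, -⟩ := exists_root_pairs hlk hg πA hπb hAle hAapp P hP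
  obtain ⟨hm, hd, -⟩ := monic_natDegree_eval_zero hlk hg πA P hP
  set Q := P.map (Int.castRingHom ℂ) with hQ
  set f : ℤ[X] := X ^ 2 - C c * X + C (Nat.card k : ℤ) with hf
  set x : ℂ → ℂ := fun w => (c : ℂ) - (w + conj w) with hx
  set Y := (T.map fun w => (c : ℝ) - 2 * w.re).prod with hY
  have hYx : (Y : ℂ) = (T.map x).prod := by
    rw [hY, ← Complex.coe_algebraMap, map_multiset_prod, Multiset.map_map]
    refine congrArg _ (Multiset.map_congr rfl fun w _ => ?_)
    simp [hx, Complex.add_conj]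
  have hfw : ∀ w ∈ Q.roots, (f.map (Int.castRingHom ℂ)).eval w = -w * x w := fun w hw => by
    have hq : (w * conj w : ℂ) = (Nat.card k : ℂ) := by
      rw [Complex.mul_conj', hs w hw, ← Complex.ofReal_pow, Real.sq_sqrt (Nat.cast_nonneg _), Complex.ofReal_natCast]
    simp only [hf, hx, Polynomial.map_add, Polynomial.map_sub, Polynomial.map_mul, Polynomial.map_pow, Polynomial.map_X,
      Polynomial.map_C, eval_add, eval_sub, eval_mul, eval_pow, eval_X, eval_C, Int.coe_castRingHom, Int.cast_natCast]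
    rw [← hq]
    ring
  have hres : ((resultant P f P.natDegree f.natDegree : ℤ) : ℂ) = (Nat.card k : ℂ) ^ g * (Y : ℂ) ^ 2 := by
    rw [← eq_intCast (Int.castRingHom ℂ), ← resultant_map_map, ← hQ, ← hm.natDegree_map (Int.castRingHom ℂ),
      resultant_eq_prod_eval Q (f.map (Int.castRingHom ℂ)) _ natDegree_map_le (IsAlgClosed.splits Q),
      (hm.map _).leadingCoeff, one_pow, one_mul, Multiset.map_congr rfl hfw, Multiset.prod_map_mul,
      Multiset.prod_map_neg, hprod]
    have hc2 : Even (Multiset.card Q.roots) := by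
      rw [← (IsAlgClosed.splits Q).natDegree_eq_card_roots, hm.natDegree_map, hd]; exact even_two_mul g
    rw [hc2.neg_one_pow, one_mul, hT, Multiset.map_add, Multiset.prod_add, Multiset.map_map, hYx, sq]
    congr 2
    refine congrArg _ (Multiset.map_congr rfl fun w _ => ?_)
    simp [hx, add_comm]
  have hint : IsIntegral ℤ ((Y : ℂ) ^ 2) := by
    refine IsIntegral.pow ?_ 2
    rw [hYx]
    refine IsIntegral.multiset_prod fun z hz => ?_
    obtain ⟨w, hw, rfl⟩ := Multiset.mem_map.1 hz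
    have hroot : ∀ v ∈ Q.roots, IsIntegral ℤ v := fun v hv =>
      ⟨P, hm, by rw [← Polynomial.eval_map]; exact Polynomial.isRoot_of_mem_roots hv⟩
    refine (isIntegral_algebraMap (R := ℤ) (x := c)).sub ((hroot w ?_).add (hroot (conj w) ?_))
    · rw [hT]; exact Multiset.mem_add.2 (Or.inl hw)
    · rw [hT]; exact Multiset.mem_add.2 (Or.inr (Multiset.mem_map_of_mem _ hw))
  have hq0 : (Nat.card k : ℂ) ^ g ≠ 0 := pow_ne_zero _ (Nat.cast_ne_zero.2 Nat.card_pos.ne')
  set z : ℚ := ((resultant P f P.natDegree f.natDegree : ℤ) : ℚ) / (Nat.card k : ℚ) ^ g with hz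
  have hzY : algebraMap ℚ ℂ z = (Y : ℂ) ^ 2 := by
    rw [hz, map_div₀, map_pow, map_intCast, map_natCast, hres, mul_div_cancel_left₀ _ hq0]
  obtain ⟨n, hn⟩ := IsIntegrallyClosed.isIntegral_iff.1
    ((isIntegral_algebraMap_iff (algebraMap ℚ ℂ).injective).1 (hzY.symm ▸ hint : IsIntegral ℤ (algebraMap ℚ ℂ z)))
  have hnY : (n : ℝ) = Y ^ 2 := Complex.ofReal_injective (by
    rw [Complex.ofReal_pow, ← hzY, ← hn, Complex.ofReal_intCast]
    simp)
  have hY0 : Y ≠ 0 := Multiset.prod_ne_zero fun h => by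
    obtain ⟨w, hw, hw0⟩ := Multiset.mem_map.1 h
    exact hc w hw hw0
  have hn1 : (1 : ℤ) ≤ n := by
    have : (0 : ℝ) < n := by rw [hnY]; positivity
    exact_mod_cast this
  have h1 : (1 : ℝ) ≤ Y ^ 2 := by rw [← hnY]; exact_mod_cast hn1
  exact one_le_sq_iff_one_le_abs Y |>.1 h1

include hlk hg hπb hAle hAapp hP in
/-- **The trace bound and its equality case.** -/
theorem abs_nextCoeff_le :
    |(P.nextCoeff : ℝ)| ≤ (g : ℝ) * (⌊2 * Real.sqrt (Nat.card k)⌋ : ℝ) ∧
      (|(P.nextCoeff : ℝ)| = (g : ℝ) * (⌊2 * Real.sqrt (Nat.card k)⌋ : ℝ) ↔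
        (P = (X ^ 2 - C ⌊2 * Real.sqrt (Nat.card k)⌋ * X + C (Nat.card k : ℤ)) ^ g ∨
          P = (X ^ 2 + C ⌊2 * Real.sqrt (Nat.card k)⌋ * X + C (Nat.card k : ℤ)) ^ g)) := by
  obtain ⟨hs, hprod, -, -, T, hTg, hT⟩ := exists_root_pairs hlk hg πA hπb hAle hAapp P hP
  obtain ⟨hm, hd, -⟩ := monic_natDegree_eval_zero hlk hg πA P hP
  set Q := P.map (Int.castRingHom ℂ) with hQ
  set m := ⌊2 * Real.sqrt (Nat.card k)⌋ with hmdef
  have hsum : (P.nextCoeff : ℝ) = -(T.map fun w => 2 * w.re).sum := by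
    refine Complex.ofReal_injective ?_
    have h1 : (P.nextCoeff : ℂ) = Q.nextCoeff := by
      rw [hQ, Polynomial.nextCoeff_map (RingHom.injective_int _), eq_intCast]
    have h2 : Q.nextCoeff = -Q.roots.sum := by
      conv_lhs => rw [(IsAlgClosed.splits Q).eq_prod_roots_of_monic (hm.map _)]
      exact Polynomial.multiset_prod_X_sub_C_nextCoeff _
    rw [Complex.ofReal_intCast, h1, h2, hT, Complex.ofReal_neg, Multiset.sum_add, ← Complex.coe_algebraMap,
      map_multiset_sum, Multiset.map_map]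
    nth_rw 1 [← Multiset.map_id T]
    rw [← Multiset.sum_map_add]
    refine congrArg Neg.neg (congrArg Multiset.sum (Multiset.map_congr rfl fun w _ => ?_))
    simp [Complex.add_conj]
  have hre : ∀ w ∈ T, |2 * w.re| < (m : ℝ) + 1 := fun w hw => by
    have h1 := Complex.abs_re_le_norm w
    rw [hs w (hT ▸ Multiset.mem_add.2 (Or.inl hw))] at h1
    have h2 := Int.lt_floor_add_one (2 * Real.sqrt (Nat.card k))
    rw [abs_mul, abs_two]
    linarith
  -- the two one-sided bounds
  have hside : ∀ e : ℤ, e = 1 ∨ e = -1 →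
      -((g : ℝ) * m) ≤ (e : ℝ) * P.nextCoeff ∧ ((e : ℝ) * P.nextCoeff = -((g : ℝ) * m) →
        P = (X ^ 2 - C (e * m) * X + C (Nat.card k : ℤ)) ^ g) := by
    intro e he
    set x := T.map fun w => (m : ℝ) + 1 - (e : ℝ) * (2 * w.re) with hxdef
    have he2 : (e : ℝ) * e = 1 := by rcases he with rfl | rfl <;> norm_num
    have hee : |(e : ℝ)| = 1 := by rcases he with rfl | rfl <;> norm_num
    have hpos : ∀ y ∈ x, 0 < y := fun y hy => by
      obtain ⟨w, hw, rfl⟩ := Multiset.mem_map.1 hy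
      have h1 := le_abs_self ((e : ℝ) * (2 * w.re))
      rw [abs_mul, hee, one_mul] at h1
      linarith [hre w hw]
    have hge : 1 ≤ x.prod := by
      have hx : ∀ w : ℂ, (m : ℝ) + 1 - (e : ℝ) * (2 * w.re) = (e : ℝ) * ((((e * (m + 1) : ℤ)) : ℝ) - 2 * w.re) := fun w => by
        push_cast; rw [mul_sub, ← mul_assoc (e : ℝ) (e : ℝ), he2, one_mul]
      have h1 := one_le_abs_prod_sub hlk hg πA hπb hAle hAapp P hP (e * (m + 1)) T hT fun w hw h0 => by
        have := hpos _ (Multiset.mem_map_of_mem _ hw)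
        rw [hx, h0, mul_zero] at this
        exact lt_irrefl _ this
      have h2 : |x.prod| = |(T.map fun w => ((((e * (m + 1) : ℤ)) : ℝ) - 2 * w.re)).prod| := by
        rw [hxdef, Multiset.map_congr rfl fun w _ => hx w, Multiset.prod_map_mul, Multiset.map_const', Multiset.prod_replicate,
          abs_mul, abs_pow, hee, one_pow, one_mul]
      rw [← h2, abs_of_nonneg (Multiset.prod_nonneg fun y hy => (hpos y hy).le)] at h1
      exact h1
    obtain ⟨h1, h2⟩ := eq_one_of_prod_ge_one x hpos hge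
    have hxs : x.sum = (g : ℝ) * ((m : ℝ) + 1) + (e : ℝ) * P.nextCoeff := by
      rw [hxdef, Multiset.sum_map_sub, Multiset.map_const', Multiset.sum_replicate, Multiset.sum_map_mul_left, hTg,
        nsmul_eq_mul, hsum]
      ring
    rw [hxdef, Multiset.card_map, hTg] at h1 h2
    rw [← hxdef] at h1 h2
    refine ⟨by linarith, fun heq => ?_⟩
    have hall := h2 (by linarith)
    refine Polynomial.map_injective (Int.castRingHom ℂ) (RingHom.injective_int _) ?_
    rw [← hQ, (IsAlgClosed.splits Q).eq_prod_roots_of_monic (hm.map _), hT, Multiset.map_add, Multiset.prod_add,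
      Multiset.map_map, ← Multiset.prod_map_mul, Multiset.map_congr rfl (g := fun _ =>
        (X ^ 2 - C ((e * m : ℤ) : ℂ) * X + C (Nat.card k : ℂ) : ℂ[X])) fun w hw => ?_]
    · rw [Multiset.map_const', Multiset.prod_replicate, hTg]
      simp
    have hw2 : 2 * w.re = ((e * m : ℤ) : ℝ) := by
      have h := congrArg (fun z => (e : ℝ) * z) (hall _ (Multiset.mem_map_of_mem _ hw))
      simp only [mul_sub, ← mul_assoc (e : ℝ) (e : ℝ), he2, one_mul, mul_one] at h
      push_cast
      linarith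
    have hnw : w * conj w = (Nat.card k : ℂ) := by
      rw [Complex.mul_conj', hs w (hT ▸ Multiset.mem_add.2 (Or.inl hw)), ← Complex.ofReal_pow,
        Real.sq_sqrt (Nat.cast_nonneg _), Complex.ofReal_natCast]
    have hsw : w + conj w = ((e * m : ℤ) : ℂ) := by
      rw [Complex.add_conj, hw2, Complex.ofReal_intCast]
    simp only [Function.comp_apply]
    rw [← hsw, ← hnw, C_add, C_mul]
    ring
  obtain ⟨hp1, hp2⟩ := hside 1 (Or.inl rfl)
  obtain ⟨hn1, hn2⟩ := hside (-1) (Or.inr rfl)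
  simp only [Int.cast_one, one_mul, Int.cast_neg, neg_mul, neg_le_neg_iff, neg_inj] at hp1 hp2 hn1 hn2
  refine ⟨abs_le.2 ⟨hp1, hn1⟩, ⟨fun h => ?_, ?_⟩⟩
  · have hm0 : (0 : ℝ) ≤ (g : ℝ) * m := mul_nonneg (Nat.cast_nonneg _)
      (Int.cast_nonneg (Int.floor_nonneg.2 (by positivity)))
    rcases (abs_eq hm0).1 h with h | h
    · refine Or.inr ((hn2 h).trans ?_)
      rw [map_neg, neg_mul, sub_neg_eq_add]
    · exact Or.inl (hp2 h)
  · have hm0 : (0 : ℝ) ≤ (g : ℝ) * m := mul_nonneg (Nat.cast_nonneg _)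
      (Int.cast_nonneg (Int.floor_nonneg.2 (by positivity)))
    have key : ∀ c : ℤ, P = (X ^ 2 + C c * X + C (Nat.card k : ℤ)) ^ g → (P.nextCoeff : ℝ) = (g : ℝ) * c := by
      intro c hc
      have hmon : (X ^ 2 + C c * X + C (Nat.card k : ℤ) : ℤ[X]).Monic := by monicity!
      have hdeg : (X ^ 2 + C c * X + C (Nat.card k : ℤ) : ℤ[X]).natDegree = 2 := by compute_degree!
      rw [hc, hmon.nextCoeff_pow, Polynomial.nextCoeff_of_natDegree_pos (by omega), hdeg, nsmul_eq_mul]
      simp
    rintro (h | h)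
    · rw [key (-m) (by rw [h, map_neg, neg_mul, ← sub_eq_add_neg]), Int.cast_neg, mul_neg, abs_neg, abs_of_nonneg hm0]
    · rw [key m h, abs_of_nonneg hm0]

/-! ### The functional equation -/

theorem prod_zpow_neg_one_pow {a : ℂ} (ha : a ≠ 0) : ∀ {s : Multiset ℂ}, s ≠ 0 →
    (s.powerset.map fun I => a ^ ((-1 : ℤ) ^ Multiset.card I)).prod = 1 := by
  intro s
  induction s using Multiset.induction_on with
  | empty => intro h; exact absurd rfl h
  | cons b t _ =>
    intro _
    rw [Multiset.powerset_cons, Multiset.map_add, Multiset.prod_add, Multiset.map_map, ← Multiset.prod_map_mul]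
    refine Multiset.prod_eq_one fun y hy => ?_
    obtain ⟨I, -, rfl⟩ := Multiset.mem_map.1 hy
    rw [Function.comp_apply, Multiset.card_cons, pow_succ, mul_neg_one, zpow_neg,
      mul_inv_cancel₀ (zpow_ne_zero _ ha)]

theorem prod_mul_prod_zpow (c : ℂ) (hc : c ≠ 0) {s : Multiset ℂ} (hs : ∀ w ∈ s, w ≠ 0) (h2 : 2 ≤ Multiset.card s) :
    (s.powerset.map fun I => (c * I.prod) ^ ((-1 : ℤ) ^ (Multiset.card I + 1))).prod = 1 := by
  obtain ⟨a, t, rfl⟩ : ∃ a t, s = a ::ₘ t := by
    obtain ⟨a, ha⟩ := Multiset.card_pos_iff_exists_mem.1 (lt_of_lt_of_le Nat.zero_lt_two h2)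
    obtain ⟨t, ht⟩ := Multiset.exists_cons_of_mem ha
    exact ⟨a, t, ht⟩
  have ht : t ≠ 0 := fun h => by rw [h] at h2; simp at h2
  have ha : a ≠ 0 := hs a (Multiset.mem_cons_self a t)
  rw [Multiset.powerset_cons, Multiset.map_add, Multiset.prod_add, Multiset.map_map, ← Multiset.prod_map_mul,
    Multiset.map_congr rfl (g := fun I => a ^ ((-1 : ℤ) ^ Multiset.card I)) fun I hI => ?_]
  · exact prod_zpow_neg_one_pow ha ht
  have hI0 : I.prod ≠ 0 := Multiset.prod_ne_zero fun h0 =>
    hs 0 (Multiset.mem_cons_of_mem (Multiset.mem_of_le (Multiset.mem_powerset.1 hI) h0)) rfl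
  have he : ((-1 : ℤ) ^ (Multiset.card I + 1 + 1)) = (-1) ^ Multiset.card I := by rw [pow_succ, pow_succ]; ring
  rw [Function.comp_apply, Multiset.card_cons, he, pow_succ, mul_neg_one, zpow_neg, Multiset.prod_cons,
    show c * (a * I.prod) = a * (c * I.prod) from mul_left_comm _ _ _, mul_zpow a (c * I.prod), ← mul_assoc, mul_comm (_ : ℂ)⁻¹,
    mul_assoc, inv_mul_cancel₀ (zpow_ne_zero _ (mul_ne_zero hc hI0)), mul_one]

theorem prod_range_powersetCard {s : Multiset ℂ} {n : ℕ} (hs : Multiset.card s = n) (u : ℂ) :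
    ∏ j ∈ Finset.range (n + 1), (Polynomial.eval u (((s.powersetCard j).map
        (fun I => (1 : Polynomial ℂ) - Polynomial.C I.prod * Polynomial.X)).prod : Polynomial ℂ)) ^ ((-1 : ℤ) ^ (j + 1)) =
      (s.powerset.map fun I => (1 - I.prod * u) ^ ((-1 : ℤ) ^ (Multiset.card I + 1))).prod := by
  conv_rhs => rw [← Multiset.bind_powerset_len, hs, Multiset.map_bind, Multiset.prod_bind]
  refine congrArg Multiset.prod (Multiset.map_congr rfl fun j _ => ?_)
  rw [eval_multiset_prod, Multiset.map_map, ← Multiset.prod_map_zpow]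
  refine congrArg Multiset.prod (Multiset.map_congr rfl fun I hI => ?_)
  simp [(Multiset.mem_powersetCard.1 hI).2]

include hlk hg hπb hAle hAapp hP in
theorem functional_equation (hg1 : 1 ≤ g) (t : ℂ) (ht : t ≠ 0) :
    ∏ j ∈ Finset.range (2 * g + 1), (Polynomial.eval (((Nat.card k : ℂ) ^ g * t)⁻¹) ((((P.map (Int.castRingHom ℂ)).roots.powersetCard j).map
          (fun I => (1 : Polynomial ℂ) - Polynomial.C I.prod * Polynomial.X)).prod : Polynomial ℂ)) ^ ((-1 : ℤ) ^ (j + 1)) =
      ∏ j ∈ Finset.range (2 * g + 1), (Polynomial.eval t ((((P.map (Int.castRingHom ℂ)).roots.powersetCard j).map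
          (fun I => (1 : Polynomial ℂ) - Polynomial.C I.prod * Polynomial.X)).prod : Polynomial ℂ)) ^ ((-1 : ℤ) ^ (j + 1)) := by
  obtain ⟨hs, hprod, -, -, T, hTg, hT⟩ := exists_root_pairs hlk hg πA hπb hAle hAapp P hP
  set s := (P.map (Int.castRingHom ℂ)).roots with hsdef
  have hcard : Multiset.card s = 2 * g := by rw [hT, Multiset.card_add, Multiset.card_map, hTg, two_mul]
  rw [prod_range_powersetCard hcard, prod_range_powersetCard hcard]
  set u := ((Nat.card k : ℂ) ^ g * t)⁻¹ with hu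
  have hu0 : u ≠ 0 := inv_ne_zero (mul_ne_zero (pow_ne_zero _ (Nat.cast_ne_zero.2 Nat.card_pos.ne')) ht)
  have hne : ∀ w ∈ s, w ≠ 0 := fun w hw h0 => by
    have h := hs w hw
    rw [h0, norm_zero] at h
    exact (Real.sqrt_pos.2 (Nat.cast_pos.2 (Nat.card_pos (α := k)))).ne h
  have hmid : ((Multiset.antidiagonal s).map fun p =>
      (1 - p.2.prod * u) ^ ((-1 : ℤ) ^ (Multiset.card p.2 + 1))).prod =
      ((Multiset.antidiagonal s).map fun p =>
        ((-u) * p.2.prod) ^ ((-1 : ℤ) ^ (Multiset.card p.2 + 1)) * (1 - p.1.prod * t) ^ ((-1 : ℤ) ^ (Multiset.card p.1 + 1))).prod := by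
    refine congrArg Multiset.prod (Multiset.map_congr rfl fun p hp => ?_)
    have hadd := Multiset.mem_antidiagonal.1 hp
    have hpar : ((-1 : ℤ) ^ (Multiset.card p.1 + 1)) = (-1) ^ (Multiset.card p.2 + 1) := by
      refine neg_one_pow_congr ?_
      have h2 := congrArg Multiset.card hadd
      rw [Multiset.card_add, hcard] at h2
      simp only [Nat.even_iff]
      omega
    rw [hpar, ← mul_zpow]
    congr 1
    have h1 : p.1.prod * p.2.prod * (u * t) = 1 := by
      rw [← Multiset.prod_add, hadd, hprod, hu, mul_inv, mul_assoc _ t⁻¹, inv_mul_cancel₀ ht, mul_one,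
        mul_inv_cancel₀ (pow_ne_zero _ (Nat.cast_ne_zero.2 Nat.card_pos.ne'))]
    linear_combination -h1
  have e2 : ∀ F : Multiset ℂ → ℂ, (s.powerset.map F).prod = ((Multiset.antidiagonal s).map fun p => F p.2).prod := fun F => by
    rw [← Multiset.antidiagonal_map_snd, Multiset.map_map]; rfl
  have e1 : ∀ F : Multiset ℂ → ℂ, (s.powerset.map F).prod = ((Multiset.antidiagonal s).map fun p => F p.1).prod := fun F => by
    rw [← Multiset.antidiagonal_map_fst, Multiset.map_map]; rfl
  rw [e2, hmid, Multiset.prod_map_mul, ← e2 fun I => ((-u) * I.prod) ^ ((-1 : ℤ) ^ (Multiset.card I + 1)),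
    prod_mul_prod_zpow (-u) (neg_ne_zero.2 hu0) hne (by omega), one_mul,
    ← e1 fun I => (1 - I.prod * t) ^ ((-1 : ℤ) ^ (Multiset.card I + 1))]

end GrothLib.TateThm
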