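import Groth.Agent.Lib.CurveMult.VeryAmpleGenusZero

/-!
# Sections of high powers are generated by those of a fixed power
-/

set_option autoImplicit false
set_option linter.all false
set_option backward.isDefEq.respectTransparency false
set_option maxHeartbeats 1000000

universe u

open CategoryTheory CategoryTheory.Limits AlgebraicGeometry TopologicalSpace Opposite
open GrothLib.InvExt (mres)
open GrothLib.Ample (Cocycle res)

noncomputable section

namespace GrothLib.TateThm

variable {X : Scheme.{u}} (c : Cocycle X)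

/-- The product of two sections. -/
def mulSect {m n : ℕ} (a : c.sect m ⊤) (b : c.sect n ⊤) : c.sect (m + n) ⊤ :=
  ⟨fun i => a.1 i * b.1 i, fun i j W hi hj => by
    simp only [map_mul, c.sect_spec a i j hi hj, c.sect_spec b i j hi hj, pow_add]
    ring⟩

theorem mulSect_apply {m n : ℕ} (a : c.sect m ⊤) (b : c.sect n ⊤) (i : c.ι) :
    (mulSect c a b).1 i = a.1 i * b.1 i := rfl

variable (k : Type u) [Field k] [X.Over (Spec (CommRingCat.of k))]

include k in
/-- Sections of `twist (n+1)` are combinations of covering sections of degree one, granting vanishing. -/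
theorem exists_sum_sect_of_vanish [IsProper (X ↘ Spec (CommRingCat.of k))] {N : ℕ}
    (hvan : ∀ a, 1 ≤ a → ∀ j, 1 ≤ j → Subsingleton (Coh.HH X (c.twist a) j))
    (a : ℕ → c.sect 1 ⊤) (hcov : CMReg.Covers c a (N + 1)) {n : ℕ} (hn : N + 1 ≤ n) (B : c.sect (n + 1) ⊤) :
    ∃ s : Fin (N + 1) → c.sect n ⊤, ∀ i, B.1 i = ∑ l : Fin (N + 1), (a l).1 i * (s l).1 i := by
  haveI := Euler.isNoetherian_of_proper (X := X) k
  have hL : PicF.IsInvertible (c.twist 1) := c.isInvertible_twist 1
  obtain ⟨T, hT, ⟨eT⟩⟩ := Kodaira.exists_inverse hL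
  have hpow : ∀ s, Nonempty (CohB1.tensorPow (c.twist 1) s ≅ c.twist s) :=
    c.nonempty_tensorPow_iso (Iso.refl _)
  have hcT : Cube.clsMod hT * Cube.clsMod hL = 1 :=
    (Cube.clsMod_tensorMod hT hL).symm.trans
      ((Cube.clsMod_eq_one_iff (Ample.isInvertible_tensorMod hT hL)).2 ⟨eT⟩)
  have hcl : ∀ s, Cube.clsMod (c.isInvertible_twist s) = Cube.clsMod hL ^ s := fun s => by
    rw [← Cube.clsMod_tensorPow hL s]
    exact ((Cube.clsMod_eq_iff _ _).2 (hpow s)).symm
  let M₀ := CohB1.tensorMod (c.twist n) (CohB1.tensorPow T N)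
  have hM₀ : PicF.IsInvertible M₀ :=
    Ample.isInvertible_tensorMod (c.isInvertible_twist n) (Ample.isInvertible_tensorPow hT N)
  have hM₀c : Cube.clsMod hM₀ = Cube.clsMod hL ^ ((n : ℤ) - N) := by
    rw [Cube.clsMod_tensorMod (c.isInvertible_twist n) (Ample.isInvertible_tensorPow hT N), hcl,
      Cube.clsMod_tensorPow hT, eq_inv_of_mul_eq_one_left hcT, inv_pow, zpow_sub, zpow_natCast, zpow_natCast]
  have hN : ∀ (s : ℕ) (Q : X.Modules) (hQ : PicF.IsInvertible Q),
      Cube.clsMod hQ = Cube.clsMod hL ^ ((n : ℤ) - N + s) → Nonempty ((CMReg.twPow c s).obj M₀ ≅ Q) := by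
    intro s Q hQ hc
    obtain ⟨g⟩ := CMReg.nonempty_twPow_tensor c (Iso.refl (c.twist 1)) s M₀
    refine ((Cube.clsMod_eq_iff (Ample.isInvertible_tensorMod hM₀ (Ample.isInvertible_tensorPow hL s)) hQ).1 ?_).map
      (g ≪≫ ·)
    rw [Cube.clsMod_tensorMod hM₀ (Ample.isInvertible_tensorPow hL s), hM₀c, Cube.clsMod_tensorPow hL, hc,
      ← zpow_natCast, ← zpow_add]
  have hv : ∀ s, s < N → Subsingleton (Coh.HH X ((CMReg.twPow c s).obj M₀) (1 + (N - 1 - s))) := by
    intro s hs
    obtain ⟨g⟩ := hN s _ (c.isInvertible_twist (n - N + s)) (by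
      rw [hcl, ← zpow_natCast]; congr 1; omega)
    exact CMReg.subsingleton_of_iso g.symm (hvan _ (by omega) _ (Nat.le_add_right 1 _))
  obtain ⟨g⟩ := hN N _ (c.isInvertible_twist n) (by
    rw [hcl, ← zpow_natCast]; congr 1; omega)
  let t : c.msect (c.twist n) 1 ⊤ :=
    ⟨fun i => res (le_rfl : (⊤ : X.Opens) ⊓ c.D i ≤ ⊤ ⊓ c.D i) (B.1 i) • c.base n i inf_le_right,
      fun i j W hi hj => by
        rw [Ample.mres_smul', Ample.mres_smul', Ample.Cocycle.mres_twist, Ample.Cocycle.mres_twist,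
          c.sectRes_base, c.sectRes_base, c.base_eq_smul_base n i j (hi.trans inf_le_right) (hj.trans inf_le_right),
          smul_smul, smul_smul]
        congr 1
        simp only [Ample.res_res]
        rw [c.sect_spec B i j hi hj, pow_succ]
        ring⟩
  obtain ⟨s, hs⟩ := CMReg.exists_sum_transfer c a g.symm (fun z => by
    let α := CMReg.twCommIso c N M₀
    obtain ⟨s, hs⟩ := CMReg.exists_sum_twPow hcov M₀ hv (α.hom.app ⊤ z)
    refine ⟨s, ?_⟩
    apply (ConcreteCategory.bijective_of_isIso (α.hom.app ⊤)).1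
    rw [hs, map_sum]
    refine Finset.sum_congr rfl fun l _ => ?_
    rw [← CMReg.raise_twCommIso]
    rfl) (show Γ((CMReg.tw c).obj (c.twist n), ⊤) from t)
  refine ⟨fun l => s l, fun i => ?_⟩
  let κ : c.msect (c.twist n) 1 ⊤ →+ Γ(X, (⊤ : X.Opens) ⊓ c.D i) :=
    { toFun := fun u => res (le_inf le_rfl inf_le_right)
        ((show c.sect n ((⊤ : X.Opens) ⊓ c.D i) from u.1 i).1 i)
      map_zero' := map_zero _
      map_add' := fun u v => map_add _ _ _ }
  have ht : κ t = B.1 i := by
    show res _ ((res _ (B.1 i) • c.base n i inf_le_right).1 i) = _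
    rw [c.smul_apply, c.base_self, mul_one, Ample.res_res, Ample.res_res, Ample.res_self]
  rw [← ht, show t = _ from hs, map_sum]
  refine Finset.sum_congr rfl fun l _ => ?_
  show res _ ((res _ ((a l).1 i) • c.sectRes inf_le_left (s l)).1 i) = _
  rw [c.smul_apply, c.sectRes_apply, map_mul, Ample.res_res, Ample.res_res, Ample.res_res]
  exact congrArg₂ (· * ·) (Ample.res_self _ _) (Ample.res_self _ _)

include k in
/-- Sections of `twist (n+j)` are sums of products of sections of `twist n` and `twist j`, for large `n`. -/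
theorem mem_closure_mulSect [IsProper (X ↘ Spec (CommRingCat.of k))] {N : ℕ}
    (hvan : ∀ a, 1 ≤ a → ∀ j, 1 ≤ j → Subsingleton (Coh.HH X (c.twist a) j))
    (a : ℕ → c.sect 1 ⊤) (hcov : CMReg.Covers c a (N + 1)) {n : ℕ} (hn : N + 1 ≤ n) (j : ℕ)
    (B : c.sect (n + j) ⊤) :
    B ∈ AddSubmonoid.closure {B | ∃ (u : c.sect n ⊤) (v : c.sect j ⊤), B = mulSect c u v} := by
  induction j with
  | zero =>
    refine AddSubmonoid.subset_closure ⟨c.sectCast (add_zero n) B, ⟨fun _ => 1, fun i j W hi hj => by simp⟩,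
      c.sect_ext fun i => ?_⟩
    rw [mulSect_apply, Cocycle.sectCast_apply, mul_one]
  | succ j ih =>
    obtain ⟨s, hs⟩ := exists_sum_sect_of_vanish c k hvan a hcov (n := n + j) (hn.trans (Nat.le_add_right n j)) B
    let t : Fin (N + 1) → c.sect (n + (j + 1)) ⊤ := fun l => c.sectCast (by omega) (mulSect c (a l) (s l))
    have hB : B = ∑ l, t l := c.sect_ext fun i => by
      rw [hs i, AddSubgroup.val_finsetSum, Finset.sum_apply]
      rfl
    rw [hB]
    refine sum_mem fun l _ => ?_
    let F : c.sect (n + j) ⊤ →+ c.sect (n + (j + 1)) ⊤ :=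
      { toFun := fun u => c.sectCast (by omega) (mulSect c (a l) u)
        map_zero' := c.sect_ext fun i => by
          rw [Cocycle.sectCast_apply, mulSect_apply]; exact mul_zero _
        map_add' := fun u v => c.sect_ext fun i => by
          show (a l).1 i * (u.1 i + v.1 i) = (a l).1 i * u.1 i + (a l).1 i * v.1 i
          exact mul_add _ _ _ }
    show F (s l) ∈ _
    have h := AddSubmonoid.mem_map_of_mem F (ih (s l))
    rw [AddMonoidHom.map_mclosure] at h
    refine AddSubmonoid.closure_mono ?_ h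
    rintro _ ⟨_, ⟨u, v, rfl⟩, rfl⟩
    refine ⟨u, mulSect c v (a l), c.sect_ext fun i => ?_⟩
    show (a l).1 i * (u.1 i * v.1 i) = u.1 i * (v.1 i * (a l).1 i)
    ring

end GrothLib.TateThm
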