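import Groth.Agent.Lib.TateThm.Counts

/-!
# The structure of the endomorphism algebra in terms of Frobenius
-/

set_option autoImplicit false
set_option linter.all false
set_option backward.isDefEq.respectTransparency false
set_option maxHeartbeats 1000000

universe u

open CategoryTheory MonoidalCategory CartesianMonoidalCategory MonObj GrpObj AlgebraicGeometry AbDual
open Polynomial UniqueFactorizationMonoid
open scoped TensorProduct Classical

noncomputable section

namespace GrothLib.TateThm

section LinAlg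

variable {K : Type*} [Field K] {V : Type*} [AddCommGroup V] [Module K V] [FiniteDimensional K V]

/-- A semisimple endomorphism with squarefree characteristic polynomial is cyclic. -/
theorem minpoly_eq_charpoly_of_squarefree {π : Module.End K V} (hπ : π.IsSemisimple) (hsq : Squarefree π.charpoly) :
    minpoly K π = π.charpoly := by
  obtain ⟨J, _, p, hpm, hpi, e, he, hn⟩ := exists_normalForm π hπ
  refine (eq_of_monic_of_associated (LinearMap.charpoly_monic π) (minpoly.monic (Algebra.IsIntegral.isIntegral π))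
    (associated_of_dvd_dvd ?_ (LinearMap.minpoly_dvd_charpoly π))).symm
  have hnd := (squarefree_iff_nodup_normalizedFactors (LinearMap.charpoly_monic π).ne_zero).1 hsq
  rw [hn] at hnd
  have hinj : Function.Injective p := fun i j hij =>
    Multiset.inj_on_of_nodup_map hnd i (Finset.mem_univ_val i) j (Finset.mem_univ_val j) hij
  have hact : ∀ (f : K[X]) (v : V) (i : J), e (aeval π f v) i = aeval (AdjoinRoot.root (p i)) f * e v i := by
    intro f
    induction f using Polynomial.induction_on with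
    | C a =>
      intro v i
      rw [aeval_C, aeval_C, Module.algebraMap_end_apply, map_smul, Pi.smul_apply, Algebra.smul_def]
    | add a b ha hb => intro v i; rw [map_add, map_add, LinearMap.add_apply, map_add, Pi.add_apply, ha, hb, add_mul]
    | monomial n a ih =>
      intro v i
      rw [pow_succ, ← _root_.mul_assoc, map_mul (aeval π), map_mul (aeval (AdjoinRoot.root (p i))), Module.End.mul_apply,
        ih, aeval_X, aeval_X, he, _root_.mul_assoc]
  have hdiv : ∀ i, p i ∣ minpoly K π := fun i => by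
    rw [← AdjoinRoot.mk_eq_zero, ← AdjoinRoot.aeval_eq]
    have h := hact (minpoly K π) (e.symm (Pi.single i 1)) i
    rw [minpoly.aeval, LinearMap.zero_apply, map_zero, Pi.zero_apply, e.apply_symm_apply, Pi.single_eq_same,
      _root_.mul_one] at h
    exact h.symm
  have hprod : (∏ i, p i) ∣ minpoly K π := Fintype.prod_dvd_of_coprime (fun i j hij => by
    refine ((hpi i).coprime_iff_not_dvd).2 fun hd => hij (hinj ?_)
    exact eq_of_monic_of_associated (hpm i) (hpm j) ((hpi i).associated_of_dvd (hpi j) hd)) hdiv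
  refine dvd_trans ?_ hprod
  have := prod_normalizedFactors (LinearMap.charpoly_monic π).ne_zero
  rw [hn] at this
  exact this.symm.dvd

theorem eq_algebraMap_of_charpoly_eq {π : Module.End K V} (hπ : π.IsSemisimple) (c : K)
    (hc : π.charpoly = (X - Polynomial.C c) ^ Module.finrank K V) (v : V) : π v = c • v := by
  obtain ⟨J, _, p, hpm, hpi, e, he, hn⟩ := exists_normalForm π hπ
  have hp : ∀ i, p i = X - Polynomial.C c := fun i => by
    have hmem : p i ∈ normalizedFactors π.charpoly := by
      rw [hn]; exact Multiset.mem_map_of_mem p (Finset.mem_univ_val i)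
    rw [hc, normalizedFactors_pow, normalizedFactors_irreducible (irreducible_X_sub_C c),
      (monic_X_sub_C c).normalize_eq_self] at hmem
    exact Multiset.mem_singleton.1 (Multiset.mem_of_mem_nsmul hmem)
  refine e.injective (_root_.funext fun i => ?_)
  rw [he, map_smul, Pi.smul_apply, Algebra.smul_def]
  congr 1
  have h : aeval (AdjoinRoot.root (p i)) (p i) = 0 := by rw [AdjoinRoot.aeval_eq, AdjoinRoot.mk_self]
  have h2 : aeval (AdjoinRoot.root (p i)) (X - Polynomial.C c) = 0 :=
    (congrArg (aeval (AdjoinRoot.root (p i))) (hp i)).symm.trans h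
  rw [map_sub, aeval_X, aeval_C, sub_eq_zero] at h2
  exact h2

end LinAlg

variable {k Ω : Type u} [Field k] [Finite k] [Field Ω] [Algebra k Ω] [IsAlgClosure k Ω] {l : ℕ} [hl : Fact l.Prime]
variable (hlk : (l : k) ≠ 0)
variable {A : Over (Spec (CommRingCat.of k))} [GrpObj A] [IsCommMonObj A] [IsProper A.hom]
  [GeometricallyIntegral A.hom] {g : ℕ} (hg : topologicalKrullDim A.left = (g : WithBot ℕ∞))
variable (πA : A ⟶ A) [IsMonHom πA] (hAle : ∀ U : A.left.Opens, U ≤ πA.left ⁻¹ᵁ U)
  (hAapp : ∀ (U : A.left.Opens) (s : Γ(A.left, U)), (πA.left.appLE U U (hAle U)).hom s = s ^ Nat.card k)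
variable [Module.Free ℤ_[l] (TateMod A l (SGA7.pt Ω))] [Module.Finite ℤ_[l] (TateMod A l (SGA7.pt Ω))]
variable (P : ℤ[X]) (hP : (tateMapₗ (l := l) (T := SGA7.pt Ω) πA).charpoly = P.map (Int.castRingHom ℤ_[l]))

omit [Finite k] [IsCommMonObj A] [IsProper A.hom] [GeometricallyIntegral A.hom] in
theorem map_map_charpoly (Q : ℤ[X]) :
    (Q.map (Int.castRingHom ℤ_[l])).map (algebraMap ℤ_[l] ℚ_[l]) =
      (Q.map (Int.castRingHom ℚ)).map (algebraMap ℚ ℚ_[l]) := by
  rw [Polynomial.map_map, Polynomial.map_map]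
  exact congrArg (fun f => Polynomial.map f Q) (Subsingleton.elim _ _)

include hP in
theorem charpoly_baseChange_eq :
    ((tateMapₗ (l := l) (T := SGA7.pt Ω) πA).baseChange ℚ_[l]).charpoly =
      (P.map (Int.castRingHom ℚ)).map (algebraMap ℚ ℚ_[l]) := by
  rw [LinearMap.charpoly_baseChange, hP, map_map_charpoly]

include hP in
theorem monic_P : P.Monic := by
  refine Polynomial.monic_of_injective (RingHom.injective_int (Int.castRingHom ℤ_[l])) ?_
  rw [← hP]
  exact LinearMap.charpoly_monic _

include hlk hg hP in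
theorem natDegree_P : (P.map (Int.castRingHom ℚ)).natDegree = 2 * g := by
  haveI : IsAlgClosed Ω := IsAlgClosure.isAlgClosed k
  rw [(monic_P πA P hP).natDegree_map, ← (monic_P πA P hP).natDegree_map (Int.castRingHom ℤ_[l]), ← hP,
    LinearMap.charpoly_natDegree]
  exact AbTors.finrank_eq A (Spec.map (CommRingCat.ofHom (algebraMap k Ω))) l hlk hg

include hlk hAle hAapp hP in
/-- The dimension of `End⁰`. -/
theorem finrank_end0_eq : Module.finrank ℚ (EndAV.End0 A) =
    ∑ Q ∈ (normalizedFactors (P.map (Int.castRingHom ℚ))).toFinset,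
      (normalizedFactors (P.map (Int.castRingHom ℚ))).count Q *
        (normalizedFactors (P.map (Int.castRingHom ℚ))).count Q * Q.natDegree := by
  haveI : Module.Finite ℤ (EndAV.End A) := HomFG.finite_hom (A := A) (B := A)
  haveI : Module.Free ℤ (EndAV.End A) := HomFG.free_hom (A := A) (B := A)
  rw [Module.finrank_baseChange, show Module.finrank ℤ (EndAV.End A) = Module.finrank ℤ (EndAV.Hom A A) from
    (AddEquiv.toIntLinearEquiv (show EndAV.End A ≃+ EndAV.Hom A A from AddEquiv.refl _)).finrank_eq,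
    finrank_hom_eq_sum (Ω := Ω) hlk πA hAle hAapp πA hAle hAapp, charpoly_baseChange_eq πA P hP]
  have hne : P.map (Int.castRingHom ℚ) ≠ 0 := ((monic_P πA P hP).map _).ne_zero
  convert sum_count_map (L := ℚ_[l]) _ _ hne hne using 3

include hlk in
theorem finrank_end0_eq_homSpan :
    Module.finrank ℚ (EndAV.End0 A) = Module.finrank ℚ_[l] (homSpan l Ω A A) := by
  haveI : Module.Finite ℤ (EndAV.End A) := HomFG.finite_hom (A := A) (B := A)
  haveI : Module.Free ℤ (EndAV.End A) := HomFG.free_hom (A := A) (B := A)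
  rw [finrank_homSpan hlk, Module.finrank_baseChange]
  exact (AddEquiv.toIntLinearEquiv (show EndAV.End A ≃+ EndAV.Hom A A from AddEquiv.refl _)).finrank_eq

include hlk hg hAle hAapp hP in
theorem squarefree_iff_finrank :
    Squarefree (P.map (Int.castRingHom ℚ)) ↔ Module.finrank ℚ (EndAV.End0 A) = 2 * g := by
  have hne : P.map (Int.castRingHom ℚ) ≠ 0 := ((monic_P πA P hP).map _).ne_zero
  rw [squarefree_iff_nodup_normalizedFactors hne, Multiset.nodup_iff_count_le_one,
    finrank_end0_eq hlk πA hAle hAapp P hP]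
  have hdeg : ∑ Q ∈ (normalizedFactors (P.map (Int.castRingHom ℚ))).toFinset,
      (normalizedFactors (P.map (Int.castRingHom ℚ))).count Q * Q.natDegree = 2 * g := by
    obtain ⟨w, hw⟩ := prod_normalizedFactors hne
    have hd := congrArg Polynomial.natDegree hw
    rw [Polynomial.natDegree_mul (left_ne_zero_of_mul (hw ▸ hne)) w.ne_zero, Polynomial.natDegree_coe_units, add_zero,
      Polynomial.natDegree_multiset_prod _ (zero_notMem_normalizedFactors _), natDegree_P hlk hg πA P hP,
      Finset.sum_multiset_map_count] at hd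
    simpa only [smul_eq_mul] using hd
  constructor
  · intro h
    refine Eq.trans (Finset.sum_congr rfl fun Q hQ => ?_) hdeg
    rw [le_antisymm (h Q) (Multiset.one_le_count_iff_mem.2 (Multiset.mem_toFinset.1 hQ)), _root_.one_mul]
  · intro h Q
    by_contra hlt
    push Not at hlt
    have hmem : Q ∈ (normalizedFactors (P.map (Int.castRingHom ℚ))).toFinset :=
      Multiset.mem_toFinset.2 (Multiset.count_pos.1 (Nat.lt_of_le_of_lt (Nat.zero_le 1) hlt))
    refine absurd (hdeg.trans h.symm) (ne_of_lt (Finset.sum_lt_sum (fun R hR => ?_) ⟨Q, hmem, ?_⟩))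
    · exact Nat.mul_le_mul_right _ (Nat.le_mul_self _)
    · exact Nat.mul_lt_mul_of_pos_right (by nlinarith)
        (irreducible_of_normalized_factor Q (Multiset.mem_toFinset.1 hmem)).natDegree_pos

include hlk hg hAle hAapp hP in
/-- **`End` is commutative iff the Frobenius polynomial is squarefree.** -/
theorem commutative_iff :
    (∀ a b : EndAV.End A, a * b = b * a) ↔ Squarefree (P.map (Int.castRingHom ℚ)) := by
  haveI : IsAlgClosed Ω := IsAlgClosure.isAlgClosed k
  let σ := Spec.map (CommRingCat.ofHom (algebraMap k Ω))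
  let V := ℚ_[l] ⊗[ℤ_[l]] TateMod A l (SGA7.pt Ω)
  let T : Module.End ℚ_[l] V := (tateMapₗ (l := l) (T := SGA7.pt Ω) πA).baseChange ℚ_[l]
  have hss : T.IsSemisimple := Poincare.isSemisimple_frob_tate σ l hlk A πA hAle hAapp
  have hTpow : ∀ i : ℕ, tateQ l Ω A A (EndAV.End.of πA ^ i : EndAV.End A) = T ^ i := fun i => by
    induction i with
    | zero => exact tateQ_one
    | succ i ih => rw [pow_succ, pow_succ, tateQ_mul, ih]; rfl
  constructor
  · intro hc
    rw [squarefree_iff_finrank hlk hg πA hAle hAapp P hP, finrank_end0_eq_homSpan (Ω := Ω) hlk]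
    have hle : Module.finrank ℚ_[l] (homSpan l Ω A A) ≤ 2 * g := by
      let S : Submodule ℚ_[l] (Module.End ℚ_[l] V) :=
        Submodule.span ℚ_[l] (Set.range fun i : Fin (minpoly ℚ_[l] T).natDegree => T ^ (i : ℕ))
      have hS : ∀ f : ℚ_[l][X], aeval T f ∈ S := fun f => by
        rw [← Polynomial.modByMonic_add_div f (minpoly ℚ_[l] T), map_add, map_mul, minpoly.aeval, zero_mul, add_zero]
        by_cases h0 : f %ₘ minpoly ℚ_[l] T = 0
        · rw [h0, map_zero]; exact S.zero_mem
        rw [Polynomial.aeval_eq_sum_range' (Polynomial.natDegree_lt_natDegree h0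
          (Polynomial.degree_modByMonic_lt f (minpoly.monic (Algebra.IsIntegral.isIntegral T)))),
          ← Fin.sum_univ_eq_sum_range (fun i => (f %ₘ minpoly ℚ_[l] T).coeff i • T ^ i)]
        exact S.sum_mem fun i _ => S.smul_mem _ (Submodule.subset_span ⟨i, rfl⟩)
      have hsub : homSpan l Ω A A ≤ S := Submodule.span_le.2 (by
        rintro _ ⟨f, hf, rfl⟩
        obtain ⟨N, hN, hmem⟩ := exists_nsmul_mem_span_powers (Ω := Ω) hlk πA hAle hAapp (EndAV.End.of f) (hc _)
        have hmap : tateQ l Ω A A (N • EndAV.End.of f : EndAV.End A) ∈ S := by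
          have h2 : tateQ l Ω A A (N • EndAV.End.of f : EndAV.End A) ∈
              (Submodule.span ℤ (Set.range fun i : ℕ => EndAV.End.of πA ^ i)).map (tateQ l Ω A A) := ⟨_, hmem, rfl⟩
          rw [Submodule.map_span, ← Set.range_comp] at h2
          refine Submodule.span_le.2 ?_ (Submodule.span_le_restrictScalars ℤ ℚ_[l] _ h2)
          rintro _ ⟨i, rfl⟩
          show tateQ l Ω A A (EndAV.End.of πA ^ i : EndAV.End A) ∈ S
          rw [hTpow i, ← Polynomial.aeval_X_pow (R := ℚ_[l]) T]
          exact hS _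
        rw [map_nsmul, ← Nat.cast_smul_eq_nsmul ℚ_[l]] at hmap
        exact (S.smul_mem_iff (Nat.cast_ne_zero.2 hN.ne')).1 hmap)
      refine (Submodule.finrank_mono hsub).trans ((finrank_range_le_card _).trans ?_)
      rw [Fintype.card_fin, ← natDegree_P hlk hg πA P hP, ← Polynomial.natDegree_map (algebraMap ℚ ℚ_[l]),
        ← charpoly_baseChange_eq πA P hP]
      exact Polynomial.natDegree_le_of_dvd (LinearMap.minpoly_dvd_charpoly T) (LinearMap.charpoly_monic T).ne_zero
    refine le_antisymm hle ?_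
    rw [← finrank_end0_eq_homSpan (Ω := Ω) hlk, finrank_end0_eq hlk πA hAle hAapp P hP]
    have hne : P.map (Int.castRingHom ℚ) ≠ 0 := ((monic_P πA P hP).map _).ne_zero
    obtain ⟨w, hw⟩ := prod_normalizedFactors hne
    have hd := congrArg Polynomial.natDegree hw
    rw [Polynomial.natDegree_mul (left_ne_zero_of_mul (hw ▸ hne)) w.ne_zero, Polynomial.natDegree_coe_units, add_zero,
      Polynomial.natDegree_multiset_prod _ (zero_notMem_normalizedFactors _), natDegree_P hlk hg πA P hP,
      Finset.sum_multiset_map_count] at hd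
    rw [← hd]
    exact Finset.sum_le_sum fun Q _ => by
      rw [smul_eq_mul]; exact Nat.mul_le_mul_right _ (Nat.le_mul_self _)
  · intro hsq
    have hfr := (squarefree_iff_finrank hlk hg πA hAle hAapp P hP).1 hsq
    rw [finrank_end0_eq_homSpan (Ω := Ω) hlk] at hfr
    have hsq' : Squarefree T.charpoly := by
      rw [charpoly_baseChange_eq πA P hP]
      exact (PerfectField.separable_iff_squarefree.2 hsq).map.squarefree
    have hdeg : (minpoly ℚ_[l] T).natDegree = 2 * g := by
      rw [minpoly_eq_charpoly_of_squarefree hss hsq', charpoly_baseChange_eq πA P hP, Polynomial.natDegree_map,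
        natDegree_P hlk hg πA P hP]
    let S := Submodule.span ℚ_[l] (Set.range fun i : Fin (minpoly ℚ_[l] T).natDegree => T ^ (i : ℕ))
    haveI : FiniteDimensional ℚ_[l] (homSpan l Ω A A) := inferInstance
    have hS : S = homSpan l Ω A A := by
      refine Submodule.eq_of_le_of_finrank_eq (Submodule.span_le.2 ?_) ?_
      · rintro _ ⟨i, rfl⟩
        show T ^ (i : ℕ) ∈ homSpan l Ω A A
        rw [← hTpow]
        exact tateQ_mem _
      · rw [finrank_span_eq_card (linearIndependent_pow T), Fintype.card_fin, hdeg, hfr]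
    intro a b
    have hmem : ∀ c : EndAV.End A, ∃ f : ℚ_[l][X], aeval T f = tateQ l Ω A A c := fun c => by
      have h : tateQ l Ω A A c ∈ S := hS.ge (tateQ_mem c)
      have hle : S ≤ (aeval T : ℚ_[l][X] →ₐ[ℚ_[l]] _).range.toSubmodule := Submodule.span_le.2 (by
        rintro _ ⟨i, rfl⟩
        exact ⟨X ^ (i : ℕ), Polynomial.aeval_X_pow T⟩)
      exact hle h
    refine tateQ_injective (Ω := Ω) hlk ?_
    obtain ⟨f, hf⟩ := hmem a
    obtain ⟨f', hf'⟩ := hmem b
    rw [tateQ_mul, tateQ_mul, ← hf, ← hf', ← map_mul, ← map_mul, _root_.mul_comm]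

include hlk hg hAle hAapp hP in
/-- **When Frobenius is an integer.** -/
theorem frob_intCast_iff :
    (Module.finrank ℚ (EndAV.End0 A) = (2 * g) ^ 2 ↔ ∃ n : ℤ, EndAV.End.of πA = (n : EndAV.End A)) ∧
      ((∃ n : ℤ, EndAV.End.of πA = (n : EndAV.End A)) ↔ ∃ a : ℤ, P = (X - Polynomial.C a) ^ (2 * g)) := by
  haveI : IsAlgClosed Ω := IsAlgClosure.isAlgClosed k
  let σ := Spec.map (CommRingCat.ofHom (algebraMap k Ω))
  let V := ℚ_[l] ⊗[ℤ_[l]] TateMod A l (SGA7.pt Ω)
  let T : Module.End ℚ_[l] V := (tateMapₗ (l := l) (T := SGA7.pt Ω) πA).baseChange ℚ_[l]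
  have hss : T.IsSemisimple := Poincare.isSemisimple_frob_tate σ l hlk A πA hAle hAapp
  have hdimV : Module.finrank ℚ_[l] V = 2 * g := by
    rw [Module.finrank_baseChange]
    exact AbTors.finrank_eq A σ l hlk hg
  have hint : ∀ n : ℤ, tateQ l Ω A A (n : EndAV.End A) = (n : ℚ_[l]) • (1 : Module.End ℚ_[l] V) := fun n => by
    rw [show (n : EndAV.End A) = n • (1 : EndAV.End A) from (zsmul_one n).symm, map_zsmul, tateQ_one,
      ← Int.cast_smul_eq_zsmul ℚ_[l]]
  have hof : ∀ n : ℤ, T = (n : ℚ_[l]) • (1 : Module.End ℚ_[l] V) → EndAV.End.of πA = (n : EndAV.End A) := fun n hn => by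
    refine tateQ_injective (Ω := Ω) hlk ?_
    rw [hint, ← hn]
    rfl
  have hTc : ∀ c : ℚ_[l], T = c • (1 : Module.End ℚ_[l] V) → T.charpoly = (X - Polynomial.C c) ^ (2 * g) := fun c hc => by
    have h0 := LinearMap.charpoly_sub_smul (0 : Module.End ℚ_[l] V) (-c)
    rw [show (0 : Module.End ℚ_[l] V) - (-c) • 1 = c • 1 from LinearMap.ext fun v => by simp; exact neg_neg _, LinearMap.charpoly_zero, hdimV, Polynomial.X_pow_comp, map_neg,
      ← sub_eq_add_neg] at h0
    rw [hc]
    exact h0
  have hPint : ∀ a : ℤ, T.charpoly = (X - Polynomial.C (a : ℚ_[l])) ^ (2 * g) → P = (X - Polynomial.C a) ^ (2 * g) := fun a h => by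
    refine Polynomial.map_injective (Int.castRingHom ℚ_[l]) (RingHom.injective_int _) ?_
    rw [Polynomial.map_pow, Polynomial.map_sub, Polynomial.map_X, Polynomial.map_C, eq_intCast, ← h,
      charpoly_baseChange_eq πA P hP, Polynomial.map_map]
    exact congrArg (fun f => Polynomial.map f P) (Subsingleton.elim _ _)
  have h12 : (∃ n : ℤ, EndAV.End.of πA = (n : EndAV.End A)) → Module.finrank ℚ (EndAV.End0 A) = (2 * g) ^ 2 := by
    rintro ⟨n, hn⟩
    have hT : T = (n : ℚ_[l]) • (1 : Module.End ℚ_[l] V) :=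
      (hint n) ▸ (congrArg (tateQ l Ω A A) hn : _)
    have htop : homSpan l Ω A A = ⊤ := eq_top_iff.2 fun d _ => mem_homSpan_of_frob πA hAle hAapp πA hAle hAapp hlk d (by
      show d ∘ₗ T = T ∘ₗ d
      rw [hT, LinearMap.comp_smul, LinearMap.smul_comp]
      rfl)
    rw [finrank_end0_eq_homSpan (Ω := Ω) hlk, htop, finrank_top, Module.finrank_linearMap, hdimV, sq]
  have h21 : Module.finrank ℚ (EndAV.End0 A) = (2 * g) ^ 2 → ∃ n : ℤ, EndAV.End.of πA = (n : EndAV.End A) := by
    intro h
    rcases Nat.eq_zero_or_pos g with rfl | hgpos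
    · haveI : Subsingleton V := Module.finrank_zero_iff.1 hdimV
      exact ⟨0, hof 0 (LinearMap.ext fun v => Subsingleton.elim _ _)⟩
    rw [finrank_end0_eq_homSpan (Ω := Ω) hlk] at h
    have htop : homSpan l Ω A A = ⊤ := Submodule.eq_top_of_finrank_eq (by
      rw [h, Module.finrank_linearMap, hdimV, sq])
    have hcen : T ∈ Subalgebra.center ℚ_[l] (Module.End ℚ_[l] V) := Subalgebra.mem_center_iff.2 fun d =>
      frob_comm_of_mem_homSpan πA hAle hAapp πA hAle hAapp (htop ▸ Submodule.mem_top : d ∈ homSpan l Ω A A)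
    rw [Algebra.IsCentral.center_eq_bot] at hcen
    obtain ⟨c, hc⟩ := Algebra.mem_bot.1 hcen
    have hT : T = c • (1 : Module.End ℚ_[l] V) := hc.symm.trans (Algebra.algebraMap_eq_smul_one c)
    have hch := (hTc c hT).symm.trans (charpoly_baseChange_eq πA P hP)
    have h2 := congrArg Polynomial.nextCoeff hch
    rw [Polynomial.nextCoeff_map (algebraMap ℚ ℚ_[l]).injective, (monic_X_sub_C c).nextCoeff_pow,
      nextCoeff_X_sub_C, smul_neg, nsmul_eq_mul] at h2
    have hg0 : ((2 * g : ℕ) : ℚ_[l]) ≠ 0 := Nat.cast_ne_zero.2 (by omega)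
    let q : ℚ := -(P.map (Int.castRingHom ℚ)).nextCoeff / (2 * g : ℕ)
    have hq : algebraMap ℚ ℚ_[l] q = c := by
      rw [map_div₀, map_neg, ← h2, map_natCast, neg_neg, mul_div_cancel_left₀ _ hg0]
    have hroot : (P.map (Int.castRingHom ℚ)).IsRoot q := by
      have h3 : ((P.map (Int.castRingHom ℚ)).map (algebraMap ℚ ℚ_[l])).IsRoot (algebraMap ℚ ℚ_[l] q) := by
        rw [hq, ← hch, Polynomial.IsRoot.def, eval_pow, eval_sub, eval_X, eval_C, sub_self, zero_pow (by omega)]
      rw [Polynomial.IsRoot.def, Polynomial.eval_map_apply, map_eq_zero] at h3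
      exact h3
    obtain ⟨a, ha⟩ := IsIntegrallyClosed.isIntegral_iff.1 (show IsIntegral ℤ q from
      ⟨P, monic_P πA P hP, by
        rw [Polynomial.IsRoot.def, Polynomial.eval_map] at hroot
        exact hroot⟩)
    refine ⟨a, hof a ?_⟩
    rw [hT, ← hq, ← ha]
    simp
  refine ⟨⟨h21, h12⟩, ⟨?_, ?_⟩⟩
  · rintro ⟨n, hn⟩
    refine ⟨n, hPint n (hTc _ ?_)⟩
    exact (hint n) ▸ (congrArg (tateQ l Ω A A) hn : _)
  · rintro ⟨a, rfl⟩
    refine ⟨a, hof a (LinearMap.ext fun v => ?_)⟩
    rw [LinearMap.smul_apply, Module.End.one_apply]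
    refine eq_algebraMap_of_charpoly_eq hss (a : ℚ_[l]) ?_ v
    rw [charpoly_baseChange_eq πA _ hP, hdimV, Polynomial.map_pow, Polynomial.map_pow, Polynomial.map_sub,
      Polynomial.map_sub, Polynomial.map_X, Polynomial.map_X, Polynomial.map_C, Polynomial.map_C]
    simp

end GrothLib.TateThm
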